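import Groth.Agent.AzInvLib.Fixed
import Groth.Agent.HenselLib.Perm
import Groth.Agent.HenselLib.Local
import Mathlib.FieldTheory.PurelyInseparable.Basic
import Mathlib.RingTheory.LocalRing.ResidueField.Basic

/-! Rings with involution over a strictly henselian fixed ring. -/

namespace AzInvLib

universe u v

open IsLocalRing Polynomial

theorem henselianLocalRing_of_ringEquiv {A : Type u} {B : Type v} [CommRing A] [CommRing B]
    [HenselianLocalRing A] (e : A ≃+* B) : HenselianLocalRing B := by
  haveI : IsLocalRing B := e.isLocalRing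
  refine { is_henselian := fun f hf b h1 h2 => ?_ }
  have hev : ∀ (g : B[X]) (x : B), (g.map (e.symm : B →+* A)).eval (e.symm x) = e.symm (g.eval x) :=
    fun g x => Polynomial.eval_map_apply (e.symm : B →+* A) x
  obtain ⟨a, ha, ha'⟩ := HenselianLocalRing.is_henselian (f.map (e.symm : B →+* A)) (hf.map _) (e.symm b)
    (by
      rw [hev, IsLocalRing.mem_maximalIdeal, mem_nonunits_iff, isUnit_map_iff]
      exact h1)
    (by rw [Polynomial.derivative_map, hev]; exact h2.map e.symm)
  refine ⟨e a, ?_, ?_⟩
  · have h := hev f (e a)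
    rw [RingEquiv.symm_apply_apply] at h
    have h' : e.symm (f.eval (e a)) = 0 := by rw [← h]; exact ha
    exact (map_eq_zero_iff _ e.symm.injective).1 h'
  · have := ha'
    rw [IsLocalRing.mem_maximalIdeal, mem_nonunits_iff] at this ⊢
    intro hu
    apply this
    have h := hu.map e.symm
    rwa [map_sub, RingEquiv.symm_apply_apply] at h

theorem isSepClosed_of_ringEquiv {k : Type u} {K : Type v} [Field k] [Field K] [IsSepClosed k]
    (e : k ≃+* K) : IsSepClosed K := by
  letI : Algebra k K := (e : k →+* K).toAlgebra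
  haveI : Algebra.IsAlgebraic k K := ⟨fun x => by
    obtain ⟨a, rfl⟩ := e.surjective x
    exact isAlgebraic_algebraMap a⟩
  exact Algebra.IsAlgebraic.isSepClosed (F := k)

variable {S : Type u} {R : Type v} [CommRing S] [CommRing R] [Algebra S R] {lam : R ≃+* R}

/-- A local ring with involution over a strictly henselian fixed ring is strictly henselian. -/
theorem henselian_of_local [HenselianLocalRing S] [IsSepClosed (ResidueField S)] [IsLocalRing R]
    (hlam : Function.Involutive lam) (hS : RInv.IsFixedRing S R lam) :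
    HenselianLocalRing R ∧ IsSepClosed (ResidueField R) := by
  haveI := isIntegral hlam hS
  let S' := (algebraMap S R).range
  let e : S ≃+* S' := RingEquiv.ofBijective (algebraMap S R).rangeRestrict
    ⟨fun a b h => hS.1 (Subtype.ext_iff.1 h), RingHom.rangeRestrict_surjective _⟩
  haveI : HenselianLocalRing S' := henselianLocalRing_of_ringEquiv e
  haveI : Algebra.IsIntegral S' R := ⟨fun r => by
    obtain ⟨p, hp, hp'⟩ := Algebra.IsIntegral.isIntegral (R := S) r
    refine ⟨p.map (e : S →+* S'), hp.map _, ?_⟩
    rw [Polynomial.eval₂_map]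
    exact hp'⟩
  haveI : HenselianRing S' (maximalIdeal S') := inferInstance
  haveI h1 := HenselLib.henselianRing_map_of_isIntegral (A := S') (I := maximalIdeal S') (B := R)
  haveI : HenselianRing R (maximalIdeal R) := by
    refine HenselLib.henselianRing_of_le_radical (J := (maximalIdeal S').map (algebraMap S' R)) ?_
    rw [Ideal.radical_eq_sInf]
    refine le_sInf fun q ⟨hq, hqp⟩ => ?_
    haveI := hqp
    haveI : (q.comap (algebraMap S' R)).IsMaximal := by
      have hle := Ideal.map_le_iff_le_comap.1 hq
      rw [← (maximalIdeal.isMaximal S').eq_of_le (Ideal.IsPrime.comap (algebraMap S' R)).ne_top hle]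
      exact maximalIdeal.isMaximal S'
    haveI : q.IsMaximal := Ideal.isMaximal_of_isIntegral_of_isMaximal_comap (R := S') q inferInstance
    rw [IsLocalRing.eq_maximalIdeal (I := q) inferInstance]
  refine ⟨HenselLib.henselianLocalRing_of_henselianRing, ?_⟩
  haveI : IsLocalHom (algebraMap S R) := ⟨fun s hs => by
    by_contra hns
    have h : maximalIdeal S ≤ (maximalIdeal R).comap (algebraMap S R) := (comap_maximal hlam hS _).ge
    exact (IsLocalRing.mem_maximalIdeal _).1 (h ((IsLocalRing.mem_maximalIdeal _).2 hns)) hs⟩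
  haveI : Algebra.IsIntegral (ResidueField S) (ResidueField R) := ⟨fun x => by
    obtain ⟨r, rfl⟩ := residue_surjective x
    obtain ⟨p, hp, hp'⟩ := Algebra.IsIntegral.isIntegral (R := S) r
    refine ⟨p.map (residue S), hp.map _, ?_⟩
    rw [Polynomial.eval₂_map]
    have h := congrArg (residue R) hp'
    rw [Polynomial.hom_eval₂, map_zero] at h
    exact h⟩
  exact Algebra.IsAlgebraic.isSepClosed (F := ResidueField S)

/-- The split case. -/
theorem exists_prod_equiv [HenselianLocalRing S] [IsSepClosed (ResidueField S)]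
    (hlam : Function.Involutive lam) (hS : RInv.IsFixedRing S R lam) (h : ∃ r : R, IsUnit (r - lam r)) :
    ∃ e : R ≃ₐ[S] S × S, ∀ x, e (lam x) = (e x).swap := by
  obtain ⟨r, hr⟩ := h
  obtain ⟨b, hb0, hb1⟩ := exists_basis_one hlam hS hr
  obtain ⟨a, ha⟩ := add_mem_range hlam hS r
  obtain ⟨c, hc⟩ := mul_mem_range hlam hS r
  have hd : IsUnit (a * a - 4 * c) := by
    haveI := nontrivial hS
    haveI : Module.Finite S R := Module.Finite.of_basis b
    have h2 : IsUnit (algebraMap S R (a * a - 4 * c)) := by
      have e : algebraMap S R (a * a - 4 * c) = (r - lam r) * (r - lam r) := by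
        rw [map_sub, map_mul, map_mul, ha, hc, map_ofNat]; ring
      rw [e]; exact hr.mul hr
    by_contra hn
    obtain ⟨q, hq⟩ := Ideal.exists_maximal R
    refine hq.ne_top (q.eq_top_of_isUnit_mem ?_ h2)
    rw [← Ideal.mem_comap, comap_maximal hlam hS q]
    exact (IsLocalRing.mem_maximalIdeal _).2 hn
  let f : S[X] := X ^ 2 + (C (-a) * X + C c)
  have hf : f.Monic := Polynomial.monic_X_pow_add (Polynomial.degree_linear_le.trans_lt (by norm_num))
  have hfd : f.derivative = C 2 * X + C (-a) := by simp [f]; simp [map_ofNat]; ring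
  have hfe : ∀ x, f.eval x = x ^ 2 + (-a * x + c) := fun x => by simp [f]
  obtain ⟨θ, hθ⟩ : ∃ θ : ResidueField S, (f.map (residue S)).eval θ = 0 := by
    refine IsSepClosed.exists_root _ ?_ ?_
    · rw [hf.degree_map, show f.degree = ((2 : ℕ) : WithBot ℕ) from Polynomial.degree_eq_natDegree hf.ne_zero ▸ by
        rw [show f.natDegree = 2 from ?_]
        exact Polynomial.natDegree_add_eq_left_of_degree_lt
          ((Polynomial.degree_linear_le.trans_lt (by simp))) |>.trans (Polynomial.natDegree_X_pow 2)]
      norm_num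
    · rw [Polynomial.separable_def, Polynomial.derivative_map, hfd]
      obtain ⟨d, hd'⟩ := (hd.map (residue S)).exists_left_inv
      refine ⟨C (d * -4), C d * (C 2 * X + C (-residue S a)), ?_⟩
      simp only [f, Polynomial.map_add, Polynomial.map_mul, Polynomial.map_C, Polynomial.map_X,
        Polynomial.map_pow, Polynomial.map_neg, Polynomial.map_ofNat, map_neg, map_ofNat, map_mul]
      have e : C d * C (residue S (a * a - 4 * c)) = 1 := by rw [← map_mul, hd', map_one]
      simp only [map_sub, map_mul, map_ofNat] at e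
      linear_combination e
  obtain ⟨t0, rfl⟩ := residue_surjective θ
  obtain ⟨t, ht, -⟩ := HenselianLocalRing.is_henselian f hf t0 (by
      rw [← IsLocalRing.residue_eq_zero_iff, ← Polynomial.eval_map_apply]
      exact hθ) (by
    by_contra hn
    have h1 : residue S (f.derivative.eval t0) = 0 :=
      (IsLocalRing.residue_eq_zero_iff _).2 ((IsLocalRing.mem_maximalIdeal _).2 hn)
    rw [Polynomial.eval_map_apply, hfe] at hθ
    rw [hfd] at h1
    simp only [Polynomial.eval_add, Polynomial.eval_mul, Polynomial.eval_C, Polynomial.eval_X,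
      Polynomial.eval_neg, Polynomial.eval_ofNat, map_mul, map_add, map_neg, map_ofNat, map_pow] at h1 hθ
    refine (hd.map (residue S)).ne_zero ?_
    rw [map_sub, map_mul, map_mul, map_ofNat]
    linear_combination (2 * residue S t0 + -residue S a) * h1 - 4 * hθ)
  have ht' : t ^ 2 + (-a * t + c) = 0 := (hfe t).symm.trans ht
  let φ : S → R →ₗ[S] S := fun s => b.constr ℕ ![1, s]
  have hφ0 : ∀ s, φ s 1 = 1 := fun s => by rw [← hb0, Module.Basis.constr_basis]; rfl
  have hφ1 : ∀ s, φ s r = s := fun s => by rw [← hb1, Module.Basis.constr_basis]; rfl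
  have hexp : ∀ x : R, ∃ p q : S, x = p • 1 + q • r := fun x =>
    ⟨b.repr x 0, b.repr x 1, by conv_lhs => rw [← b.sum_repr x, Fin.sum_univ_two, hb0, hb1]⟩
  have hrr : r * r = a • r - c • (1 : R) := by
    rw [Algebra.smul_def, Algebra.smul_def, ha, hc]; ring
  have hmul : ∀ s, s * s = a * s - c → ∀ x y, φ s (x * y) = φ s x * φ s y := by
    intro s hs x y
    obtain ⟨p, q, rfl⟩ := hexp x
    obtain ⟨p', q', rfl⟩ := hexp y
    simp only [add_mul, mul_add, smul_mul_assoc, mul_smul_comm, one_mul, mul_one, hrr, smul_sub,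
      map_add, map_sub, map_smul, hφ0, hφ1, smul_eq_mul]
    linear_combination (-(q * q')) * hs
  have hs1 : t * t = a * t - c := by linear_combination ht'
  have hs2 : (a - t) * (a - t) = a * (a - t) - c := by linear_combination ht'
  let Φ : R →ₐ[S] S × S := (AlgHom.ofLinearMap (φ t) (hφ0 t) (hmul t hs1)).prod
    (AlgHom.ofLinearMap (φ (a - t)) (hφ0 _) (hmul _ hs2))
  have hΦ : ∀ x, Φ x = (φ t x, φ (a - t) x) := fun x => rfl
  have hu : IsUnit (a - t - t) := by
    refine isUnit_of_mul_isUnit_left (y := a - t - t) ?_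
    rwa [show (a - t - t) * (a - t - t) = a * a - 4 * c by linear_combination 4 * ht']
  refine ⟨AlgEquiv.ofBijective Φ ⟨fun x y hxy => ?_, fun w => ?_⟩, fun x => ?_⟩
  · obtain ⟨p, q, rfl⟩ := hexp x
    obtain ⟨p', q', rfl⟩ := hexp y
    simp only [hΦ, map_add, map_smul, hφ0, hφ1, smul_eq_mul, mul_one, Prod.mk.injEq] at hxy
    have hq : q = q' := hu.mul_left_cancel (by linear_combination hxy.2 - hxy.1)
    subst hq
    rw [show p = p' by linear_combination hxy.1]
  · obtain ⟨u, huv⟩ := hu.exists_left_inv
    refine ⟨(w.1 - u * (w.2 - w.1) * t) • 1 + (u * (w.2 - w.1)) • r, ?_⟩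
    simp only [hΦ, map_add, map_smul, hφ0, hφ1, smul_eq_mul]
    refine Prod.ext ?_ ?_
    · ring
    · linear_combination (w.2 - w.1) * huv
  · obtain ⟨p, q, rfl⟩ := hexp x
    have hl : lam r = a • (1 : R) - r := by rw [Algebra.smul_def, ha]; ring
    have hsl : ∀ (s : S) (z : R), lam (s • z) = s • lam z := fun s z => by
      rw [Algebra.smul_def, map_mul, lam_algebraMap hS, ← Algebra.smul_def]
    simp only [AlgEquiv.coe_ofBijective, map_add, hsl, map_one, hl, hΦ, smul_sub, map_sub, map_smul,
      hφ0, hφ1, smul_eq_mul, Prod.swap_prod_mk]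
    refine Prod.ext ?_ ?_ <;> simp <;> ring

end AzInvLib
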