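import Groth.Prelude.Def_AzInv
import Mathlib.RingTheory.TensorProduct.Maps
import Mathlib.RingTheory.Flat.FaithfullyFlat.Algebra
import Mathlib.LinearAlgebra.TensorProduct.Pi
import Mathlib.RingTheory.Etale.Pi

/-! Isomorphisms of algebras with semilinear self-maps after base change. -/

set_option autoImplicit false

namespace AzInvLib

universe u v w w' w''

open scoped TensorProduct

variable {S : Type u} {R : Type v} [CommRing S] [CommRing R] [Algebra S R]
  {A : Type w} [Ring A] [Algebra S A] [Algebra R A] [IsScalarTower S R A]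
  {A' : Type w'} [Ring A'] [Algebra S A'] [Algebra R A'] [IsScalarTower S R A']
  {A'' : Type w''} [Ring A''] [Algebra S A''] [Algebra R A''] [IsScalarTower S R A'']

section Ext

variable {T U : Type u} [CommRing T] [Algebra S T] [CommRing U] [Algebra S U]

/-- The extension of scalars of a map into a base change. -/
noncomputable def ext (h : A →ₐ[S] T ⊗[S] A') : T ⊗[S] A →ₐ[T] T ⊗[S] A' :=
  Algebra.TensorProduct.lift (Algebra.ofId T _) h fun t a => Algebra.commutes t (h a)

omit [Algebra R A] [IsScalarTower S R A] [Algebra R A'] [IsScalarTower S R A'] in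
theorem ext_tmul (h : A →ₐ[S] T ⊗[S] A') (t : T) (a : A) : ext h (t ⊗ₜ a) = t • h a := by
  rw [ext, Algebra.TensorProduct.lift_tmul, Algebra.smul_def]
  rfl

omit [Algebra R A] [IsScalarTower S R A] [Algebra R A'] [IsScalarTower S R A'] in
theorem ext_one_tmul (h : A →ₐ[S] T ⊗[S] A') (a : A) : ext h ((1 : T) ⊗ₜ a) = h a := by
  rw [ext_tmul, one_smul]

/-- Change of the base. -/
noncomputable def gmap (g : U →ₐ[S] T) : U ⊗[S] A →ₐ[S] T ⊗[S] A :=
  Algebra.TensorProduct.map g (AlgHom.id S A)

omit [Algebra R A] [IsScalarTower S R A] in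
theorem gmap_tmul (g : U →ₐ[S] T) (u : U) (a : A) :
    gmap (A := A) g (u ⊗ₜ a) = g u ⊗ₜ a := rfl

omit [Algebra R A] [IsScalarTower S R A] in
theorem gmap_smul (g : U →ₐ[S] T) (u : U) (z : U ⊗[S] A) : gmap g (u • z) = g u • gmap g z := by
  induction z with
  | zero => simp
  | add a b ha hb => rw [smul_add, map_add, map_add, smul_add, ha, hb]
  | tmul v a => rw [TensorProduct.smul_tmul', gmap_tmul, gmap_tmul, TensorProduct.smul_tmul', smul_eq_mul,
      smul_eq_mul, map_mul]

omit [Algebra R A] [IsScalarTower S R A] [Algebra R A'] [IsScalarTower S R A'] in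
theorem gmap_ext (g : U →ₐ[S] T) (h : A →ₐ[S] U ⊗[S] A') (z : U ⊗[S] A) :
    gmap g (ext h z) = ext ((gmap g).comp h) (gmap g z) := by
  induction z with
  | zero => simp
  | add a b ha hb => simp only [map_add, ha, hb]
  | tmul u a => rw [ext_tmul, gmap_tmul, ext_tmul, gmap_smul]; rfl

omit [Algebra R A] [IsScalarTower S R A] [Algebra R A'] [IsScalarTower S R A'] in
theorem gmap_lTensor (g : U →ₐ[S] T) (σ : A →ₗ[S] A') (z : U ⊗[S] A) :
    gmap g (σ.lTensor U z) = σ.lTensor T (gmap g z) := by
  induction z with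
  | zero => simp
  | add a b ha hb => simp only [map_add, ha, hb]
  | tmul u a => rfl

omit [Algebra R A] [IsScalarTower S R A] [Algebra R A'] [IsScalarTower S R A'] in
theorem lTensor_smul' (σ : A →ₗ[S] A') (t : T) (z : T ⊗[S] A) :
    σ.lTensor T (t • z) = t • σ.lTensor T z := by
  induction z with
  | zero => simp
  | add a b ha hb => simp only [smul_add, map_add, ha, hb]
  | tmul v a => rfl

end Ext

/-- An isomorphism over `T` intertwining the self-maps. -/
structure Iso (T : Type u) [CommRing T] [Algebra S T] (σ : A →ₗ[S] A) (σ' : A' →ₗ[S] A')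
    (R : Type v) [CommRing R] [Algebra S R] [Algebra R A] [Algebra R A'] where
  /-- the map -/
  hom : A →ₐ[S] T ⊗[S] A'
  /-- the inverse map -/
  inv : A' →ₐ[S] T ⊗[S] A
  hom_inv : ∀ a, ext hom (inv a) = (1 : T) ⊗ₜ a
  inv_hom : ∀ a, ext inv (hom a) = (1 : T) ⊗ₜ a
  scal : ∀ r : R, hom (algebraMap R A r) = (1 : T) ⊗ₜ algebraMap R A' r
  inter : ∀ a, hom (σ a) = σ'.lTensor T (hom a)

variable (R) in
/-- Isomorphic over `T`. -/
def IsoOver (T : Type u) [CommRing T] [Algebra S T] (σ : A →ₗ[S] A) (σ' : A' →ₗ[S] A') : Prop :=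
  Nonempty (Iso T σ σ' R)

variable {σ : A →ₗ[S] A} {σ' : A' →ₗ[S] A'} {σ'' : A'' →ₗ[S] A''}

namespace Iso

variable {T U : Type u} [CommRing T] [Algebra S T] [CommRing U] [Algebra S U]

omit [IsScalarTower S R A] [IsScalarTower S R A'] in
theorem ext_hom_inv (i : Iso T σ σ' R) (z : T ⊗[S] A') : ext i.hom (ext i.inv z) = z := by
  induction z with
  | zero => simp
  | add a b ha hb => simp only [map_add, ha, hb]
  | tmul t a => rw [ext_tmul, map_smul, i.hom_inv, TensorProduct.smul_tmul', smul_eq_mul, mul_one]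

omit [IsScalarTower S R A] [IsScalarTower S R A'] in
theorem ext_inv_hom (i : Iso T σ σ' R) (z : T ⊗[S] A) : ext i.inv (ext i.hom z) = z := by
  induction z with
  | zero => simp
  | add a b ha hb => simp only [map_add, ha, hb]
  | tmul t a => rw [ext_tmul, map_smul, i.inv_hom, TensorProduct.smul_tmul', smul_eq_mul, mul_one]

omit [IsScalarTower S R A] [IsScalarTower S R A'] in
theorem ext_inter (i : Iso T σ σ' R) (z : T ⊗[S] A) :
    ext i.hom (σ.lTensor T z) = σ'.lTensor T (ext i.hom z) := by
  induction z with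
  | zero => simp
  | add a b ha hb => simp only [map_add, ha, hb]
  | tmul t a => rw [LinearMap.lTensor_tmul, ext_tmul, ext_tmul, i.inter, lTensor_smul']

/-- The isomorphism of base changes. -/
noncomputable def toEquiv (i : Iso T σ σ' R) : T ⊗[S] A ≃ₐ[T] T ⊗[S] A' :=
  AlgEquiv.ofAlgHom (ext i.hom) (ext i.inv) (AlgHom.ext i.ext_hom_inv) (AlgHom.ext i.ext_inv_hom)

omit [IsScalarTower S R A] [IsScalarTower S R A'] in
theorem toEquiv_apply (i : Iso T σ σ' R) (z : T ⊗[S] A) : i.toEquiv z = ext i.hom z := rfl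

/-- An isomorphism of base changes gives an `Iso`. -/
noncomputable def ofEquiv (f : T ⊗[S] A ≃ₐ[T] T ⊗[S] A')
    (hs : ∀ r : R, f ((1 : T) ⊗ₜ algebraMap R A r) = (1 : T) ⊗ₜ algebraMap R A' r)
    (hi : ∀ a, f ((1 : T) ⊗ₜ σ a) = σ'.lTensor T (f ((1 : T) ⊗ₜ a))) : Iso T σ σ' R where
  hom := (f.toAlgHom.restrictScalars S).comp Algebra.TensorProduct.includeRight
  inv := (f.symm.toAlgHom.restrictScalars S).comp Algebra.TensorProduct.includeRight
  hom_inv a := by
    have h : ext ((f.toAlgHom.restrictScalars S).comp Algebra.TensorProduct.includeRight) = f.toAlgHom :=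
      Algebra.TensorProduct.ext (by ext) (AlgHom.ext fun x => ext_one_tmul _ x)
    rw [h]
    exact f.apply_symm_apply _
  inv_hom a := by
    have h : ext ((f.symm.toAlgHom.restrictScalars S).comp Algebra.TensorProduct.includeRight) = f.symm.toAlgHom :=
      Algebra.TensorProduct.ext (by ext) (AlgHom.ext fun x => ext_one_tmul _ x)
    rw [h]
    exact f.symm_apply_apply _
  scal := hs
  inter := hi

/-- The inverse. -/
noncomputable def symm (i : Iso T σ σ' R) : Iso T σ' σ R where
  hom := i.inv
  inv := i.hom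
  hom_inv := i.inv_hom
  inv_hom := i.hom_inv
  scal r := by
    have h := i.ext_inv_hom ((1 : T) ⊗ₜ algebraMap R A r)
    rwa [ext_one_tmul, i.scal, ext_one_tmul] at h
  inter a := by
    have h := congrArg (ext i.inv) (i.ext_inter (i.inv a))
    rw [i.ext_inv_hom, i.hom_inv, LinearMap.lTensor_tmul, ext_one_tmul] at h
    exact h.symm

/-- The composite. -/
noncomputable def trans (i : Iso T σ σ' R) (j : Iso T σ' σ'' R) : Iso T σ σ'' R where
  hom := ((ext j.hom).restrictScalars S).comp i.hom
  inv := ((ext i.inv).restrictScalars S).comp j.inv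
  hom_inv a := by
    have h : ∀ z, ext (((ext j.hom).restrictScalars S).comp i.hom) z = ext j.hom (ext i.hom z) := fun z => by
      induction z with
      | zero => simp
      | add x y hx hy => simp only [map_add, hx, hy]
      | tmul t x => rw [ext_tmul, ext_tmul, map_smul]; rfl
    rw [h]
    show ext j.hom (ext i.hom (ext i.inv (j.inv a))) = _
    rw [i.ext_hom_inv, j.hom_inv]
  inv_hom a := by
    have h : ∀ z, ext (((ext i.inv).restrictScalars S).comp j.inv) z = ext i.inv (ext j.inv z) := fun z => by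
      induction z with
      | zero => simp
      | add x y hx hy => simp only [map_add, hx, hy]
      | tmul t x => rw [ext_tmul, ext_tmul, map_smul]; rfl
    rw [h]
    show ext i.inv (ext j.inv (ext j.hom (i.hom a))) = _
    rw [j.ext_inv_hom, i.inv_hom]
  scal r := by
    show ext j.hom (i.hom (algebraMap R A r)) = _
    rw [i.scal, ext_one_tmul, j.scal]
  inter a := by
    show ext j.hom (i.hom (σ a)) = _
    rw [i.inter, j.ext_inter]
    rfl

/-- Change of the base. -/
noncomputable def map (g : U →ₐ[S] T) (i : Iso U σ σ' R) : Iso T σ σ' R where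
  hom := (gmap g).comp i.hom
  inv := (gmap g).comp i.inv
  hom_inv a := by
    show ext ((gmap g).comp i.hom) (gmap g (i.inv a)) = _
    rw [← gmap_ext, i.hom_inv, gmap_tmul, map_one]
  inv_hom a := by
    show ext ((gmap g).comp i.inv) (gmap g (i.hom a)) = _
    rw [← gmap_ext, i.inv_hom, gmap_tmul, map_one]
  scal r := by
    show gmap g (i.hom (algebraMap R A r)) = _
    rw [i.scal, gmap_tmul, map_one]
  inter a := by
    show gmap g (i.hom (σ a)) = _
    rw [i.inter, gmap_lTensor]
    rfl

end Iso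

section Pi

variable {ι : Type} [Fintype ι] [DecidableEq ι] (U : ι → Type u) [∀ i, CommRing (U i)] [∀ i, Algebra S (U i)]

/-- The components of an element of a base change to a product. -/
noncomputable def piComp : (∀ i, U i) ⊗[S] A →ₐ[S] ∀ i, U i ⊗[S] A :=
  AlgHom.pi fun i => gmap (Pi.evalAlgHom S U i)

omit [Algebra R A] [IsScalarTower S R A] in
theorem piComp_bijective : Function.Bijective (piComp (S := S) (A := A) U) := by
  have h : ∀ z, piComp (S := S) (A := A) U z = TensorProduct.piLeft (R := S) (N := A) (M := U) z := fun z => by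
    induction z with
    | zero => simp
    | add a b ha hb => simp only [map_add, ha, hb]
    | tmul u a =>
      funext i
      simp [piComp, gmap_tmul]
  rw [funext h]
  exact (TensorProduct.piLeft (R := S) (N := A) (M := U)).bijective

omit [Algebra R A] [IsScalarTower S R A] in
theorem pi_ext {z z' : (∀ i, U i) ⊗[S] A}
    (h : ∀ i, gmap (Pi.evalAlgHom S U i) z = gmap (Pi.evalAlgHom S U i) z') : z = z' :=
  (piComp_bijective (S := S) (A := A) U).1 (funext h)

/-- Glue isomorphisms over finitely many rings. -/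
noncomputable def Iso.pi (i : ∀ k, Iso (U k) σ σ' R) : Iso (∀ k, U k) σ σ' R :=
  let e := AlgEquiv.ofBijective _ (piComp_bijective (S := S) (A := A') U)
  let e' := AlgEquiv.ofBijective _ (piComp_bijective (S := S) (A := A) U)
  let hom : A →ₐ[S] (∀ k, U k) ⊗[S] A' := e.symm.toAlgHom.comp (AlgHom.pi fun k => (i k).hom)
  let inv : A' →ₐ[S] (∀ k, U k) ⊗[S] A := e'.symm.toAlgHom.comp (AlgHom.pi fun k => (i k).inv)
  have hh : ∀ k, (gmap (Pi.evalAlgHom S U k)).comp hom = (i k).hom := fun k => AlgHom.ext fun a =>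
    congrFun (e.apply_symm_apply (fun k => (i k).hom a)) k
  have hi : ∀ k, (gmap (Pi.evalAlgHom S U k)).comp inv = (i k).inv := fun k => AlgHom.ext fun a =>
    congrFun (e'.apply_symm_apply (fun k => (i k).inv a)) k
  { hom := hom
    inv := inv
    hom_inv := fun a => pi_ext U fun k => by
      rw [gmap_ext, hh, ← AlgHom.comp_apply (gmap _) inv, hi, (i k).hom_inv, gmap_tmul, map_one]
    inv_hom := fun a => pi_ext U fun k => by
      rw [gmap_ext, hi, ← AlgHom.comp_apply (gmap _) hom, hh, (i k).inv_hom, gmap_tmul, map_one]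
    scal := fun r => pi_ext U fun k => by
      rw [← AlgHom.comp_apply (gmap _) hom, hh, (i k).scal, gmap_tmul, map_one]
    inter := fun a => pi_ext U fun k => by
      rw [gmap_lTensor, ← AlgHom.comp_apply (gmap _) hom, hh, ← AlgHom.comp_apply (gmap _) hom, hh,
        (i k).inter] }

end Pi

section LocIso

variable {lam : R ≃ₐ[S] R}

theorem locIsoEt_iff (t : AzInv.LamInv R A lam) (t' : AzInv.LamInv R A' lam) :
    AzInv.LocIsoEt S lam t t' ↔ ∃ (U : Type u) (_ : CommRing U) (_ : Algebra S U) (_ : Algebra.Etale S U),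
      Module.FaithfullyFlat S U ∧ IsoOver R U (t.linS S lam) (t'.linS S lam) := by
  constructor
  · rintro ⟨U, _, _, hE, hF, f, hs, hi⟩
    refine ⟨U, inferInstance, inferInstance, hE, hF, ⟨Iso.ofEquiv f (fun r => ?_) (fun a => ?_)⟩⟩
    · have h := hs r 1
      rwa [mul_one, map_one, mul_one] at h
    · have h := hi ((1 : U) ⊗ₜ a)
      rw [AzInv.LamInv.bc_tmul] at h
      exact h
  · rintro ⟨U, _, _, hE, hF, ⟨i⟩⟩
    refine ⟨U, inferInstance, inferInstance, hE, hF, i.toEquiv, fun r x => ?_, fun x => ?_⟩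
    · rw [map_mul, i.toEquiv_apply, ext_one_tmul, i.scal]
    · exact i.ext_inter x

end LocIso

end AzInvLib
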