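import Groth.Agent.AzInvLib.FixedBC
import Mathlib.RingTheory.Spectrum.Prime.Topology
import Mathlib.RingTheory.Ideal.Quotient.Operations

/-! The branch locus of a ring with involution over its fixed ring. -/

namespace AzInvLib

universe u v

open TensorProduct

variable {S : Type u} {R : Type v} [CommRing S] [CommRing R] [Algebra S R] {lam : R ≃ₐ[S] R}

theorem mem_branch_of_le (hlam : Function.Involutive lam) (hS : RInv.IsFixedRing S R lam.toRingEquiv)
    {W : Set (PrimeSpectrum S)}
    (hW : W = {p : PrimeSpectrum S | ¬ RInv.IsQuadEtale (Localization.AtPrime p.asIdeal)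
      (Localization.AtPrime p.asIdeal ⊗[S] R)})
    {p : PrimeSpectrum S} (h : PrimeSpectrum.vanishingIdeal W ≤ p.asIdeal) : p ∈ W := by
  rw [hW]
  refine (not_isQuadEtale_iff p.asIdeal hlam hS).2 fun r n hn => h ?_
  rw [PrimeSpectrum.mem_vanishingIdeal]
  intro p' hp'
  rw [hW] at hp'
  exact (not_isQuadEtale_iff p'.asIdeal hlam hS).1 hp' r n hn

theorem diff_mem_of_mem_branch (hlam : Function.Involutive lam) (hS : RInv.IsFixedRing S R lam.toRingEquiv)
    {W : Set (PrimeSpectrum S)}
    (hW : W = {p : PrimeSpectrum S | ¬ RInv.IsQuadEtale (Localization.AtPrime p.asIdeal)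
      (Localization.AtPrime p.asIdeal ⊗[S] R)})
    {q : PrimeSpectrum R} (h : PrimeSpectrum.comap (algebraMap S R) q ∈ W) (r : R) :
    lam r - r ∈ q.asIdeal := by
  rw [hW] at h
  exact (forall_diff_mem_iff _ hlam hS q.asIdeal rfl).2 ((not_isQuadEtale_iff _ hlam hS).1 h) r

theorem map_sub_mem_radical (hlam : Function.Involutive lam) (hS : RInv.IsFixedRing S R lam.toRingEquiv)
    {W : Set (PrimeSpectrum S)}
    (hW : W = {p : PrimeSpectrum S | ¬ RInv.IsQuadEtale (Localization.AtPrime p.asIdeal)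
      (Localization.AtPrime p.asIdeal ⊗[S] R)}) (r : R) :
    lam r - r ∈ ((PrimeSpectrum.vanishingIdeal W).map (algebraMap S R)).radical := by
  rw [Ideal.radical_eq_sInf, Ideal.mem_sInf]
  rintro q ⟨hq, hqp⟩
  exact diff_mem_of_mem_branch hlam hS hW (q := ⟨q, hqp⟩)
    (mem_branch_of_le hlam hS hW (p := PrimeSpectrum.comap _ ⟨q, hqp⟩) (Ideal.map_le_iff_le_comap.1 hq)) r

theorem eq_of_mem_branch (hlam : Function.Involutive lam) (hS : RInv.IsFixedRing S R lam.toRingEquiv)
    {p : Ideal S} [p.IsPrime]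
    (hp : ¬ RInv.IsQuadEtale (Localization.AtPrime p) (Localization.AtPrime p ⊗[S] R))
    (q q' : Ideal R) [q.IsPrime] [q'.IsPrime] (hq : q.comap (algebraMap S R) = p)
    (hq' : q'.comap (algebraMap S R) = p) : q' = q := by
  rcases comap_eq_or (lam := lam.toRingEquiv) hlam hS q q' (hq'.trans hq.symm) with h | h
  · exact h
  · rw [h]
    have hd := (forall_diff_mem_iff p hlam hS q hq).2 ((not_isQuadEtale_iff p hlam hS).1 hp)
    ext x
    rw [Ideal.mem_comap]
    constructor <;> intro hx
    · simpa using sub_mem hx (hd x)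
    · simpa using add_mem (hd x) hx

end AzInvLib
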