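import Groth.Prelude.Def_W4c2azumayainvolQEt
import Mathlib.RingTheory.IntegralClosure.IntegralRestrict
import Mathlib.RingTheory.Ideal.GoingUp
import Mathlib.RingTheory.Jacobson.Ideal
import Mathlib.RingTheory.LocalRing.MaximalIdeal.Basic
import Mathlib.LinearAlgebra.Dimension.OrzechProperty
import Mathlib.RingTheory.Unramified.Basic
import Mathlib.RingTheory.Derivation.Basic
import Mathlib.RingTheory.Kaehler.Basic
import Mathlib.RingTheory.AlgebraicIndependent.Basic
import Mathlib.LinearAlgebra.Basis.Basic

/-! Commutative rings with an involution over their fixed ring. -/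

namespace AzInvLib

universe u v

variable {S : Type u} {R : Type v} [CommRing S] [CommRing R] [Algebra S R]
  {lam : R ≃+* R}

theorem lam_algebraMap (hS : RInv.IsFixedRing S R lam) (s : S) :
    lam (algebraMap S R s) = algebraMap S R s :=
  (hS.2 _).2 ⟨s, rfl⟩

theorem add_mem_range (hlam : Function.Involutive lam) (hS : RInv.IsFixedRing S R lam) (r : R) :
    ∃ s, algebraMap S R s = r + lam r :=
  (hS.2 _).1 (by rw [map_add, hlam r, add_comm])

theorem mul_mem_range (hlam : Function.Involutive lam) (hS : RInv.IsFixedRing S R lam) (r : R) :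
    ∃ s, algebraMap S R s = r * lam r :=
  (hS.2 _).1 (by rw [map_mul, hlam r, mul_comm])

theorem isIntegral (hlam : Function.Involutive lam) (hS : RInv.IsFixedRing S R lam) :
    Algebra.IsIntegral S R := by
  refine ⟨fun r => ?_⟩
  obtain ⟨a, ha⟩ := add_mem_range hlam hS r
  obtain ⟨b, hb⟩ := mul_mem_range hlam hS r
  refine ⟨Polynomial.X ^ 2 + (Polynomial.C (-a) * Polynomial.X + Polynomial.C b), ?_, ?_⟩
  · refine Polynomial.monic_X_pow_add ?_
    exact (Polynomial.degree_linear_le).trans_lt (by norm_num)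
  · simp only [Polynomial.eval₂_add, Polynomial.eval₂_mul, Polynomial.eval₂_C,
      Polynomial.eval₂_X, Polynomial.eval₂_X_pow]
    rw [map_neg, ha, hb]
    ring

theorem nontrivial [Nontrivial S] (hS : RInv.IsFixedRing S R lam) : Nontrivial R :=
  hS.1.nontrivial

theorem comap_eq_or (hlam : Function.Involutive lam) (hS : RInv.IsFixedRing S R lam)
    (q q' : Ideal R) [q.IsPrime] [q'.IsPrime]
    (h : q'.comap (algebraMap S R) = q.comap (algebraMap S R)) :
    q' = q ∨ q' = q.comap lam := by
  haveI := isIntegral hlam hS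
  have hsub : (q' : Set R) ⊆ (q : Set R) ∪ (q.comap lam : Set R) := fun x hx => by
    obtain ⟨s, hs⟩ := mul_mem_range hlam hS x
    have h1 : algebraMap S R s ∈ q' := hs ▸ q'.mul_mem_right _ hx
    have h2 : s ∈ q.comap (algebraMap S R) := h ▸ h1
    rw [Ideal.mem_comap, hs] at h2
    exact (‹q.IsPrime›.mem_or_mem h2)
  haveI : (q.comap lam).IsPrime := Ideal.IsPrime.comap lam
  have hcl : (q.comap lam).comap (algebraMap S R) = q.comap (algebraMap S R) := by
    ext s; simp [Ideal.mem_comap, lam_algebraMap hS]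
  have key : ∀ q₁ : Ideal R, q₁.IsPrime → q' ≤ q₁ →
      q₁.comap (algebraMap S R) = q.comap (algebraMap S R) → q' = q₁ := by
    intro q₁ hq₁ hle hc
    by_contra hne
    obtain ⟨x, hxq, hxq'⟩ := SetLike.exists_of_lt (lt_of_le_of_ne hle hne)
    have := Ideal.comap_lt_comap_of_integral_mem_sdiff (R := S) hle ⟨hxq, hxq'⟩
      (Algebra.IsIntegral.isIntegral x)
    rw [h, hc] at this
    exact lt_irrefl _ this
  rcases Ideal.subset_union.1 hsub with h1 | h1
  · exact Or.inl (key q inferInstance h1 rfl)
  · exact Or.inr (key _ inferInstance h1 hcl)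

section Local

variable [IsLocalRing S]

theorem comap_maximal (hlam : Function.Involutive lam) (hS : RInv.IsFixedRing S R lam)
    (q : Ideal R) [q.IsMaximal] : q.comap (algebraMap S R) = IsLocalRing.maximalIdeal S := by
  haveI := isIntegral hlam hS
  exact IsLocalRing.eq_maximalIdeal (Ideal.isMaximal_comap_of_isIntegral_of_isMaximal q)

theorem isUnit_iff (hlam : Function.Involutive lam) (hS : RInv.IsFixedRing S R lam)
    (q : Ideal R) [q.IsMaximal] (x : R) : IsUnit x ↔ x ∉ q ∧ lam x ∉ q := by
  refine ⟨fun h => ⟨fun hx => ?_, fun hx => ?_⟩, fun ⟨h1, h2⟩ => ?_⟩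
  · exact Ideal.IsMaximal.ne_top ‹_› (q.eq_top_of_isUnit_mem hx h)
  · exact Ideal.IsMaximal.ne_top ‹_› (q.eq_top_of_isUnit_mem hx (h.map lam))
  · by_contra hu
    obtain ⟨M, hM, hxM⟩ := exists_max_ideal_of_mem_nonunits (mem_nonunits_iff.2 hu)
    rcases comap_eq_or hlam hS q M (by rw [comap_maximal hlam hS, comap_maximal hlam hS]) with rfl | rfl
    · exact h1 hxM
    · exact h2 hxM

theorem mem_jacobson_iff (hlam : Function.Involutive lam) (hS : RInv.IsFixedRing S R lam)
    (q : Ideal R) [q.IsMaximal] (x : R) : x ∈ Ring.jacobson R ↔ x ∈ q ∧ lam x ∈ q := by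
  haveI hlq : (q.comap lam).IsMaximal := Ideal.comap_isMaximal_of_surjective lam lam.surjective
  rw [← Ideal.jacobson_bot, Ideal.jacobson, Ideal.mem_sInf]
  refine ⟨fun h => ⟨h ⟨bot_le, inferInstance⟩, h (I := q.comap lam) ⟨bot_le, hlq⟩⟩, fun h M hM => ?_⟩
  haveI := hM.2
  rcases comap_eq_or hlam hS q M (by rw [comap_maximal hlam hS, comap_maximal hlam hS]) with rfl | rfl
  · exact h.1
  · exact h.2

theorem lam_mem_jacobson (hlam : Function.Involutive lam) (hS : RInv.IsFixedRing S R lam)
    {x : R} (hx : x ∈ Ring.jacobson R) : lam x ∈ Ring.jacobson R := by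
  haveI := nontrivial hS
  obtain ⟨q, hq⟩ := Ideal.exists_maximal R
  rw [mem_jacobson_iff hlam hS q] at hx ⊢
  rw [hlam x]
  exact ⟨hx.2, hx.1⟩

/-- Either some difference `r - λr` is a unit, or `R` is local with trivial residual action. -/
theorem exists_unit_or_local (hlam : Function.Involutive lam) (hS : RInv.IsFixedRing S R lam) :
    (∃ r : R, IsUnit (r - lam r)) ∨ (IsLocalRing R ∧ ∀ r : R, lam r - r ∈ Ring.jacobson R) := by
  haveI := nontrivial hS
  obtain ⟨q, hq⟩ := Ideal.exists_maximal R
  haveI hlq : (q.comap lam).IsMaximal := Ideal.comap_isMaximal_of_surjective lam lam.surjective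
  by_cases hd : ∀ r, lam r - r ∈ q
  · right
    have hqq : q.comap lam = q := by
      ext x
      rw [Ideal.mem_comap]
      constructor <;> intro hx
      · simpa using sub_mem hx (hd x)
      · simpa using add_mem (hd x) hx
    refine ⟨IsLocalRing.of_unique_max_ideal ⟨q, hq, fun M hM => ?_⟩, fun r => ?_⟩
    · haveI : M.IsMaximal := hM
      rcases comap_eq_or hlam hS q M (by rw [comap_maximal hlam hS, comap_maximal hlam hS]) with h | h
      · exact h
      · exact h.trans hqq
    · rw [mem_jacobson_iff hlam hS q]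
      refine ⟨hd r, ?_⟩
      rw [map_sub, hlam r, ← neg_sub]
      exact neg_mem (hd r)
  · left
    push_neg at hd
    obtain ⟨r, hr⟩ := hd
    refine ⟨r, (isUnit_iff hlam hS q _).2 ⟨fun h => hr (by rw [← neg_sub]; exact neg_mem h), ?_⟩⟩
    rw [map_sub, hlam r]
    exact hr

theorem jacobson_ne_top [Nontrivial R] : Ring.jacobson R ≠ ⊤ := by
  rw [← Ideal.jacobson_bot, Ne, Ideal.jacobson_eq_top_iff]
  exact bot_ne_top

theorem not_unit_of_jacobson (hS : RInv.IsFixedRing S R lam)
    (h : ∀ r : R, lam r - r ∈ Ring.jacobson R) (r : R) : ¬ IsUnit (r - lam r) := by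
  haveI := nontrivial hS
  intro hu
  refine jacobson_ne_top (R := R) (Ideal.eq_top_of_isUnit_mem _ ?_ hu)
  rw [← neg_sub]
  exact neg_mem (h r)

end Local

section Basis

theorem exists_basis_one (hlam : Function.Involutive lam) (hS : RInv.IsFixedRing S R lam)
    {r : R} (hr : IsUnit (r - lam r)) :
    ∃ b : Module.Basis (Fin 2) S R, b 0 = 1 ∧ b 1 = r := by
  obtain ⟨u, hu⟩ := hr.exists_left_inv
  have hu' : lam u = -u := by
    have h := congrArg lam hu
    rw [map_mul, map_sub, hlam r, map_one] at h
    linear_combination (-(u : R)) * h + (-lam u) * hu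
  have key : ∀ x : R, ∃ a b : S, x = algebraMap S R a + algebraMap S R b * r := by
    intro x
    obtain ⟨b, hb⟩ : u * (x - lam x) ∈ Set.range (algebraMap S R) := (hS.2 _).1 (by
      rw [map_mul, map_sub, hlam x, hu']; ring)
    obtain ⟨a, ha⟩ : x - algebraMap S R b * r ∈ Set.range (algebraMap S R) := (hS.2 _).1 (by
      rw [map_sub, map_mul, lam_algebraMap hS, hb]
      linear_combination (x - lam x) * hu)
    exact ⟨a, b, by rw [ha]; ring⟩
  refine ⟨Module.Basis.mk (v := ![1, r]) ?_ ?_, (Module.Basis.mk_apply _ _ 0).trans rfl, (Module.Basis.mk_apply _ _ 1).trans rfl⟩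
  · rw [Fintype.linearIndependent_iff]
    intro g hg
    simp only [Fin.sum_univ_two, Matrix.cons_val_zero, Matrix.cons_val_one,
      Algebra.smul_def, mul_one] at hg
    have h2 := congrArg lam hg
    rw [map_add, map_mul, lam_algebraMap hS, lam_algebraMap hS, map_zero] at h2
    have h1 : algebraMap S R (g 1) = 0 := by
      linear_combination u * hg - u * h2 - algebraMap S R (g 1) * hu
    have h0 : algebraMap S R (g 0) = 0 := by linear_combination hg - r * h1
    rw [map_eq_zero_iff _ hS.1] at h0 h1
    intro i; fin_cases i <;> assumption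
  · rintro x -
    obtain ⟨a, b, rfl⟩ := key x
    rw [← Algebra.smul_def, Algebra.algebraMap_eq_smul_one]
    refine add_mem (Submodule.smul_mem _ _ (Submodule.subset_span ⟨0, rfl⟩))
      (Submodule.smul_mem _ _ (Submodule.subset_span ⟨1, rfl⟩))

theorem isQuadEtale_of_unit (hlam : Function.Involutive lam) (hS : RInv.IsFixedRing S R lam)
    {r : R} (hr : IsUnit (r - lam r)) : RInv.IsQuadEtale S R := by
  obtain ⟨b, hb0, hb1⟩ := exists_basis_one hlam hS hr
  refine ⟨Module.Finite.of_basis b, Module.Projective.of_basis b, ?_, fun p => ?_⟩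
  · rw [Algebra.formallyUnramified_iff]
    refine ⟨fun x y => ?_⟩
    suffices h : ∀ z : Ω[R⁄S], z = 0 by rw [h x, h y]
    intro z
    have hD : ∀ w : R, KaehlerDifferential.D S R w = 0 := by
      obtain ⟨a, ha⟩ := add_mem_range hlam hS r
      obtain ⟨c, hc⟩ := mul_mem_range hlam hS r
      have h0 : (r - lam r) • KaehlerDifferential.D S R r = 0 := by
        have e : r * r - algebraMap S R a * r + algebraMap S R c = 0 := by rw [ha, hc]; ring
        have h := congrArg (KaehlerDifferential.D S R) e
        rw [map_add, map_sub, Derivation.leibniz, Derivation.leibniz, Derivation.map_algebraMap,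
          Derivation.map_algebraMap, smul_zero, add_zero, add_zero, map_zero, ha, ← add_smul,
          ← sub_smul] at h
        rwa [show r + r - (r + lam r) = r - lam r by ring] at h
      have hr0 : KaehlerDifferential.D S R r = 0 := hr.smul_eq_zero.1 h0
      intro w
      rw [← b.sum_repr w, Fin.sum_univ_two, hb0, hb1, map_add, Derivation.map_smul,
        Derivation.map_smul, hr0, Derivation.map_one_eq_zero, smul_zero, smul_zero, add_zero]
    have hz : z ∈ Submodule.span R (Set.range (KaehlerDifferential.D S R)) := by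
      rw [KaehlerDifferential.span_range_derivation]; trivial
    induction hz using Submodule.span_induction with
    | mem w hw => obtain ⟨t, rfl⟩ := hw; exact hD t
    | zero => rfl
    | add a b _ _ ha hb => rw [ha, hb, add_zero]
    | smul c a _ ha => rw [ha, smul_zero]
  · haveI : Nontrivial S := ⟨0, 1, fun h => p.isPrime.ne_top ((Ideal.eq_top_iff_one _).2 (h ▸ p.asIdeal.zero_mem))⟩
    haveI : Module.Free S R := Module.Free.of_basis b
    rw [Module.rankAtStalk_eq_finrank_of_free]
    simp [Module.finrank_eq_card_basis b]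

theorem exists_unit_of_isQuadEtale [IsLocalRing S] (hlam : Function.Involutive lam)
    (hS : RInv.IsFixedRing S R lam) (hq : RInv.IsQuadEtale S R) :
    ∃ r : R, IsUnit (r - lam r) := by
  rcases exists_unit_or_local hlam hS with h | ⟨hloc, hJ⟩
  · exact h
  exfalso
  haveI := nontrivial hS
  obtain ⟨hfin, hproj, hunr, hrk⟩ := hq
  haveI := hfin; haveI := hproj; haveI := hunr
  haveI : Module.Free S R := Module.free_of_flat_of_isLocalRing
  have h2 : Module.finrank S R = 2 := by
    have := hrk ⟨IsLocalRing.maximalIdeal S, inferInstance⟩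
    rw [Module.rankAtStalk_eq_finrank_of_free] at this
    simpa using this
  let b := Module.finBasisOfFinrankEq S R h2
  have hcop : ∃ i, IsUnit (b.repr 1 i) := by
    by_contra hno
    push_neg at hno
    have h1 : (1 : R) ∈ (IsLocalRing.maximalIdeal S).map (algebraMap S R) := by
      rw [← b.sum_repr 1]
      refine Ideal.sum_mem _ fun i _ => ?_
      rw [Algebra.smul_def]
      exact Ideal.mul_mem_right _ _ (Ideal.mem_map_of_mem _ ((IsLocalRing.mem_maximalIdeal _).2 (hno i)))
    obtain ⟨q, hqm⟩ := Ideal.exists_maximal R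
    refine hqm.ne_top ((Ideal.eq_top_iff_one _).2 ((Ideal.map_le_iff_le_comap.2 ?_) h1))
    rw [comap_maximal hlam hS]
  obtain ⟨i, hi⟩ := hcop
  let r := b (i + 1)
  obtain ⟨bb, hb0, hb1⟩ : ∃ bb : Module.Basis (Fin 2) S R, bb 0 = 1 ∧ bb 1 = r := by
    have hsp : ⊤ ≤ Submodule.span S (Set.range ![(1 : R), r]) := by
      have hb : ∀ j, b j ∈ Submodule.span S (Set.range ![(1 : R), r]) := by
        have hr' : b (i + 1) ∈ Submodule.span S (Set.range ![(1 : R), r]) :=
          Submodule.subset_span ⟨1, rfl⟩
        have hi' : b i ∈ Submodule.span S (Set.range ![(1 : R), r]) := by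
          obtain ⟨v, hv⟩ := hi.exists_left_inv
          have e := b.sum_repr 1
          have e' : b i = v • ((1 : R) - b.repr 1 (i + 1) • b (i + 1)) := by
            have e2 : b.repr 1 i • b i + b.repr 1 (i + 1) • b (i + 1) = 1 := by
              rw [Fin.sum_univ_two] at e
              fin_cases i
              · exact e
              · exact (add_comm _ _).trans e
            rw [← eq_sub_of_add_eq e2, smul_smul, hv, one_smul]
          rw [e']
          exact Submodule.smul_mem _ _ (sub_mem (Submodule.subset_span ⟨0, rfl⟩)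
            (Submodule.smul_mem _ _ hr'))
        intro j
        rcases (show j = i ∨ j = i + 1 by fin_cases i <;> fin_cases j <;> simp) with rfl | rfl
        · exact hi'
        · exact hr'
      rw [← b.span_eq]
      exact Submodule.span_le.2 (by rintro _ ⟨j, rfl⟩; exact hb j)
    have hli := linearIndependent_of_top_le_span_of_card_eq_finrank hsp (by simp [h2])
    exact ⟨Module.Basis.mk hli hsp, by simp, by simp⟩
  obtain ⟨a, ha⟩ := add_mem_range hlam hS r
  obtain ⟨c, hc⟩ := mul_mem_range hlam hS r
  have hlr : lam r = algebraMap S R a - r := by rw [ha]; ring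
  have hnu : a * a - 4 * c ∈ IsLocalRing.maximalIdeal S := by
    rw [IsLocalRing.mem_maximalIdeal, mem_nonunits_iff]
    intro hu
    refine not_unit_of_jacobson hS hJ r ?_
    have hd : IsUnit ((r - lam r) * (r - lam r)) := by
      convert hu.map (algebraMap S R) using 1
      rw [map_sub, map_mul, map_mul, ha, hc, map_ofNat]; ring
    exact isUnit_of_mul_isUnit_left hd
  let k := AlgebraicClosure (IsLocalRing.ResidueField S)
  let φ : S →+* k := algebraMap S k
  obtain ⟨θ, hθ⟩ := IsAlgClosed.exists_root
    (Polynomial.C 1 * Polynomial.X ^ 2 + Polynomial.C (-φ a) * Polynomial.X + Polynomial.C (φ c) : Polynomial k)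
    (by rw [Polynomial.degree_quadratic one_ne_zero]; decide)
  have hθ2 : θ * θ = φ a * θ - φ c := by
    simp only [Polynomial.IsRoot, Polynomial.eval_add, Polynomial.eval_mul, Polynomial.eval_C,
      Polynomial.eval_pow, Polynomial.eval_X, one_mul] at hθ
    linear_combination hθ
  have hθd : 2 * θ = φ a := by
    have h4 : φ (a * a - 4 * c) = 0 := by
      show algebraMap S k _ = 0
      rw [IsScalarTower.algebraMap_apply S (IsLocalRing.ResidueField S) k]
      rw [show algebraMap S (IsLocalRing.ResidueField S) (a * a - 4 * c) = 0 from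
        (IsLocalRing.residue_eq_zero_iff _).2 hnu, map_zero]
    rw [map_sub, map_mul, map_mul, map_ofNat] at h4
    have : (2 * θ - φ a) ^ 2 = 0 := by linear_combination 4 * hθ2 + h4
    exact sub_eq_zero.1 (eq_zero_of_pow_eq_zero this)
  have hsm : ∀ (s : S) (z : k), s • z = φ s * z := fun s z => Algebra.smul_def s z
  let ev : R →ₗ[S] k := bb.constr ℕ ![(1 : k), θ]
  let dr : R →ₗ[S] k := bb.constr ℕ ![(0 : k), 1]
  have hev0 : ev 1 = 1 := by rw [← hb0, Module.Basis.constr_basis]; rfl
  have hev1 : ev r = θ := by rw [← hb1, Module.Basis.constr_basis]; rfl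
  have hdr0 : dr 1 = 0 := by rw [← hb0, Module.Basis.constr_basis]; rfl
  have hdr1 : dr r = 1 := by rw [← hb1, Module.Basis.constr_basis]; rfl
  have hexp : ∀ x : R, ∃ s t : S, x = s • 1 + t • r := fun x =>
    ⟨bb.repr x 0, bb.repr x 1, by
      conv_lhs => rw [← bb.sum_repr x, Fin.sum_univ_two, hb0, hb1]⟩
  have hrr : r * r = a • r - c • (1 : R) := by
    rw [Algebra.smul_def, Algebra.smul_def, ha, hc]; ring
  have hmul : ∀ x y : R, ev (x * y) = ev x * ev y ∧ dr (x * y) = ev x * dr y + ev y * dr x := by
    intro x y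
    obtain ⟨s, t, rfl⟩ := hexp x
    obtain ⟨s', t', rfl⟩ := hexp y
    simp only [add_mul, mul_add, smul_mul_assoc, mul_smul_comm, one_mul, mul_one, hrr, smul_sub,
      map_add, map_sub, map_smul, hev0, hev1, hdr0, hdr1, hsm]
    constructor
    · linear_combination φ t * φ t' * (-hθ2)
    · linear_combination φ t * φ t' * (-hθd)
  let evA : R →ₐ[S] k := AlgHom.ofLinearMap ev hev0 fun x y => (hmul x y).1
  letI : Algebra R k := evA.toRingHom.toAlgebra
  haveI : IsScalarTower S R k := IsScalarTower.of_algebraMap_eq fun s => (evA.commutes s).symm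
  let D : Derivation S R k := Derivation.mk' dr fun x y => (hmul x y).2
  haveI : Subsingleton (Ω[R⁄S]) := Algebra.FormallyUnramified.subsingleton_kaehlerDifferential
  have h0 : D r = 0 := by
    rw [← Derivation.liftKaehlerDifferential_comp_D D r,
      Subsingleton.elim (KaehlerDifferential.D S R r) 0, map_zero]
  exact one_ne_zero (hdr1.symm.trans h0)

/-- Hilbert 90. -/
theorem hilbert90 [IsLocalRing S] (hlam : Function.Involutive lam)
    (hS : RInv.IsFixedRing S R lam) (hu : ∃ r : R, IsUnit (r - lam r)) (e : R) (he : lam e * e = 1) :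
    ∃ a : Rˣ, lam a = e * a := by
  haveI := nontrivial hS
  obtain ⟨θ, hθ⟩ := hu
  obtain ⟨q, hq⟩ := Ideal.exists_maximal R
  suffices h : ∃ x : R, IsUnit (x + lam e * lam x) by
    obtain ⟨x, hx⟩ := h
    refine ⟨hx.unit, ?_⟩
    rw [IsUnit.unit_spec, map_add, map_mul, hlam e, hlam x]
    linear_combination (-lam x) * he
  by_cases hqq : q.comap lam = q
  · by_contra hno
    push_neg at hno
    have hq1 : ∀ x, x + lam e * lam x ∈ q := fun x => by
      by_contra hx
      refine hno x ((isUnit_iff hlam hS q _).2 ⟨hx, fun h => hx ?_⟩)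
      rw [← hqq]; exact h
    have h1 := hq1 1
    rw [map_one, mul_one] at h1
    have h2 : θ - lam θ ∈ q := by
      have := sub_mem (hq1 θ) (q.mul_mem_right (lam θ) h1)
      rwa [show θ + lam e * lam θ - (1 + lam e) * lam θ = θ - lam θ by ring] at this
    exact ((isUnit_iff hlam hS q _).1 hθ).1 h2
  · obtain ⟨x, hx, hx1⟩ : ∃ x ∈ q.comap lam, x - 1 ∈ q := by
      haveI : (q.comap lam).IsMaximal := Ideal.comap_isMaximal_of_surjective lam lam.surjective
      obtain ⟨y, hy, z, hz, hyz⟩ := Submodule.mem_sup.1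
        (show (1 : R) ∈ q.comap lam ⊔ q by rw [Ideal.IsMaximal.coprime_of_ne ‹_› hq hqq]; trivial)
      exact ⟨y, hy, by rw [← hyz, sub_add_cancel_left]; exact neg_mem hz⟩
    rw [Ideal.mem_comap] at hx
    refine ⟨x, (isUnit_iff hlam hS q _).2 ⟨fun h => ?_, fun h => ?_⟩⟩
    · refine hq.ne_top ((Ideal.eq_top_iff_one _).2 ?_)
      have h2 := sub_mem (sub_mem h (q.mul_mem_left (lam e) hx)) hx1
      rwa [show x + lam e * lam x - lam e * lam x - (x - 1) = 1 by ring] at h2
    · rw [map_add, map_mul, hlam e, hlam x] at h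
      have h2 := sub_mem h hx
      rw [add_sub_cancel_left] at h2
      refine hq.ne_top ((Ideal.eq_top_iff_one _).2 ?_)
      have h3 := sub_mem (q.mul_mem_left (lam e) h2) hx1
      rwa [show lam e * (e * x) - (x - 1) = 1 by linear_combination x * he] at h3

end Basis

end AzInvLib
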