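import Groth.Agent.AzInvLib.Fixed
import Mathlib.RingTheory.Flat.Basic
import Mathlib.LinearAlgebra.TensorProduct.RightExactness
import Mathlib.RingTheory.Localization.AtPrime.Basic
import Mathlib.RingTheory.Flat.Localization

/-! Base change of fixed rings. -/

namespace AzInvLib

universe u v w

open TensorProduct

variable {S : Type u} {R : Type v} [CommRing S] [CommRing R] [Algebra S R]
  (lam : R ≃ₐ[S] R) (S' : Type w) [CommRing S'] [Algebra S S']

/-- The involution of `S' ⊗ R`. -/
noncomputable def bcLam : (S' ⊗[S] R) ≃ₐ[S'] (S' ⊗[S] R) :=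
  Algebra.TensorProduct.congr (AlgEquiv.refl : S' ≃ₐ[S'] S') lam

@[simp] theorem bcLam_tmul (s : S') (r : R) : bcLam lam S' (s ⊗ₜ[S] r) = s ⊗ₜ[S] lam r := by
  rw [bcLam, Algebra.TensorProduct.congr_apply, Algebra.TensorProduct.map_tmul]
  rfl

variable {lam}

theorem bcLam_invol (hlam : Function.Involutive lam) : Function.Involutive (bcLam lam S') := fun z => by
  induction z with
  | zero => simp
  | add a b ha hb => rw [map_add, map_add, ha, hb]
  | tmul s r => rw [bcLam_tmul, bcLam_tmul, hlam r]

theorem bcLam_eq_lTensor (z : S' ⊗[S] R) : bcLam lam S' z = lam.toLinearMap.lTensor S' z := by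
  induction z with
  | zero => simp
  | add a b ha hb => rw [map_add, map_add, ha, hb]
  | tmul s r => rw [bcLam_tmul, LinearMap.lTensor_tmul]; rfl

theorem algebraMap_eq_lTensor (s : S') :
    algebraMap S' (S' ⊗[S] R) s = (Algebra.linearMap S R).lTensor S' ((TensorProduct.rid S S').symm s) := by
  rw [Algebra.TensorProduct.algebraMap_apply, TensorProduct.rid_symm_apply, LinearMap.lTensor_tmul,
    Algebra.algebraMap_self_apply, Algebra.linearMap_apply, map_one]

theorem isFixedRing_bc (hlam : Function.Involutive lam) (hS : RInv.IsFixedRing S R lam.toRingEquiv)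
    (h : Module.Flat S S' ∨ IsUnit (2 : S)) :
    RInv.IsFixedRing S' (S' ⊗[S] R) (bcLam lam S').toRingEquiv := by
  have hinj : Function.Injective (Algebra.linearMap S R) := hS.1
  have key : Function.Injective ((Algebra.linearMap S R).lTensor S') ∧
      ∀ z : S' ⊗[S] R, bcLam lam S' z = z → z ∈ LinearMap.range ((Algebra.linearMap S R).lTensor S') := by
    rcases h with h | h
    · haveI := h
      refine ⟨Module.Flat.lTensor_preserves_injective_linearMap _ hinj, fun z hz => ?_⟩
      have hex : Function.Exact (Algebra.linearMap S R) (lam.toLinearMap - LinearMap.id : R →ₗ[S] R) := by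
        intro x
        rw [LinearMap.sub_apply, LinearMap.id_apply, sub_eq_zero]
        exact hS.2 x
      refine (Module.Flat.lTensor_exact S' hex z).1 ?_
      rw [LinearMap.lTensor_sub, LinearMap.sub_apply, LinearMap.lTensor_id, LinearMap.id_apply,
        ← bcLam_eq_lTensor, hz, sub_self]
    · obtain ⟨u, hu⟩ := h.exists_left_inv
      have hfix : ∀ x : R, ∃ s, algebraMap S R s = u • (x + lam x) := fun x => by
        refine (hS.2 _).1 ?_
        show lam (u • (x + lam x)) = _
        rw [map_smul, map_add, hlam x, add_comm]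
      choose g hg using hfix
      let π : R →ₗ[S] S :=
        { toFun := g
          map_add' := fun x y => hS.1 (by rw [map_add, hg, hg, hg, map_add, ← smul_add]; congr 1; abel)
          map_smul' := fun c x => hS.1 (by
            rw [RingHom.id_apply, smul_eq_mul, map_mul, hg, hg, ← Algebra.smul_def, smul_comm c u,
              map_smul, smul_add, smul_add, smul_add]) }
      have hπ : π.comp (Algebra.linearMap S R) = LinearMap.id := LinearMap.ext fun s => hS.1 (by
        show algebraMap S R (g (algebraMap S R s)) = _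
        rw [hg, AlgEquiv.commutes, ← map_add, Algebra.smul_def, ← map_mul]
        congr 1
        rw [LinearMap.id_apply]
        linear_combination s * hu)
      have hπ' : (Algebra.linearMap S R).comp π = u • (LinearMap.id + lam.toLinearMap) :=
        LinearMap.ext fun x => hg x
      refine ⟨Function.LeftInverse.injective (g := π.lTensor S') fun z => ?_, fun z hz => ⟨π.lTensor S' z, ?_⟩⟩
      · rw [← LinearMap.comp_apply, ← LinearMap.lTensor_comp, hπ, LinearMap.lTensor_id, LinearMap.id_apply]
      · rw [← LinearMap.comp_apply, ← LinearMap.lTensor_comp, hπ', LinearMap.lTensor_smul,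
          LinearMap.lTensor_add, LinearMap.smul_apply, LinearMap.add_apply, LinearMap.lTensor_id,
          LinearMap.id_apply, ← bcLam_eq_lTensor, hz, ← two_smul S z, smul_smul, hu, one_smul]
  refine ⟨fun a b hab => ?_, fun z => ⟨fun hz => ?_, ?_⟩⟩
  · rw [algebraMap_eq_lTensor, algebraMap_eq_lTensor] at hab
    exact (TensorProduct.rid S S').symm.injective (key.1 hab)
  · obtain ⟨w, rfl⟩ := key.2 z hz
    exact ⟨TensorProduct.rid S S' w, by rw [algebraMap_eq_lTensor, LinearEquiv.symm_apply_apply]⟩
  · rintro ⟨s, rfl⟩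
    exact (bcLam lam S').commutes s

/-- The algebra equivalence underlying an involution over its fixed ring. -/
def algEquivOfFixed (l : R ≃+* R) (hS : RInv.IsFixedRing S R l) : R ≃ₐ[S] R :=
  AlgEquiv.ofRingEquiv (f := l) fun s => lam_algebraMap hS s

section Loc

variable (p : Ideal S) [p.IsPrime]

theorem exists_unit_loc (hlam : Function.Involutive lam)
    (hS : RInv.IsFixedRing S R lam.toRingEquiv) :
    (∃ z : Localization.AtPrime p ⊗[S] R, IsUnit (z - bcLam lam _ z)) ↔
      ∃ (r : R) (n : S), algebraMap S R n = (r - lam r) * (r - lam r) ∧ n ∉ p := by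
  have hfix := isFixedRing_bc (Localization.AtPrime p) hlam hS
    (Or.inl (IsLocalization.flat _ p.primeCompl))
  have hmap : ∀ n : S, algebraMap (Localization.AtPrime p) (Localization.AtPrime p ⊗[S] R)
      (algebraMap S _ n) = (1 : Localization.AtPrime p) ⊗ₜ[S] algebraMap S R n := fun n => by
    rw [← IsScalarTower.algebraMap_apply, Algebra.TensorProduct.algebraMap_apply,
      Algebra.algebraMap_eq_smul_one, TensorProduct.smul_tmul, ← Algebra.algebraMap_eq_smul_one]
  have hunit : ∀ n : S, n ∉ p → IsUnit (algebraMap S (Localization.AtPrime p) n) := fun n hn =>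
    IsLocalization.map_units (Localization.AtPrime p) (⟨n, hn⟩ : p.primeCompl)
  constructor
  · rintro ⟨z, hz⟩
    haveI : IsLocalizedModule p.primeCompl (TensorProduct.mk S (Localization.AtPrime p) R 1) :=
      (isLocalizedModule_iff_isBaseChange p.primeCompl (Localization.AtPrime p) _).2
        (TensorProduct.isBaseChange S R _)
    obtain ⟨⟨r, m⟩, hm⟩ := IsLocalizedModule.surj p.primeCompl
      (TensorProduct.mk S (Localization.AtPrime p) R 1) z
    have hzm : algebraMap S (Localization.AtPrime p ⊗[S] R) (m : S) * z =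
        (1 : Localization.AtPrime p) ⊗ₜ[S] r := (Algebra.smul_def (m : S) z).symm.trans hm
    obtain ⟨n, hn⟩ : (r - lam r) * (r - lam r) ∈ Set.range (algebraMap S R) := (hS.2 _).1 (by
      show lam _ = _
      rw [map_mul, map_sub, hlam r]; ring)
    refine ⟨r, n, hn, fun hnp => ?_⟩
    have h1 : IsUnit ((1 : Localization.AtPrime p) ⊗ₜ[S] r - (1 : Localization.AtPrime p) ⊗ₜ[S] lam r) := by
      rw [← bcLam_tmul, ← hzm, map_mul,
        IsScalarTower.algebraMap_apply S (Localization.AtPrime p) (Localization.AtPrime p ⊗[S] R),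
        AlgEquiv.commutes, ← mul_sub]
      exact ((hunit _ m.2).map _).mul hz
    have h2 := h1.mul h1
    rw [← tmul_sub, Algebra.TensorProduct.tmul_mul_tmul, one_mul, ← hn, ← hmap] at h2
    haveI := nontrivial (lam := (bcLam lam (Localization.AtPrime p)).toRingEquiv) hfix
    obtain ⟨q, hq⟩ := Ideal.exists_maximal (Localization.AtPrime p ⊗[S] R)
    have hq' := comap_maximal (bcLam_invol _ hlam) hfix q
    refine hq.ne_top (q.eq_top_of_isUnit_mem ?_ h2)
    rw [← Ideal.mem_comap, hq', ← Localization.AtPrime.map_eq_maximalIdeal]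
    exact Ideal.mem_map_of_mem _ hnp
  · rintro ⟨r, n, hn, hnp⟩
    refine ⟨(1 : Localization.AtPrime p) ⊗ₜ[S] r, ?_⟩
    refine isUnit_of_mul_isUnit_left (y := (1 : Localization.AtPrime p) ⊗ₜ[S] r - bcLam lam _ ((1 : Localization.AtPrime p) ⊗ₜ[S] r)) ?_
    rw [bcLam_tmul, ← tmul_sub, Algebra.TensorProduct.tmul_mul_tmul, one_mul, ← hn, ← hmap]
    exact (hunit n hnp).map _

theorem not_isQuadEtale_iff (hlam : Function.Involutive lam)
    (hS : RInv.IsFixedRing S R lam.toRingEquiv) :
    ¬ RInv.IsQuadEtale (Localization.AtPrime p) (Localization.AtPrime p ⊗[S] R) ↔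
      ∀ (r : R) (n : S), algebraMap S R n = (r - lam r) * (r - lam r) → n ∈ p := by
  have hfix := isFixedRing_bc (Localization.AtPrime p) hlam hS
    (Or.inl (IsLocalization.flat _ p.primeCompl))
  constructor
  · intro hq r n hn
    by_contra hnp
    obtain ⟨z, hz⟩ := (exists_unit_loc p hlam hS).2 ⟨r, n, hn, hnp⟩
    exact hq (isQuadEtale_of_unit (bcLam_invol _ hlam) hfix hz)
  · intro h hq
    obtain ⟨z, hz⟩ := exists_unit_of_isQuadEtale (bcLam_invol _ hlam) hfix hq
    obtain ⟨r, n, hn, hnp⟩ := (exists_unit_loc p hlam hS).1 ⟨z, hz⟩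
    exact hnp (h r n hn)

theorem forall_diff_mem_iff (hlam : Function.Involutive lam)
    (hS : RInv.IsFixedRing S R lam.toRingEquiv) (q : Ideal R) [q.IsPrime]
    (hq : q.comap (algebraMap S R) = p) :
    (∀ r : R, lam r - r ∈ q) ↔
      ∀ (r : R) (n : S), algebraMap S R n = (r - lam r) * (r - lam r) → n ∈ p := by
  constructor
  · intro h r n hn
    rw [← hq, Ideal.mem_comap, hn]
    refine q.mul_mem_left _ ?_
    rw [← neg_sub]; exact neg_mem (h r)
  · intro h r
    obtain ⟨n, hn⟩ : (r - lam r) * (r - lam r) ∈ Set.range (algebraMap S R) := (hS.2 _).1 (by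
      show lam _ = _
      rw [map_mul, map_sub, hlam r]; ring)
    have h2 : (r - lam r) * (r - lam r) ∈ q := by
      rw [← hn, ← Ideal.mem_comap, hq]; exact h r n hn
    rw [← neg_sub]
    exact neg_mem ((or_self_iff.1 (‹q.IsPrime›.mem_or_mem h2)))

theorem exists_isPrime_over (hlam : Function.Involutive lam)
    (hS : RInv.IsFixedRing S R lam.toRingEquiv) :
    ∃ q : Ideal R, q.IsPrime ∧ q.comap (algebraMap S R) = p := by
  haveI := isIntegral (lam := lam.toRingEquiv) hlam hS
  obtain ⟨q, -, hq, hqp⟩ := Ideal.exists_ideal_over_prime_of_isIntegral p (⊥ : Ideal R)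
    (fun x hx => by
      rw [Ideal.mem_comap, Ideal.mem_bot, map_eq_zero_iff _ hS.1] at hx
      rw [hx]; exact p.zero_mem)
  exact ⟨q, hq, hqp⟩

end Loc

end AzInvLib
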