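import Groth.Agent.AzInvLib.OverPoint

/-! The two model involutions and the local classification. -/

set_option autoImplicit false

namespace AzInvLib

universe u v w

open scoped TensorProduct
open IsLocalRing Matrix

variable {S : Type u} {R : Type v} [CommRing S] [CommRing R] [Algebra S R] (lam : R ≃ₐ[S] R)

theorem lamTr_eq_st {ι : Type*} (M : Matrix ι ι R) : AzInv.lamTr lam M = st lam.toRingEquiv M := rfl

/-- The unit underlying the standard alternating matrix. -/
def JmUnit (κ : Type*) [Fintype κ] [DecidableEq κ] : (Matrix (κ × Fin 2) (κ × Fin 2) R)ˣ where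
  val := Jm R κ
  inv := -Jm R κ
  val_inv := by rw [Matrix.mul_neg, Jm_mul_self, neg_neg]
  inv_val := by rw [Matrix.neg_mul, Jm_mul_self, neg_neg]

/-- The symplectic model. -/
def negInv (hlam : ∀ r, lam (lam r) = r) (κ : Type*) [Fintype κ] [DecidableEq κ] :
    AzInv.LamInv R (Matrix (κ × Fin 2) (κ × Fin 2) R) lam :=
  (AzInv.LamInv.transpose lam (κ × Fin 2) hlam).conj (JmUnit κ) (-1)
    (show AzInv.lamTr lam (Jm R κ) = (-1 : R) • Jm R κ by rw [lamTr_eq_st, Jm_st, neg_one_smul])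
    (by rw [map_neg, map_one]; ring)

theorem negInv_apply (hlam : ∀ r, lam (lam r) = r) (κ : Type*) [Fintype κ] [DecidableEq κ]
    (x : Matrix (κ × Fin 2) (κ × Fin 2) R) :
    negInv lam hlam κ x = Jm R κ * st lam.toRingEquiv x * -Jm R κ := rfl

variable {lam} {A : Type w} [Ring A] [Algebra S A] [Algebra R A] [IsScalarTower S R A]
  {T : Type u} [CommRing T] [Algebra S T]

theorem theta_st {ι : Type*} [Fintype ι] [DecidableEq ι] (z : T ⊗[S] Matrix ι ι R) (F : Matrix ι ι R →ₗ[S] Matrix ι ι R)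
    (hF : ∀ M, F M = st lam.toRingEquiv M) :
    theta T R ι (F.lTensor T z) = st (bcLam lam T).toRingEquiv (theta T R ι z) := by
  induction z with
  | zero => ext i j; simp [st_apply]
  | add a b ha hb => ext i j; simp [map_add, ha, hb, st_apply]
  | tmul t M =>
    ext i j
    rw [LinearMap.lTensor_tmul, theta_tmul, hF, st_apply, st_apply, theta_tmul]
    exact (bcLam_tmul lam T t (M j i)).symm

theorem theta_scalar {ι : Type*} [Fintype ι] [DecidableEq ι] (r : R) :
    theta T R ι ((1 : T) ⊗ₜ[S] algebraMap R (Matrix ι ι R) r) =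
      algebraMap (T ⊗[S] R) (Matrix ι ι (T ⊗[S] R)) ((1 : T) ⊗ₜ r) := by
  ext i j
  rw [theta_tmul, Matrix.algebraMap_matrix_apply, Matrix.algebraMap_matrix_apply]
  split_ifs <;> simp

theorem apply_algebraMap {n : ℕ} (Φ : T ⊗[S] A ≃ₐ[T] Matrix (Fin n) (Fin n) (T ⊗[S] R))
    (hΦ : ∀ r : R, Φ ((1 : T) ⊗ₜ algebraMap R A r) = algebraMap _ _ ((1 : T) ⊗ₜ[S] r)) (t : T) (r : R) :
    Φ (t ⊗ₜ algebraMap R A r) = algebraMap (T ⊗[S] R) _ (t ⊗ₜ[S] r) := by
  have h : t ⊗ₜ[S] algebraMap R A r = t • ((1 : T) ⊗ₜ[S] algebraMap R A r) := by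
    rw [TensorProduct.smul_tmul', smul_eq_mul, mul_one]
  rw [h, map_smul, hΦ, Algebra.algebraMap_eq_smul_one, Algebra.algebraMap_eq_smul_one, ← smul_assoc,
    TensorProduct.smul_tmul', smul_eq_mul, mul_one]

section Point

variable [HenselianLocalRing T] [IsSepClosed (ResidueField T)] [Module.Flat S T]

/-- Automorphisms are inner at a point. -/
theorem exists_inner_over (hlam : ∀ r, lam (lam r) = r) (hS : RInv.IsFixedRing S R lam.toRingEquiv)
    {n : ℕ} (hn : 0 < n) (hA : AzInv.IsAzumayaDeg R A n) (ψ : A ≃ₐ[R] A) :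
    ∃ u : (T ⊗[S] A)ˣ, ∀ a : A, ((1 : T) ⊗ₜ ψ a) * (u : T ⊗[S] A) = (u : T ⊗[S] A) * ((1 : T) ⊗ₜ a) := by
  haveI := finite_maximal (T := T) hlam hS
  obtain ⟨Φ, hΦ⟩ := exists_split (T := T) n hA hlam hS
  let ψT : T ⊗[S] A ≃ₐ[T] T ⊗[S] A :=
    Algebra.TensorProduct.congr (AlgEquiv.refl : T ≃ₐ[T] T) (ψ.restrictScalars S)
  let ψ' : Matrix (Fin n) (Fin n) (T ⊗[S] R) ≃ₐ[T] Matrix (Fin n) (Fin n) (T ⊗[S] R) :=
    Φ.symm.trans (ψT.trans Φ)
  have hc : ∀ c : T ⊗[S] R, ψ' (algebraMap _ _ c) = algebraMap _ _ c := fun c => by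
    induction c with
    | zero => simp
    | add a b ha hb => rw [map_add, map_add, ha, hb]
    | tmul t r =>
      have h : ψT (t ⊗ₜ algebraMap R A r) = t ⊗ₜ algebraMap R A r := by
        simp [ψT, Algebra.TensorProduct.congr_apply]
      show Φ (ψT (Φ.symm _)) = _
      rw [← apply_algebraMap Φ hΦ, AlgEquiv.symm_apply_apply, h]
  let ψ'' : Matrix (Fin n) (Fin n) (T ⊗[S] R) ≃ₐ[T ⊗[S] R] Matrix (Fin n) (Fin n) (T ⊗[S] R) :=
    AlgEquiv.ofRingEquiv (f := ψ'.toRingEquiv) hc
  haveI : Nonempty (Fin n) := ⟨⟨0, hn⟩⟩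
  haveI : IsAzumaya (T ⊗[S] R) (Matrix (Fin n) (Fin n) (T ⊗[S] R)) := IsAzumaya.matrix _ _
  obtain ⟨U, hU⟩ := inner_of_finite_maximal ψ''
  refine ⟨U.map Φ.symm.toAlgHom.toMonoidHom, fun a => Φ.injective ?_⟩
  have h1 : Φ ((1 : T) ⊗ₜ ψ a) = ψ'' (Φ ((1 : T) ⊗ₜ a)) := by
    show _ = Φ (ψT (Φ.symm (Φ _)))
    rw [AlgEquiv.symm_apply_apply]
    simp [ψT, Algebra.TensorProduct.congr_apply]
  have h2 : Φ (U.map Φ.symm.toAlgHom.toMonoidHom : (T ⊗[S] A)ˣ) = (U : Matrix (Fin n) (Fin n) (T ⊗[S] R)) :=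
    Φ.apply_symm_apply _
  rw [map_mul, map_mul, h2, h1, hU, mul_assoc, Units.inv_mul, mul_one]

/-- The two local models. -/
theorem exists_model_iso (hlam : ∀ r, lam (lam r) = r) (hS : RInv.IsFixedRing S R lam.toRingEquiv)
    (hsq : ∀ x : T, IsUnit x → ∃ y : T, y * y = x) {n : ℕ} (hn : 0 < n) (hA : AzInv.IsAzumayaDeg R A n)
    (hc : (∃ a : T ⊗[S] R, IsUnit (a - bcLam lam T a)) ∨ Odd n ∨ IsUnit (2 : T))
    (t : AzInv.LamInv R A lam) :
    IsoOver R T (t.linS S lam) ((AzInv.LamInv.transpose lam (Fin n) hlam).linS S lam) ∨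
      ((∀ a : T ⊗[S] R, ¬ IsUnit (a - bcLam lam T a)) ∧ IsUnit (2 : T) ∧ ∃ m : ℕ, n = m * 2 ∧
        IsoOver R T (t.linS S lam) ((negInv lam hlam (Fin m)).linS S lam)) := by
  haveI := finite_maximal (T := T) hlam hS
  obtain ⟨Φ, hΦ⟩ := exists_split (T := T) n hA hlam hS
  let σ := (t.linS S lam).lTensor T
  let τ : Matrix (Fin n) (Fin n) (T ⊗[S] R) → Matrix (Fin n) (Fin n) (T ⊗[S] R) := fun x => Φ (σ (Φ.symm x))
  have hσm : ∀ x y : T ⊗[S] A, σ (x * y) = σ y * σ x := fun x y => by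
    induction x with
    | zero => simp
    | add a b ha hb => simp only [add_mul, map_add, ha, hb, mul_add]
    | tmul a x =>
      induction y with
      | zero => simp
      | add p q hp hq => simp only [mul_add, map_add, hp, hq, add_mul]
      | tmul b y => simp [σ, t.map_mul, mul_comm]
  have hσσ : ∀ x, σ (σ x) = x := fun x => by
    induction x with
    | zero => simp
    | add a b ha hb => simp only [map_add, ha, hb]
    | tmul a x => simp [σ]
  have hτs : ∀ (c : T ⊗[S] R) x, τ (c • x) = (bcLam lam T).toRingEquiv c • τ x := fun c x => by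
    show Φ (σ (Φ.symm (c • x))) = bcLam lam T c • Φ (σ (Φ.symm x))
    induction c with
    | zero => simp
    | add a b ha hb => simp only [add_smul, map_add, ha, hb]
    | tmul a r =>
      rw [bcLam_tmul, Algebra.smul_def, Algebra.smul_def, ← apply_algebraMap Φ hΦ, ← apply_algebraMap Φ hΦ,
        map_mul Φ.symm, AlgEquiv.symm_apply_apply, hσm, ← map_mul Φ]
      congr 1
      have e : σ (a ⊗ₜ algebraMap R A r) = a ⊗ₜ algebraMap R A (lam r) := by
        simp [σ, t.map_algebraMap]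
      rw [e]
      generalize σ (Φ.symm x) = z
      induction z with
      | zero => simp
      | add p q hp hq => rw [mul_add, add_mul, hp, hq]
      | tmul b y =>
        rw [Algebra.TensorProduct.tmul_mul_tmul, Algebra.TensorProduct.tmul_mul_tmul, mul_comm a b,
          Algebra.commutes]
  have hc' : (∃ a, IsUnit (a - (bcLam lam T).toRingEquiv a)) ∨ Odd n ∨ IsUnit (2 : T ⊗[S] R) :=
    hc.imp_right (Or.imp_right fun h => by simpa [map_ofNat] using h.map (algebraMap T (T ⊗[S] R)))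
  have hτ := normal_form (lam := (bcLam lam T).toRingEquiv) (S := T) (bcLam_invol T hlam)
    (isFixedRing_bc T hlam hS (Or.inl inferInstance)) hsq hn hc' τ
    (fun x y => by simp [τ]) (fun x y => by simp [τ, hσm]) hτs
    (fun x => by simp [τ, hσσ])
  rcases hτ with ⟨g, hg⟩ | ⟨hno, h2, -, m, hm, g, hg⟩
  · let θ := AlgEquiv.ofBijective _ (theta_bijective (S := S) T R (Fin n))
    refine Or.inl ⟨Iso.ofEquiv (Φ.trans ((g.restrictScalars T).trans θ.symm)) (fun r => ?_) (fun a => ?_)⟩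
    · show θ.symm (g (Φ _)) = _
      rw [AlgEquiv.symm_apply_eq, hΦ, g.commutes]
      exact (theta_scalar r).symm
    · show θ.symm (g (Φ _)) = _
      rw [AlgEquiv.symm_apply_eq]
      show _ = theta T R (Fin n) _
      rw [theta_st (lam := lam) _ _ fun M => rfl]
      show g (Φ ((1 : T) ⊗ₜ (t.linS S lam a))) = st _ (θ (θ.symm (g (Φ _))))
      rw [AlgEquiv.apply_symm_apply, ← hg]
      simp [τ, σ]
  · let θ := AlgEquiv.ofBijective _ (theta_bijective (S := S) T R (Fin m × Fin 2))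
    have h2' : IsUnit (2 : T) :=
      isUnit_of_isUnit_algebraMap (lam := (bcLam lam T).toRingEquiv) (bcLam_invol T hlam)
        (isFixedRing_bc T hlam hS (Or.inl inferInstance)) (by rw [map_ofNat]; exact h2)
    refine Or.inr ⟨hno, h2', m, hm, ⟨Iso.ofEquiv (Φ.trans ((g.restrictScalars T).trans θ.symm)) (fun r => ?_) (fun a => ?_)⟩⟩
    · show θ.symm (g (Φ _)) = _
      rw [AlgEquiv.symm_apply_eq, hΦ, g.commutes]
      exact (theta_scalar r).symm
    · show θ.symm (g (Φ _)) = _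
      rw [AlgEquiv.symm_apply_eq]
      have hJ : ∀ z, θ (((negInv lam hlam (Fin m)).linS S lam).lTensor T z) =
          Jm (T ⊗[S] R) (Fin m) * st (bcLam lam T).toRingEquiv (θ z) * -Jm (T ⊗[S] R) (Fin m) := fun z => by
        induction z with
        | zero => simp [show st (bcLam lam T).toRingEquiv (0 : Matrix (Fin m × Fin 2) (Fin m × Fin 2) (T ⊗[S] R)) = 0 by
            ext; simp [st_apply]]
        | add p q hp hq =>
          rw [map_add, map_add, hp, hq, map_add,
            show ∀ M N : Matrix (Fin m × Fin 2) (Fin m × Fin 2) (T ⊗[S] R), st (bcLam lam T).toRingEquiv (M + N) =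
              st (bcLam lam T).toRingEquiv M + st (bcLam lam T).toRingEquiv N from fun M N => by ext; simp [st_apply],
            Matrix.mul_add, Matrix.add_mul]
        | tmul b M =>
          rw [LinearMap.lTensor_tmul, AzInv.LamInv.linS_apply, negInv_apply]
          have e : ∀ K : Matrix (Fin m × Fin 2) (Fin m × Fin 2) R, θ ((1 : T) ⊗ₜ K) =
              K.map (Algebra.TensorProduct.includeRight : R →ₐ[S] T ⊗[S] R).toRingHom := fun K => by
            ext i j; exact theta_tmul T R _ 1 K i j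
          have e1 : ∀ K : Matrix (Fin m × Fin 2) (Fin m × Fin 2) R, b ⊗ₜ[S] K = b • ((1 : T) ⊗ₜ[S] K) := fun K => by
            rw [TensorProduct.smul_tmul', smul_eq_mul, mul_one]
          rw [e1 (Jm R (Fin m) * _ * _), e1 M, map_smul, map_smul, e, e, Matrix.map_mul, Matrix.map_mul,
            show ∀ (K : Matrix (Fin m × Fin 2) (Fin m × Fin 2) R) (f : R →+* T ⊗[S] R), (-K).map f = -(K.map f) from
              fun K f => by ext; simp, Jm_map]
          have e2 : st (bcLam lam T).toRingEquiv (b • M.map (Algebra.TensorProduct.includeRight : R →ₐ[S] T ⊗[S] R).toRingHom) =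
              b • (st lam.toRingEquiv M).map (Algebra.TensorProduct.includeRight : R →ₐ[S] T ⊗[S] R).toRingHom := by
            ext i j
            simp [st_apply, map_smul, bcLam_tmul]
          rw [e2, Matrix.mul_smul, Matrix.smul_mul]
      show _ = θ (((negInv lam hlam (Fin m)).linS S lam).lTensor T (θ.symm (g (Φ ((1 : T) ⊗ₜ a)))))
      rw [hJ, AlgEquiv.apply_symm_apply, show Jm (T ⊗[S] R) (Fin m) * st _ (g (Φ ((1 : T) ⊗ₜ a))) =
          g (τ (Φ ((1 : T) ⊗ₜ a))) * Jm (T ⊗[S] R) (Fin m) from (hg _).symm, Matrix.mul_assoc, Matrix.mul_neg,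
        Jm_mul_self, neg_neg, Matrix.mul_one]
      simp [τ, σ]

end Point

end AzInvLib
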