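import Groth.Agent.AzInvLib.Spread
import Groth.Agent.AzInvLib.Models

/-! From points to étale covers. -/

set_option autoImplicit false

namespace AzInvLib

universe u v w w'

open scoped TensorProduct
open IsLocalRing HenselLib

variable {S : Type u} {R : Type v} [CommRing S] [CommRing R] [Algebra S R]
  {A : Type w} [Ring A] [Algebra S A] [Algebra R A] [IsScalarTower S R A]
  {A' : Type w'} [Ring A'] [Algebra S A'] [Algebra R A'] [IsScalarTower S R A']

/-- A point of the étale topology. -/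
structure IsPoint (S : Type u) [CommRing S] (T : Type u) [CommRing T] [Algebra S T] : Prop where
  hens : HenselianLocalRing T
  sep : @IsSepClosed (ResidueField T) _
  flat : Module.Flat S T
  cov : ∀ x : T, EtCov (R := S) x

theorem exists_isPoint (p : PrimeSpectrum S) :
    ∃ (T : Type u) (_ : CommRing T) (_ : Algebra S T) (hT : IsPoint S T),
      (haveI := hT.hens; (maximalIdeal T).comap (algebraMap S T)) = p.asIdeal := by
  obtain ⟨T, _, _, hh, hs, hf, hc, hcov⟩ := exists_point_ring S p.asIdeal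
  exact ⟨T, inferInstance, inferInstance, ⟨hh, hs, hf, hcov⟩, hc⟩

/-- Isomorphic at all points implies isomorphic after a cover. -/
theorem exists_cover_iso [Module.Projective R A] [Module.Finite R A] [Module.Projective R A']
    [Module.Finite R A'] {σ : A →ₗ[S] A} {σ' : A' →ₗ[S] A'} (μ : R → R)
    (hσ : ∀ r a, σ (r • a) = μ r • σ a) (hσ' : ∀ r a, σ' (r • a) = μ r • σ' a)
    (h : ∀ (T : Type u) [CommRing T] [Algebra S T], IsPoint S T → IsoOver R T σ σ') :
    ∃ (U : Type u) (_ : CommRing U) (_ : Algebra S U) (_ : Algebra.Etale S U),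
      Module.FaithfullyFlat S U ∧ IsoOver R U σ σ' := by
  obtain ⟨m, U, _, _, _, hF, hP⟩ := exists_cover_of_forall
    (fun (U : Type u) [CommRing U] [Algebra S U] => IsoOver R U σ σ') fun p => by
      obtain ⟨T, _, _, hT, hp⟩ := exists_isPoint p
      haveI := hT.hens; haveI := hT.flat
      obtain ⟨i⟩ := h T hT
      obtain ⟨U, _, _, hE, ξ, hU⟩ := i.spread hT.cov μ hσ hσ'
      refine ⟨U, inferInstance, inferInstance, hE,
        ⟨⟨(maximalIdeal T).comap (ξ : U →+* T), inferInstance⟩, PrimeSpectrum.ext ?_⟩, hU⟩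
      rw [← hp, PrimeSpectrum.comap_asIdeal, Ideal.comap_comap, ξ.comp_algebraMap]
  exact ⟨∀ k, U k, inferInstance, inferInstance, inferInstance, hF, ⟨Iso.pi U fun k => (hP k).some⟩⟩

theorem projective_finite {n : ℕ} (hA : AzInv.IsAzumayaDeg R A n) :
    Module.Projective R A ∧ Module.Finite R A := by
  haveI := hA.1
  exact ⟨inferInstance, inferInstance⟩

theorem exists_sqrt_of_two {T : Type u} [CommRing T] [HenselianLocalRing T] [IsSepClosed (ResidueField T)]
    (h2 : IsUnit (2 : T)) (x : T) (hx : IsUnit x) : ∃ y : T, y * y = x := by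
  haveI : NeZero (2 : ResidueField T) := ⟨by
    have := (h2.map (residue T)).ne_zero
    rwa [map_ofNat] at this⟩
  obtain ⟨z, hz⟩ := IsSepClosed.exists_pow_nat_eq (residue T x) 2
  obtain ⟨z0, rfl⟩ := residue_surjective z
  obtain ⟨y, hy, -⟩ := HenselianLocalRing.is_henselian (Polynomial.X ^ 2 - Polynomial.C x)
    (Polynomial.monic_X_pow_sub_C _ two_ne_zero) z0
    (by
      rw [← residue_eq_zero_iff, Polynomial.eval_sub, Polynomial.eval_pow, Polynomial.eval_X,
        Polynomial.eval_C, map_sub, map_pow, hz, sub_self])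
    (by
      rw [Polynomial.derivative_sub, Polynomial.derivative_X_pow, Polynomial.derivative_C, sub_zero]
      simp only [Polynomial.eval_mul, Polynomial.eval_C, Polynomial.eval_pow, Polynomial.eval_X,
        Nat.cast_ofNat, pow_one, Nat.reduceSub]
      refine h2.mul ?_
      rw [← notMem_maximalIdeal, ← residue_eq_zero_iff]
      intro h0
      rw [h0, zero_pow two_ne_zero] at hz
      exact (hx.map (residue T)).ne_zero hz.symm)
  refine ⟨y, ?_⟩
  have h := hy
  simp only [Polynomial.IsRoot, Polynomial.eval_sub, Polynomial.eval_pow, Polynomial.eval_X,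
    Polynomial.eval_C, sub_eq_zero] at h
  rw [← sq, h]

theorem IsPoint.exists_sqrt {T : Type u} [CommRing T] [Algebra S T] (hT : IsPoint S T)
    (hsq : ∀ (S₁ : Type u) [CommRing S₁] [Algebra S S₁] [Algebra.Etale S S₁] (x : S₁ˣ),
      ∃ (S₂ : Type u) (_ : CommRing S₂) (_ : Algebra S₁ S₂) (_ : Algebra.Etale S₁ S₂)
        (_ : Module.FaithfullyFlat S₁ S₂) (y : S₂), y * y = algebraMap S₁ S₂ ↑x)
    (x : T) (hx : IsUnit x) : ∃ y : T, y * y = x := by
  haveI := hT.hens; haveI := hT.sep
  obtain ⟨U, _, _, _, ξ, u, hu⟩ := hT.cov x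
  have hu' : IsUnit (ξ u) := by
    rw [show ξ u = x from hu]; exact hx
  haveI : Algebra.Etale S (Localization.Away u) := Algebra.Etale.comp S U (Localization.Away u)
  let ξ' : Localization.Away u →ₐ[S] T := IsLocalization.Away.liftAlgHom u (f := ξ) hu'
  obtain ⟨S₂, _, _, _, _, y, hy⟩ := hsq (Localization.Away u) (IsLocalization.Away.algebraMap_isUnit u).unit
  letI : Algebra (Localization.Away u) T := (ξ' : Localization.Away u →+* T).toAlgebra
  haveI : Algebra.Etale T (T ⊗[Localization.Away u] S₂) := inferInstance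
  haveI : Nontrivial (ResidueField T ⊗[T] (T ⊗[Localization.Away u] S₂)) :=
    (TensorProduct.AlgebraTensorModule.cancelBaseChange (Localization.Away u) T (ResidueField T)
      (ResidueField T) S₂).toEquiv.nontrivial
  obtain ⟨π, -⟩ := exists_point (R := T) (T ⊗[Localization.Away u] S₂)
  refine ⟨π ((1 : T) ⊗ₜ y), ?_⟩
  rw [← map_mul, Algebra.TensorProduct.tmul_mul_tmul, one_mul, hy, Algebra.algebraMap_eq_smul_one,
    TensorProduct.tmul_smul, TensorProduct.smul_tmul', ← Algebra.algebraMap_eq_smul_one]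
  refine (π.commutes _).trans ?_
  show ξ' _ = x
  rw [IsUnit.unit_spec]
  exact (IsLocalization.lift_eq _ u).trans hu

theorem exists_cover_units [Module.Projective R A] [Module.Finite R A]
    (P : ∀ (U : Type u) [CommRing U] [Algebra S U], (U ⊗[S] A)ˣ → Prop)
    (hpi : ∀ (ι : Type) [Fintype ι] [DecidableEq ι] (U : ι → Type u) [∀ i, CommRing (U i)]
      [∀ i, Algebra S (U i)] (u : ((∀ i, U i) ⊗[S] A)ˣ),
      (∀ i, P (U i) (Units.map (gmap (Pi.evalAlgHom S U i)).toMonoidHom u)) → P (∀ i, U i) u)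
    (h : ∀ (T : Type u) [CommRing T] [Algebra S T], IsPoint S T →
      ∃ (U : Type u) (_ : CommRing U) (_ : Algebra S U) (_ : Algebra.Etale S U) (_ : U →ₐ[S] T)
        (u : (U ⊗[S] A)ˣ), P U u) :
    ∃ (U : Type u) (_ : CommRing U) (_ : Algebra S U) (_ : Algebra.Etale S U)
      (_ : Module.FaithfullyFlat S U) (u : (U ⊗[S] A)ˣ), P U u := by
  obtain ⟨m, U, _, _, _, hF, hP⟩ := exists_cover_of_forall
    (fun (U : Type u) [CommRing U] [Algebra S U] => ∃ u : (U ⊗[S] A)ˣ, P U u) fun p => by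
      obtain ⟨T, _, _, hT, hp⟩ := exists_isPoint p
      haveI := hT.hens
      obtain ⟨U, _, _, hE, ξ, u, hu⟩ := h T hT
      refine ⟨U, inferInstance, inferInstance, hE,
        ⟨⟨(maximalIdeal T).comap (ξ : U →+* T), inferInstance⟩, PrimeSpectrum.ext ?_⟩, u, hu⟩
      rw [← hp, PrimeSpectrum.comap_asIdeal, Ideal.comap_comap, ξ.comp_algebraMap]
  choose u hu using hP
  let e := AlgEquiv.ofBijective _ (piComp_bijective (S := S) (A := A) U)
  refine ⟨∀ k, U k, inferInstance, inferInstance, inferInstance, hF,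
    Units.map e.symm.toAlgHom.toMonoidHom (MulEquiv.piUnits.symm u), hpi (Fin m) U _ fun k => ?_⟩
  convert hu k using 1
  refine Units.ext ?_
  exact congrFun (e.apply_symm_apply _) k

/-- The conjugation property spreads out. -/
theorem spread_inner [Module.Projective R A] [Module.Finite R A] {T : Type u} [CommRing T] [Algebra S T]
    (hT : IsPoint S T) (ψ : A ≃ₐ[R] A) (u₀ : (T ⊗[S] A)ˣ)
    (hu₀ : ∀ a : A, ((1 : T) ⊗ₜ ψ a) * (u₀ : T ⊗[S] A) = (u₀ : T ⊗[S] A) * ((1 : T) ⊗ₜ a)) :
    ∃ (U : Type u) (_ : CommRing U) (_ : Algebra S U) (_ : Algebra.Etale S U) (ξ : U →ₐ[S] T)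
      (u : (U ⊗[S] A)ˣ), gmap ξ (u : U ⊗[S] A) = u₀ ∧
        ∀ a : A, ((1 : U) ⊗ₜ ψ a) * (u : U ⊗[S] A) = (u : U ⊗[S] A) * ((1 : U) ⊗ₜ a) := by
  classical
  haveI := hT.hens; haveI := hT.flat
  obtain ⟨n, p, g, -, -, hpg⟩ := Module.Finite.exists_comp_eq_id_of_projective R A
  obtain ⟨F, hF⟩ := exists_finset_range_family (fun b : Bool => if b then (u₀ : T ⊗[S] A) else (↑u₀⁻¹ : T ⊗[S] A))
  obtain ⟨U, _, _, _, ξ, hξ⟩ := exists_etale_cover F fun x _ => hT.cov x
  choose b hb using hF U ξ hξ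
  let a : Fin n → A := fun k => p (Pi.single k 1)
  have ha : ∀ x, ∑ k, g x k • a k = x := fun x => by
    conv_rhs => rw [← LinearMap.id_apply (R := R) x, ← hpg, LinearMap.comp_apply, pi_eq_sum_univ' (g x), map_sum]
    exact Finset.sum_congr rfl fun k _ => (map_smul p _ _).symm
  obtain ⟨V, _, _, _, gV, ξ', hξ', hkill⟩ := exists_away_kill ξ (M := A)
    (Sum.elim (fun x : Bool => if x then b true * b false - 1 else b false * b true - 1)
      (fun k => ((1 : U) ⊗ₜ ψ (a k)) * b true - b true * ((1 : U) ⊗ₜ a k))) (by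
      rintro ((_ | _) | k) <;> simp [hb, gmap_tmul, hu₀])
  have hz := fun i => (hkill i)
  let u : (V ⊗[S] A)ˣ :=
    { val := gmap gV (b true)
      inv := gmap gV (b false)
      val_inv := by simpa [sub_eq_zero] using hz (Sum.inl true)
      inv_val := by simpa [sub_eq_zero] using hz (Sum.inl false) }
  refine ⟨V, inferInstance, inferInstance, inferInstance, ξ', u, ?_, fun x => ?_⟩
  · show gmap ξ' (gmap gV (b true)) = _
    rw [gmap_gmap, hξ', hb]
    rfl
  · have hk : ∀ k, ((1 : V) ⊗ₜ[S] ψ (a k)) * (u : V ⊗[S] A) = (u : V ⊗[S] A) * ((1 : V) ⊗ₜ a k) := fun k => by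
      simpa [sub_eq_zero, gmap_tmul] using hz (Sum.inr k)
    rw [← ha x, map_sum, TensorProduct.tmul_sum, TensorProduct.tmul_sum, Finset.sum_mul, Finset.mul_sum]
    refine Finset.sum_congr rfl fun k _ => ?_
    rw [map_smul, Algebra.smul_def, Algebra.smul_def, ← one_mul (1 : V),
      ← Algebra.TensorProduct.tmul_mul_tmul, ← Algebra.TensorProduct.tmul_mul_tmul, mul_assoc, hk,
      ← mul_assoc, scalar_mul_comm, mul_assoc]

/-- Global isomorphisms. -/
noncomputable def Iso.ofAlgEquiv (T : Type u) [CommRing T] [Algebra S T] {σ : A →ₗ[S] A}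
    {σ' : A' →ₗ[S] A'} (e : A ≃ₐ[R] A') (he : ∀ a, e (σ a) = σ' (e a)) : Iso T σ σ' R :=
  Iso.ofEquiv (Algebra.TensorProduct.congr (AlgEquiv.refl : T ≃ₐ[T] T) (e.restrictScalars S))
    (fun r => by simp [Algebra.TensorProduct.congr_apply])
    (fun a => by simp [Algebra.TensorProduct.congr_apply, he])

end AzInvLib

namespace AzInvLib

universe u v w

open scoped TensorProduct

theorem projective_matrix (R : Type v) [CommRing R] (A : Type w) [Ring A] [Algebra R A] [Module.Projective R A]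
    (m : Type*) [Fintype m] [DecidableEq m] : Module.Projective R (Matrix m m A) := by
  classical
  exact Module.Projective.of_equiv ((DFinsupp.linearEquivFunOnFintype (R := R) (M := fun _ : m × m => A)).trans
    (LinearEquiv.curry R A m m))

theorem isQuadEtale_baseChange {S : Type u} {R : Type v} [CommRing S] [CommRing R] [Algebra S R]
    (T : Type u) [CommRing T] [Algebra S T] (hq : RInv.IsQuadEtale S R) :
    RInv.IsQuadEtale T (T ⊗[S] R) := by
  obtain ⟨h1, h2, h3, h4⟩ := hq
  haveI := h1; haveI := h2; haveI := h3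
  refine ⟨inferInstance, inferInstance, inferInstance, fun p => ?_⟩
  rw [Module.rankAtStalk_baseChange]
  exact h4 _

theorem exists_unit_point {S : Type u} {R : Type v} [CommRing S] [CommRing R] [Algebra S R]
    {lam : R ≃ₐ[S] R} (T : Type u) [CommRing T] [Algebra S T] [IsLocalRing T] [Module.Flat S T]
    (hlam : ∀ r, lam (lam r) = r) (hS : RInv.IsFixedRing S R lam.toRingEquiv)
    (hq : RInv.IsQuadEtale S R) : ∃ a : T ⊗[S] R, IsUnit (a - bcLam lam T a) :=
  exists_unit_of_isQuadEtale (lam := (bcLam lam T).toRingEquiv) (bcLam_invol T hlam)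
    (isFixedRing_bc T hlam hS (Or.inl inferInstance)) (isQuadEtale_baseChange T hq)

end AzInvLib

namespace AzInvLib

universe v w

theorem finite_matrix (R : Type v) [CommRing R] (A : Type w) [Ring A] [Algebra R A] [Module.Finite R A]
    (m : Type*) [Fintype m] [DecidableEq m] : Module.Finite R (Matrix m m A) := by
  haveI : Module.Finite R (m × m → A) := Module.Finite.pi
  exact Module.Finite.equiv (LinearEquiv.curry R A m m)

end AzInvLib

namespace AzInvLib

universe v w

/-- `A` as `1 × 1` matrices. -/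
def oneMatrix (R : Type v) [CommRing R] (A : Type w) [Ring A] [Algebra R A] :
    A ≃ₐ[R] Matrix (Fin 1) (Fin 1) A where
  toFun a := Matrix.of fun _ _ => a
  invFun M := M 0 0
  left_inv a := rfl
  right_inv M := by ext i j; simp [Subsingleton.elim i 0, Subsingleton.elim j 0]
  map_mul' a b := by ext i j; simp [Matrix.mul_apply]
  map_add' a b := by ext i j; simp
  commutes' r := by ext i j; simp [Matrix.algebraMap_matrix_apply, Subsingleton.elim i j]

end AzInvLib

namespace AzInvLib

universe u v w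

open scoped TensorProduct
open IsLocalRing

variable {S : Type u} {R : Type v} [CommRing S] [CommRing R] [Algebra S R] {lam : R ≃ₐ[S] R}
  {A : Type w} [Ring A] [Algebra S A] [Algebra R A] [IsScalarTower S R A]
  {T : Type u} [CommRing T] [Algebra S T]

theorem lTensor_mul_rev (t : AzInv.LamInv R A lam) (x y : T ⊗[S] A) :
    (t.linS S lam).lTensor T (x * y) = (t.linS S lam).lTensor T y * (t.linS S lam).lTensor T x := by
  induction x with
  | zero => simp
  | add a b ha hb => simp only [add_mul, map_add, ha, hb, mul_add]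
  | tmul a x =>
    induction y with
    | zero => simp
    | add p q hp hq => simp only [mul_add, map_add, hp, hq, add_mul]
    | tmul b y => simp [t.map_mul, mul_comm]

theorem lTensor_invol (t : AzInv.LamInv R A lam) (x : T ⊗[S] A) :
    (t.linS S lam).lTensor T ((t.linS S lam).lTensor T x) = x := by
  induction x with
  | zero => simp
  | add a b ha hb => simp only [map_add, ha, hb]
  | tmul a x => simp

theorem exists_unitary_over [HenselianLocalRing T] [IsSepClosed (ResidueField T)] [Module.Flat S T]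
    (hlam : ∀ r, lam (lam r) = r) (hS : RInv.IsFixedRing S R lam.toRingEquiv)
    (hsq : ∀ x : T, IsUnit x → ∃ y : T, y * y = x) {n : ℕ} (hn : 0 < n) (hA : AzInv.IsAzumayaDeg R A n)
    (t : AzInv.LamInv R A lam) (ψ : A ≃ₐ[R] A) (hψ : ∀ a, ψ (t a) = t (ψ a)) :
    ∃ u : (T ⊗[S] A)ˣ, (∀ a : A, ((1 : T) ⊗ₜ ψ a) * (u : T ⊗[S] A) = (u : T ⊗[S] A) * ((1 : T) ⊗ₜ a)) ∧
      (t.linS S lam).lTensor T (u : T ⊗[S] A) * u = 1 := by
  obtain ⟨u, hu⟩ := exists_inner_over (T := T) hlam hS hn hA ψ
  obtain ⟨Φ, hΦ⟩ := exists_split (T := T) n hA hlam hS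
  let σ := (t.linS S lam).lTensor T
  set c := σ (u : T ⊗[S] A) * u with hc
  have hcomm : ∀ z, Commute z c := fun z => by
    induction z with
    | zero => exact Commute.zero_left _
    | add a b ha hb => exact ha.add_left hb
    | tmul s a =>
      have e : (s ⊗ₜ[S] a : T ⊗[S] A) = s • ((1 : T) ⊗ₜ[S] a) := by
        rw [TensorProduct.smul_tmul', smul_eq_mul, mul_one]
      rw [e]
      refine Commute.smul_left ?_ _
      have h1 := congrArg σ (hu (t a))
      rw [lTensor_mul_rev, lTensor_mul_rev] at h1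
      have h2 : σ ((1 : T) ⊗ₜ[S] ψ (t a)) = (1 : T) ⊗ₜ[S] ψ a := by simp [σ, hψ]
      have h3 : σ ((1 : T) ⊗ₜ[S] t a) = (1 : T) ⊗ₜ[S] a := by simp [σ]
      rw [h2, h3] at h1
      show _ = c * _
      rw [hc, ← mul_assoc, ← h1, mul_assoc, hu a, mul_assoc]
  obtain ⟨x, hx⟩ := Matrix.mem_range_scalar_iff_commute_single'.2 fun i j => by
    simpa using (hcomm (Φ.symm (Matrix.single i j 1))).map Φ
  have hxs : algebraMap (T ⊗[S] R) (Matrix (Fin n) (Fin n) (T ⊗[S] R)) x = Φ c := hx
  have hσ : ∀ y : T ⊗[S] R, σ (Φ.symm (algebraMap _ _ y)) = Φ.symm (algebraMap _ _ (bcLam lam T y)) := fun y => by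
    induction y with
    | zero => simp
    | add a b ha hb => simp only [map_add, ha, hb]
    | tmul s r =>
      rw [bcLam_tmul, ← apply_algebraMap Φ hΦ, ← apply_algebraMap Φ hΦ, AlgEquiv.symm_apply_apply,
        AlgEquiv.symm_apply_apply]
      simp [σ, t.map_algebraMap]
  have hfix : bcLam lam T x = x := by
    have h1 : σ c = c := by rw [hc, lTensor_mul_rev, lTensor_invol]
    have h2 := hσ x
    rw [hxs, AlgEquiv.symm_apply_apply, h1] at h2
    have h3 := congrArg Φ h2
    rw [AlgEquiv.apply_symm_apply, ← hxs] at h3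
    haveI : Nonempty (Fin n) := ⟨⟨0, hn⟩⟩
    have := congrFun (congrFun h3 ⟨0, hn⟩) ⟨0, hn⟩
    simpa [Matrix.algebraMap_matrix_apply] using this.symm
  obtain ⟨s, rfl⟩ := ((isFixedRing_bc T hlam hS (Or.inl inferInstance)).2 x).1 hfix
  have hcs : c = algebraMap T (T ⊗[S] A) s := Φ.injective (by
    rw [← hxs, AlgEquiv.commutes]
    exact (IsScalarTower.algebraMap_apply T (T ⊗[S] R) _ s).symm)
  have hcu : IsUnit c := by
    refine IsUnit.mul ⟨Units.mk (σ ↑u) (σ ↑u⁻¹) ?_ ?_, rfl⟩ u.isUnit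
    · rw [← lTensor_mul_rev, Units.inv_mul]; simp [σ, Algebra.TensorProduct.one_def]
    · rw [← lTensor_mul_rev, Units.mul_inv]; simp [σ, Algebra.TensorProduct.one_def]
  have hsu : IsUnit s := by
    refine isUnit_of_isUnit_algebraMap (lam := (bcLam lam T).toRingEquiv) (bcLam_invol T hlam)
      (isFixedRing_bc T hlam hS (Or.inl inferInstance)) ?_
    have h4 := hcu.map Φ
    rw [← hxs, Matrix.isUnit_iff_isUnit_det, Matrix.algebraMap_eq_diagonal, Matrix.det_diagonal] at h4
    exact (IsUnit.prod_univ_iff.1 h4) ⟨0, hn⟩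
  obtain ⟨y, hy⟩ := hsq s hsu
  have hyu : IsUnit y := isUnit_of_mul_isUnit_left (hy ▸ hsu)
  let v : (T ⊗[S] A)ˣ := u * Units.map (algebraMap T (T ⊗[S] A)).toMonoidHom hyu.unit⁻¹
  have hv : (v : T ⊗[S] A) = ((hyu.unit⁻¹ : Tˣ) : T) • (u : T ⊗[S] A) := by
    rw [Algebra.smul_def, Algebra.commutes]; rfl
  refine ⟨v, fun a => ?_, ?_⟩
  · rw [hv, mul_smul_comm, smul_mul_assoc, hu]
  · rw [hv, lTensor_smul', smul_mul_assoc, mul_smul_comm, smul_smul, ← hc, hcs,
      Algebra.algebraMap_eq_smul_one, smul_smul]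
    rw [show ((hyu.unit⁻¹ : Tˣ) : T) * ((hyu.unit⁻¹ : Tˣ) : T) * s = 1 by
      have h := hyu.val_inv_mul
      linear_combination ((((hyu.unit⁻¹ : Tˣ) : T) * y) + 1) * h + (-(((hyu.unit⁻¹ : Tˣ) : T) ^ 2)) * hy, one_smul]

end AzInvLib
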