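import Groth.Agent.AzInvLib.Fixed
import Mathlib.LinearAlgebra.Matrix.NonsingularInverse
import Mathlib.LinearAlgebra.Matrix.SchurComplement
import Mathlib.LinearAlgebra.Matrix.Adjugate
import Mathlib.Data.Matrix.Block
import Mathlib.LinearAlgebra.InvariantBasisNumber
import Mathlib.LinearAlgebra.FreeModule.StrongRankCondition
import Mathlib.Algebra.MvPolynomial.CommRing

/-! Hermitian and skew-hermitian matrices over semilocal rings with involution. -/

namespace AzInvLib

universe u v

open Matrix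

variable {A : Type v} [CommRing A] (lam : A ≃+* A)
variable {ι κ μ : Type*} [Fintype ι] [DecidableEq ι] [Fintype κ] [DecidableEq κ] [Fintype μ]
  [DecidableEq μ]

/-- The conjugate transpose. -/
def st {m n : Type*} (M : Matrix m n A) : Matrix n m A := (M.map lam)ᵀ

theorem st_apply {m n : Type*} (M : Matrix m n A) (i : n) (j : m) : st lam M i j = lam (M j i) := rfl

theorem st_mul {m n o : Type*} [Fintype n] (M : Matrix m n A) (N : Matrix n o A) :
    st lam (M * N) = st lam N * st lam M := by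
  ext i j
  simp [st_apply, Matrix.mul_apply, map_sum, mul_comm]

theorem st_one {n : Type*} [DecidableEq n] : st lam (1 : Matrix n n A) = 1 := by
  ext i j
  by_cases h : i = j
  · subst h; simp [st_apply]
  · simp [st_apply, Matrix.one_apply_ne (Ne.symm h), Matrix.one_apply_ne h]

theorem st_st (hlam : Function.Involutive lam) {m n : Type*} (M : Matrix m n A) :
    st lam (st lam M) = M := by
  ext i j; simp [st_apply, hlam (M i j)]

theorem st_smul {m n : Type*} (c : A) (M : Matrix m n A) :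
    st lam (c • M) = lam c • st lam M := by
  ext i j; simp [st_apply]

/-- Congruence of matrices. -/
def Cong (h : Matrix ι ι A) (h' : Matrix κ κ A) : Prop :=
  ∃ (v : Matrix ι κ A) (w : Matrix κ ι A), v * w = 1 ∧ w * v = 1 ∧ st lam v * h * v = h'

theorem Cong.refl (h : Matrix ι ι A) : Cong lam h h :=
  ⟨1, 1, one_mul _, one_mul _, by rw [st_one, one_mul, mul_one]⟩

theorem Cong.trans {lam : A ≃+* A} {h : Matrix ι ι A} {h' : Matrix κ κ A} {h'' : Matrix μ μ A}
    (p : Cong lam h h') (q : Cong lam h' h'') : Cong lam h h'' := by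
  obtain ⟨v, w, hvw, hwv, rfl⟩ := p
  obtain ⟨v', w', hvw', hwv', rfl⟩ := q
  refine ⟨v * v', w' * w, ?_, ?_, ?_⟩
  · rw [Matrix.mul_assoc v, ← Matrix.mul_assoc v' w', hvw', Matrix.one_mul, hvw]
  · rw [Matrix.mul_assoc w', ← Matrix.mul_assoc w v, hwv, Matrix.one_mul, hwv']
  · simp only [st_mul, Matrix.mul_assoc]

theorem cong_submatrix (h : Matrix ι ι A) (e : κ ≃ ι) : Cong lam h (h.submatrix e e) := by
  refine ⟨(1 : Matrix ι ι A).submatrix id e, (1 : Matrix ι ι A).submatrix e id, ?_, ?_, ?_⟩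
  · rw [Matrix.submatrix_mul_equiv, Matrix.one_mul, Matrix.submatrix_id_id]
  · rw [← Matrix.submatrix_mul _ _ e id e Function.bijective_id, Matrix.one_mul,
      Matrix.submatrix_one_equiv]
  · have hs : st lam ((1 : Matrix ι ι A).submatrix id e) = (1 : Matrix ι ι A).submatrix e id := by
      ext i j
      by_cases hij : j = e i
      · subst hij
        show lam ((1 : Matrix ι ι A) (e i) (e i)) = (1 : Matrix ι ι A) (e i) (e i)
        rw [Matrix.one_apply_eq, map_one]
      · show lam ((1 : Matrix ι ι A) j (e i)) = (1 : Matrix ι ι A) (e i) j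
        rw [Matrix.one_apply_ne hij, Matrix.one_apply_ne (Ne.symm hij), map_zero]
    ext i j
    simp [hs, Matrix.mul_apply, Matrix.one_apply]

theorem cong_isUnit {h : Matrix ι ι A} {v : Matrix ι ι A} (hv : IsUnit v) :
    Cong lam h (st lam v * h * v) := by
  obtain ⟨u, rfl⟩ := hv
  exact ⟨_, ↑u⁻¹, u.mul_inv, u.inv_mul, rfl⟩

theorem Cong.herm {lam : A ≃+* A} (hlam : Function.Involutive lam) {ε : A}
    {h : Matrix ι ι A} {h' : Matrix κ κ A} (p : Cong lam h h') (hh : ε • st lam h = h) :
    ε • st lam h' = h' := by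
  obtain ⟨v, w, -, -, rfl⟩ := p
  rw [st_mul, st_mul, st_st lam hlam, ← Matrix.mul_assoc]
  conv_rhs => rw [← hh]
  rw [Matrix.mul_smul, Matrix.smul_mul]

theorem Cong.isUnit {lam : A ≃+* A} {h : Matrix ι ι A} {h' : Matrix κ κ A}
    (p : Cong lam h h') (hh : IsUnit h) : IsUnit h' := by
  obtain ⟨v, w, hvw, hwv, rfl⟩ := p
  obtain ⟨u, rfl⟩ := hh
  refine isUnit_iff_exists_and_exists.2
    ⟨⟨w * (↑u⁻¹ : Matrix ι ι A) * st lam w, ?_⟩, ⟨w * (↑u⁻¹ : Matrix ι ι A) * st lam w, ?_⟩⟩
  · calc st lam v * (u : Matrix ι ι A) * v * (w * (↑u⁻¹ : Matrix ι ι A) * st lam w)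
        = st lam v * ((u : Matrix ι ι A) * ((v * w) * (↑u⁻¹ : Matrix ι ι A))) * st lam w := by
          simp only [Matrix.mul_assoc]
      _ = 1 := by rw [hvw, Matrix.one_mul, u.mul_inv, Matrix.mul_one, ← st_mul, hwv, st_one]
  · calc w * (↑u⁻¹ : Matrix ι ι A) * st lam w * (st lam v * (u : Matrix ι ι A) * v)
        = w * ((↑u⁻¹ : Matrix ι ι A) * ((st lam w * st lam v) * (u : Matrix ι ι A))) * v := by
          simp only [Matrix.mul_assoc]
      _ = 1 := by rw [← st_mul, hvw, st_one, Matrix.one_mul, u.inv_mul, Matrix.mul_one, hwv]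

theorem Cong.card_eq [Nontrivial A] {lam : A ≃+* A} {h : Matrix ι ι A} {h' : Matrix κ κ A}
    (p : Cong lam h h') : Fintype.card κ = Fintype.card ι := by
  obtain ⟨v, w, hvw, hwv, -⟩ := p
  exact card_eq_of_linearEquiv A (LinearEquiv.ofLinear v.mulVecLin w.mulVecLin
    (by rw [← Matrix.mulVecLin_mul, hvw, Matrix.mulVecLin_one])
    (by rw [← Matrix.mulVecLin_mul, hwv, Matrix.mulVecLin_one]))

omit [Fintype κ] [DecidableEq κ] in
theorem Cong.exists_square [Nontrivial A] {lam : A ≃+* A} {h : Matrix ι ι A}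
    {d : κ → A} [Fintype κ] [DecidableEq κ] (p : Cong lam h (diagonal d)) :
    ∃ d' : ι → A, ∃ v : Matrix ι ι A, IsUnit v ∧ st lam v * h * v = diagonal d' := by
  have hc := p.card_eq
  let e : ι ≃ κ := (Fintype.equivOfCardEq hc).symm
  obtain ⟨v, w, hvw, hwv, hv⟩ := p.trans (cong_submatrix lam (diagonal d) e)
  rw [Matrix.submatrix_diagonal_equiv] at hv
  exact ⟨_, v, isUnit_iff_exists_and_exists.2 ⟨⟨w, hvw⟩, ⟨w, hwv⟩⟩, hv⟩

theorem cong_fromBlocks_right {ρ σ τ : Type*} [Fintype ρ] [DecidableEq ρ] [Fintype σ] [DecidableEq σ]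
    [Fintype τ] [DecidableEq τ] (D : Matrix ρ ρ A) {E : Matrix σ σ A} {E' : Matrix τ τ A}
    (p : Cong lam E E') : Cong lam (fromBlocks D 0 0 E) (fromBlocks D 0 0 E') := by
  obtain ⟨v, w, hvw, hwv, rfl⟩ := p
  refine ⟨fromBlocks 1 0 0 v, fromBlocks 1 0 0 w, ?_, ?_, ?_⟩
  · simp [Matrix.fromBlocks_multiply, hvw, Matrix.fromBlocks_one]
  · simp [Matrix.fromBlocks_multiply, hwv, Matrix.fromBlocks_one]
  · have hs : st lam (fromBlocks (1 : Matrix ρ ρ A) 0 0 v) = fromBlocks 1 0 0 (st lam v) := by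
      rw [st, Matrix.fromBlocks_map, Matrix.fromBlocks_transpose]
      congr 1 <;> simp [st]
    simp [hs, Matrix.fromBlocks_multiply]

/-- Splitting off an invertible block. -/
theorem cong_schur {ε : A} (hε : ε * ε = 1) (hεl : lam ε = ε) (hlam : Function.Involutive lam)
    {ρ σ : Type*} [Fintype ρ] [DecidableEq ρ] [Fintype σ] [DecidableEq σ]
    (D : Matrix ρ ρ A) (B : Matrix ρ σ A) (C : Matrix σ ρ A) (E : Matrix σ σ A) (hD : IsUnit D)
    (hh : ε • st lam (fromBlocks D B C E) = fromBlocks D B C E) :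
    Cong lam (fromBlocks D B C E) (fromBlocks D 0 0 (E - C * D⁻¹ * B)) := by
  have hdet : IsUnit D.det := (Matrix.isUnit_iff_isUnit_det D).1 hD
  have hC : ε • st lam B = C := by
    have := congrArg Matrix.toBlocks₂₁ hh
    rwa [Matrix.toBlocks_fromBlocks₂₁, st, Matrix.fromBlocks_map, Matrix.fromBlocks_transpose,
      Matrix.fromBlocks_smul, Matrix.toBlocks_fromBlocks₂₁] at this
  have hDs : ε • st lam D = D := by
    have := congrArg Matrix.toBlocks₁₁ hh
    rwa [Matrix.toBlocks_fromBlocks₁₁, st, Matrix.fromBlocks_map, Matrix.fromBlocks_transpose,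
      Matrix.fromBlocks_smul, Matrix.toBlocks_fromBlocks₁₁] at this
  refine ⟨fromBlocks 1 (-(D⁻¹ * B)) 0 1, fromBlocks 1 (D⁻¹ * B) 0 1, ?_, ?_, ?_⟩
  · simp [Matrix.fromBlocks_multiply, Matrix.fromBlocks_one]
  · simp [Matrix.fromBlocks_multiply, Matrix.fromBlocks_one]
  · have hs : st lam (fromBlocks (1 : Matrix ρ ρ A) (-(D⁻¹ * B)) 0 (1 : Matrix σ σ A)) =
        fromBlocks 1 0 (-(st lam (D⁻¹ * B))) 1 := by
      rw [st, Matrix.fromBlocks_map, Matrix.fromBlocks_transpose]
      congr 1
      · exact st_one lam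
      · simp
      · ext i j; simp [st_apply]
      · exact st_one lam
    have hDB : st lam (D⁻¹ * B) * D = C := by
      rw [← hC]
      have e : st lam (D⁻¹ * B) * (ε • st lam D) = ε • st lam B := by
        rw [Matrix.mul_smul, ← st_mul, ← Matrix.mul_assoc, Matrix.mul_nonsing_inv D hdet,
          Matrix.one_mul]
      rwa [hDs] at e
    rw [hs, Matrix.fromBlocks_multiply, Matrix.fromBlocks_multiply]
    congr 1
    · simp
    · simp [← Matrix.mul_assoc, Matrix.mul_nonsing_inv D hdet]
    · simp [hDB]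
    · simp [← Matrix.mul_assoc, hDB]
      conv_rhs => rw [← hDB, Matrix.mul_assoc (st lam _) D, Matrix.mul_nonsing_inv D hdet, Matrix.mul_one]
      abel

/-- A congruent matrix has a unit on the diagonal. -/
def Good (h : Matrix ι ι A) : Prop :=
  ∃ h' : Matrix ι ι A, Cong lam h h' ∧ ∃ i, IsUnit (h' i i)

theorem split_one {ε : A} (hε : ε * ε = 1) (hεl : lam ε = ε) (hlam : Function.Involutive lam)
    {h : Matrix ι ι A} (hh : ε • st lam h = h) (i : ι) (hi : IsUnit (h i i)) :
    ∃ (D : Matrix Unit Unit A) (E : Matrix {j : ι // j ≠ i} {j : ι // j ≠ i} A),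
      D () () = h i i ∧ IsUnit D ∧ Cong lam h (fromBlocks D 0 0 E) ∧
      ∀ k l, E k l = h k.1 l.1 - h k.1 i * (↑hi.unit⁻¹ : A) * h i l.1 := by
  let e : (Unit ⊕ {j : ι // j ≠ i}) ≃ ι :=
    { toFun := Sum.elim (fun _ => i) (fun j => j.1)
      invFun := fun j => if hj : j = i then Sum.inl () else Sum.inr ⟨j, hj⟩
      left_inv := by rintro (⟨⟩ | ⟨j, hj⟩) <;> simp [*]
      right_inv := fun j => by by_cases hj : j = i <;> simp [hj] }
  have p := cong_submatrix lam h e
  obtain ⟨g, hg⟩ : ∃ g, g = h.submatrix e e := ⟨_, rfl⟩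
  rw [← hg] at p
  have hherm := p.herm hlam hh
  rw [← Matrix.fromBlocks_toBlocks g] at p hherm
  have hD : g.toBlocks₁₁ = diagonal (fun _ => h i i) := by
    ext ⟨⟩ ⟨⟩; simp [hg, Matrix.toBlocks₁₁, e]
  have hDu : IsUnit g.toBlocks₁₁ := by
    rw [Matrix.isUnit_iff_isUnit_det, hD]; simpa using hi
  refine ⟨_, _, by simp [hD], hDu, p.trans (cong_schur lam hε hεl hlam _ _ _ _ hDu hherm), fun k l => ?_⟩
  have hinv : (diagonal (fun _ : Unit => h i i))⁻¹ = diagonal (fun _ => (↑hi.unit⁻¹ : A)) :=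
    Matrix.inv_eq_right_inv (by
      rw [Matrix.diagonal_mul_diagonal, ← Matrix.diagonal_one]
      simp [hi.mul_val_inv])
  rw [hD, hinv]
  simp [Matrix.mul_apply, hg, Matrix.toBlocks₁₂, Matrix.toBlocks₂₁, Matrix.toBlocks₂₂, e, mul_assoc]

theorem cong_unit_block {σ : Type*} [Fintype σ] [DecidableEq σ] (D : Matrix Unit Unit A)
    (d : σ → A) : fromBlocks D 0 0 (diagonal d) = diagonal (Sum.elim (fun _ => D () ()) d) := by
  ext (⟨⟩ | i) (⟨⟩ | j) <;> simp [Matrix.diagonal_apply]

variable {S : Type u} [CommRing S] [IsLocalRing S] [Algebra S A]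

omit [Fintype κ] [DecidableEq κ] [Fintype μ] [DecidableEq μ] in
theorem exists_offdiag_notMem {q : Ideal A} [q.IsMaximal] [Nonempty ι] {h : Matrix ι ι A}
    (hu : IsUnit h) (i : ι) : ∃ j, h i j ∉ q := by
  by_contra hno
  push Not at hno
  obtain ⟨w, hw⟩ := hu.exists_right_inv
  have := congrFun (congrFun hw i) i
  rw [Matrix.mul_apply, Matrix.one_apply_eq] at this
  refine Ideal.IsMaximal.ne_top ‹q.IsMaximal› ((Ideal.eq_top_iff_one _).2 ?_)
  rw [← this]
  exact Ideal.sum_mem _ fun j _ => q.mul_mem_right _ (hno j)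

theorem det_eq_zero_of_alternating {K : Type*} [CommRing K] {n : Type*} [Fintype n] [DecidableEq n]
    (hn : Odd (Fintype.card n)) (M : Matrix n n K) (hM : Mᵀ = -M) (hd : ∀ i, M i i = 0) :
    M.det = 0 := by
  classical
  let e := Fintype.equivFin n
  let U : Matrix n n (MvPolynomial (n × n) ℤ) :=
    Matrix.of fun i j => if e i < e j then MvPolynomial.X (i, j) else 0
  have h0 : (U - Uᵀ).det = 0 := by
    have h1 : (U - Uᵀ)ᵀ = -(U - Uᵀ) := by simp
    have h2 := congrArg Matrix.det h1
    rw [Matrix.det_transpose, Matrix.det_neg, hn.neg_one_pow, neg_one_mul] at h2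
    have h3 : (2 : MvPolynomial (n × n) ℤ) * (U - Uᵀ).det = 0 := by linear_combination h2
    exact (mul_eq_zero.1 h3).resolve_left two_ne_zero
  let φ : MvPolynomial (n × n) ℤ →+* K := MvPolynomial.eval₂Hom (Int.castRingHom K) (fun p => M p.1 p.2)
  have hφ : φ.mapMatrix (U - Uᵀ) = M := by
    ext i j
    have hji : M j i = -M i j := congrFun (congrFun hM i) j
    simp only [RingHom.mapMatrix_apply, Matrix.map_apply, Matrix.sub_apply, Matrix.transpose_apply,
      U, Matrix.of_apply]
    rcases lt_trichotomy (e i) (e j) with h | h | h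
    · simp [h, h.not_gt, φ]
    · obtain rfl := e.injective h; simp [hd i]
    · simp [h, h.not_gt, φ, hji]
  rw [← hφ, ← RingHom.map_det, h0, map_zero]

variable {lam}

theorem lam_mem_iff {q : Ideal A} {ε z : A} (hε : ε * ε = 1) (hlam : Function.Involutive lam)
    (hz : lam z = ε * z) : lam z ∈ q ↔ z ∈ q := by
  rw [hz]
  refine ⟨fun h => ?_, q.mul_mem_left ε⟩
  have := q.mul_mem_left ε h
  rwa [← mul_assoc, hε, one_mul] at this

theorem herm_diag {ε : A} (hε : ε * ε = 1) (hlam : Function.Involutive lam) {h : Matrix ι ι A}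
    (hh : ε • st lam h = h) (i : ι) : lam (h i i) = ε * h i i := by
  have := congrFun (congrFun hh i) i
  rw [Matrix.smul_apply, st_apply, smul_eq_mul] at this
  conv_rhs => rw [← this, ← mul_assoc, hε, one_mul]

theorem good_of_cases (hlam : Function.Involutive lam) (hS : RInv.IsFixedRing S A lam) {ε : A}
    (hε : ε * ε = 1) (hεl : lam ε = ε) {h : Matrix ι ι A} (hu : IsUnit h) (hh : ε • st lam h = h)
    [Nonempty ι]
    (hcase : (∃ a : A, IsUnit (a - lam a)) ∨ ε + 1 ∉ Ring.jacobson A ∨ Odd (Fintype.card ι)) :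
    Good lam h := by
  classical
  haveI := nontrivial hS
  by_cases hd : ∃ i, IsUnit (h i i)
  · exact ⟨h, Cong.refl lam h, hd⟩
  push Not at hd
  obtain ⟨q, hq⟩ := Ideal.exists_maximal A
  have hdiag : ∀ i, h i i ∈ q := fun i => by
    by_contra hn
    exact hd i ((isUnit_iff hlam hS q _).2 ⟨hn, fun h' => hn ((lam_mem_iff hε hlam (herm_diag hε hlam hh i)).1 h')⟩)
  obtain ⟨i⟩ := ‹Nonempty ι›
  obtain ⟨j, hj⟩ := exists_offdiag_notMem (q := q) hu i
  have hij : j ≠ i := fun he => hj (he ▸ hdiag i)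
  suffices H : ∃ c : A, c * h i j + ε * lam (c * h i j) ∉ q by
    obtain ⟨c, hc⟩ := H
    let v : Matrix ι ι A := Matrix.transvection j i c
    have hv : IsUnit v := (Matrix.isUnit_iff_isUnit_det _).2
      (by rw [Matrix.det_transvection_of_ne j i hij]; exact isUnit_one)
    have p := cong_isUnit lam (h := h) hv
    refine ⟨_, p, i, ?_⟩
    set z := (st lam v * h * v) i i with hz
    have hji : h j i = ε * lam (h i j) := by
      have := congrFun (congrFun hh j) i
      rw [Matrix.smul_apply, st_apply, smul_eq_mul] at this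
      exact this.symm
    have hvi : ∀ k, v k i = (if k = i then 1 else 0) + (if k = j then c else 0) := fun k => by
      simp only [v, Matrix.transvection, Matrix.add_apply, Matrix.one_apply, Matrix.single_apply]
      congr 1
      by_cases hk : k = j
      · simp [hk, eq_comm]
      · simp [hk, Ne.symm hk]
    have hzval : z = h i i + h i j * c + (lam c * h j i + lam c * h j j * c) := by
      rw [hz, Matrix.mul_apply]
      simp only [Matrix.mul_apply, st_apply, hvi, map_add, apply_ite lam, map_one, map_zero,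
        add_mul, mul_add, Finset.sum_add_distrib, ite_mul, mul_ite, one_mul, zero_mul, mul_one,
        mul_zero, Finset.sum_ite_eq', Finset.mem_univ, if_true]
      ring
    have hzq : z ∉ q := fun hzm => hc (by
      have e : c * h i j + ε * lam (c * h i j) = z - (h i i + lam c * h j j * c) := by
        rw [hzval, hji, map_mul]; ring
      rw [e]
      exact sub_mem hzm (add_mem (hdiag i) (q.mul_mem_right _ (q.mul_mem_left _ (hdiag j)))))
    exact (isUnit_iff hlam hS q z).2
      ⟨hzq, fun h' => hzq ((lam_mem_iff hε hlam (herm_diag hε hlam (p.herm hlam hh) i)).1 h')⟩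
  by_cases hqq : q.comap lam = q
  · obtain ⟨t, s, hs, hts⟩ : ∃ t, ∃ s ∈ q, t * h i j + s = 1 := Ideal.IsMaximal.exists_inv hq hj
    suffices H : ∃ e : A, e + ε * lam e ∉ q by
      obtain ⟨e, he⟩ := H
      refine ⟨e * t, fun hm => he ?_⟩
      have hls : lam s ∈ q := by rw [← Ideal.mem_comap, hqq]; exact hs
      have h1 : e * t * h i j = e - e * s := by linear_combination e * hts
      rw [h1, map_sub, map_mul] at hm
      have := add_mem hm (add_mem (q.mul_mem_left e hs) (q.mul_mem_left (ε * lam e) hls))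
      rwa [show e - e * s + ε * (lam e - lam e * lam s) + (e * s + ε * lam e * lam s) = e + ε * lam e by
        ring] at this
    by_contra hno
    push Not at hno
    have h1 := hno 1
    rw [map_one, mul_one, add_comm] at h1
    rcases hcase with ⟨θ, hθ⟩ | hc | hodd
    · refine ((isUnit_iff hlam hS q _).1 hθ).1 ?_
      have := sub_mem (hno θ) (q.mul_mem_left (lam θ) h1)
      rwa [show θ + ε * lam θ - lam θ * (ε + 1) = θ - lam θ by ring] at this
    · refine hc ((mem_jacobson_iff hlam hS q _).2 ⟨h1, ?_⟩)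
      rwa [map_add, map_one, hεl]
    · let π := Ideal.Quotient.mk q
      have hε1 : π ε = -1 := by
        rw [eq_neg_iff_add_eq_zero, ← map_one π, ← map_add]
        exact Ideal.Quotient.eq_zero_iff_mem.2 h1
      have hres : ∀ x, π (lam x) = π x := fun x => by
        rw [Ideal.Quotient.eq]
        have := sub_mem (q.mul_mem_left (lam x) h1) (hno x)
        rwa [show lam x * (ε + 1) - (x + ε * lam x) = lam x - x by ring] at this
      have hM : (h.map π)ᵀ = -(h.map π) := by
        ext a b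
        have := congrArg π (congrFun (congrFun hh a) b)
        rw [Matrix.smul_apply, st_apply, smul_eq_mul, map_mul, hε1, hres, neg_one_mul] at this
        simp [← this]
      have h0 := det_eq_zero_of_alternating hodd (h.map π) hM
        fun a => Ideal.Quotient.eq_zero_iff_mem.2 (hdiag a)
      have hdu := ((Matrix.isUnit_iff_isUnit_det h).1 hu).map π
      rw [RingHom.map_det, RingHom.mapMatrix_apply, h0] at hdu
      haveI : Nontrivial (A ⧸ q) := Ideal.Quotient.nontrivial_iff.2 hq.ne_top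
      exact not_isUnit_zero hdu
  · obtain ⟨x, hx, hx1⟩ : ∃ x ∈ q.comap lam, x - 1 ∈ q := by
      haveI : (q.comap lam).IsMaximal := Ideal.comap_isMaximal_of_surjective lam lam.surjective
      obtain ⟨y, hy, z, hz, hyz⟩ := Submodule.mem_sup.1
        (show (1 : A) ∈ q.comap lam ⊔ q by rw [Ideal.IsMaximal.coprime_of_ne ‹_› hq hqq]; trivial)
      exact ⟨y, hy, by rw [← hyz, sub_add_cancel_left]; exact neg_mem hz⟩
    refine ⟨x, fun hm => hj ?_⟩
    rw [Ideal.mem_comap] at hx
    have := sub_mem (sub_mem hm (q.mul_mem_left (ε * lam (h i j)) hx)) (q.mul_mem_left (h i j) hx1)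
    rw [map_mul] at this
    rwa [show x * h i j + ε * (lam x * lam (h i j)) - ε * lam (h i j) * lam x - h i j * (x - 1) =
      h i j by ring] at this

theorem good_split (hlam : Function.Involutive lam) (hS : RInv.IsFixedRing S A lam) {ε : A}
    (hε : ε * ε = 1) (hεl : lam ε = ε) {h : Matrix ι ι A} (hu : IsUnit h) (hh : ε • st lam h = h)
    (hg : Good lam h) :
    ∃ (i : ι) (D : Matrix Unit Unit A) (E : Matrix {j : ι // j ≠ i} {j : ι // j ≠ i} A),
      Cong lam h (fromBlocks D 0 0 E) ∧ (Nonempty {j : ι // j ≠ i} → Good lam E) := by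
  classical
  haveI := nontrivial hS
  obtain ⟨h1, p1, i, hi⟩ := hg
  have hh1 := p1.herm hlam hh
  obtain ⟨D, E, hD, hDu, p2, hE⟩ := split_one lam hε hεl hlam hh1 i hi
  by_cases hne : Nonempty {j : ι // j ≠ i}
  swap
  · exact ⟨i, D, E, p1.trans p2, fun h' => absurd h' hne⟩
  by_cases hEg : Good lam E
  · exact ⟨i, D, E, p1.trans p2, fun _ => hEg⟩
  have hF := p2.herm hlam hh1
  have hFu : IsUnit (fromBlocks D 0 0 E) := p2.isUnit (p1.isUnit hu)
  have hEh : ε • st lam E = E := by
    have := congrArg Matrix.toBlocks₂₂ hF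
    rwa [Matrix.toBlocks_fromBlocks₂₂, st, Matrix.fromBlocks_map, Matrix.fromBlocks_transpose,
      Matrix.fromBlocks_smul, Matrix.toBlocks_fromBlocks₂₂] at this
  have hEu : IsUnit E := by
    rw [Matrix.isUnit_iff_isUnit_det] at hFu ⊢
    rw [Matrix.det_fromBlocks_zero₂₁] at hFu
    exact isUnit_of_mul_isUnit_right hFu
  rcases exists_unit_or_local hlam hS with hu' | ⟨hloc, -⟩
  · exact absurd (good_of_cases hlam hS hε hεl hEu hEh (Or.inl hu')) hEg
  let q := IsLocalRing.maximalIdeal A
  have hEd : ∀ a, E a a ∈ q := fun a => by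
    rw [IsLocalRing.mem_maximalIdeal, mem_nonunits_iff]
    exact fun hu' => hEg ⟨E, Cong.refl lam E, a, hu'⟩
  haveI := hne
  obtain ⟨k⟩ := id hne
  obtain ⟨l, hl⟩ := exists_offdiag_notMem (q := q) hEu k
  have hkl : k ≠ l := fun he => hl (he ▸ hEd k)
  let F := fromBlocks D 0 0 E
  let v : Matrix (Unit ⊕ {j : ι // j ≠ i}) (Unit ⊕ {j : ι // j ≠ i}) A :=
    Matrix.transvection (Sum.inr k) (Sum.inl ()) 1
  have hv : IsUnit v := (Matrix.isUnit_iff_isUnit_det _).2
    (by rw [Matrix.det_transvection_of_ne (Sum.inr k) (Sum.inl ()) Sum.inr_ne_inl]; exact isUnit_one)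
  have p3 := cong_isUnit lam (h := F) hv
  have hval : ∀ a b, (st lam v * F * v) a b =
      F a b + (if b = Sum.inl () then F a (Sum.inr k) else 0) +
        ((if a = Sum.inl () then F (Sum.inr k) b else 0) +
          (if a = Sum.inl () ∧ b = Sum.inl () then F (Sum.inr k) (Sum.inr k) else 0)) := by
    intro a b
    have hs : st lam v = Matrix.transvection (Sum.inl ()) (Sum.inr k) 1 := by
      ext x y
      simp only [v, st_apply, Matrix.transvection, Matrix.add_apply, Matrix.one_apply,
        Matrix.single_apply, map_add, apply_ite lam, map_one, map_zero, eq_comm (a := y) (b := x)]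
      congr 1
      simp [and_comm]
    rw [hs, Matrix.mul_apply]
    simp only [v, Matrix.transvection, Matrix.mul_apply, Matrix.add_apply, Matrix.one_apply,
      Matrix.single_apply, add_mul, mul_add, Finset.sum_add_distrib, ite_mul, mul_ite, one_mul,
      zero_mul, mul_one, mul_zero, ite_and, Finset.sum_ite_eq, Finset.sum_ite_eq', Finset.mem_univ,
      if_true, eq_comm (a := Sum.inl ())]
    by_cases ha : a = Sum.inl () <;> by_cases hb : b = Sum.inl () <;> simp [ha, hb] <;> abel
  have h00 : (st lam v * F * v) (Sum.inl ()) (Sum.inl ()) = D () () + E k k := by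
    rw [hval]; simp [F]
  have hu0 : IsUnit ((st lam v * F * v) (Sum.inl ()) (Sum.inl ())) := by
    rw [h00, hD]
    by_contra hn
    exact (IsLocalRing.mem_maximalIdeal (h1 i i)).1
      ((add_mem_cancel_right (hEd k)).1 ((IsLocalRing.mem_maximalIdeal _).2 hn)) hi
  obtain ⟨D', E', -, -, p4, hE'⟩ := split_one lam hε hεl hlam (p3.herm hlam hF) _ hu0
  let g : {j : ι // j ≠ i} ≃ {x : Unit ⊕ {j : ι // j ≠ i} // x ≠ Sum.inl ()} :=
    { toFun := fun j => ⟨Sum.inr j, Sum.inr_ne_inl⟩
      invFun := fun x => x.1.elim (fun _ => k) id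
      left_inv := fun j => rfl
      right_inv := by rintro ⟨⟨⟩ | j, hx⟩ <;> simp at hx ⊢ }
  refine ⟨i, D', E'.submatrix g g, p1.trans (p2.trans (p3.trans (p4.trans
    (cong_fromBlocks_right lam D' (cong_submatrix lam E' g))))), fun _ => ⟨_, Cong.refl lam _, l, ?_⟩⟩
  rw [Matrix.submatrix_apply, hE']
  simp only [hval]
  simp only [g, Equiv.coe_fn_mk, F, Matrix.fromBlocks_apply₁₂, Matrix.fromBlocks_apply₂₁,
    Matrix.fromBlocks_apply₂₂, Matrix.zero_apply, if_true, if_false, reduceCtorEq, and_false,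
    and_true, add_zero, zero_add]
  by_contra hn
  have h2 := sub_mem (hEd l) ((IsLocalRing.mem_maximalIdeal _).2 hn)
  rw [sub_sub_cancel] at h2
  have hlk : E l k ∉ q := by
    have := congrFun (congrFun hEh l) k
    rw [Matrix.smul_apply, st_apply, smul_eq_mul] at this
    rw [← this]
    intro hm
    rw [IsLocalRing.mem_maximalIdeal, mem_nonunits_iff] at hm hl
    exact hm ((IsUnit.of_mul_eq_one _ hε).mul ((not_not.1 hl).map lam))
  rw [mul_assoc] at h2
  rcases (inferInstance : q.IsPrime).mem_or_mem h2 with h3 | h3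
  · exact hlk h3
  rcases (inferInstance : q.IsPrime).mem_or_mem h3 with h4 | h4
  · exact (IsLocalRing.mem_maximalIdeal _).1 h4 (Units.isUnit _)
  · exact hl h4

theorem exists_diagonal (hlam : Function.Involutive lam) (hS : RInv.IsFixedRing S A lam) {ε : A}
    (hε : ε * ε = 1) (hεl : lam ε = ε) :
    ∀ (n : ℕ) {ι : Type} [Fintype ι] [DecidableEq ι] (h : Matrix ι ι A), Fintype.card ι = n →
      IsUnit h → ε • st lam h = h → (Nonempty ι → Good lam h) →
      ∃ (κ : Type) (_ : Fintype κ) (_ : DecidableEq κ) (d : κ → A), Cong lam h (diagonal d) := by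
  intro n
  induction n with
  | zero =>
    intro ι _ _ h hc _ _ _
    haveI : IsEmpty ι := Fintype.card_eq_zero_iff.1 hc
    exact ⟨ι, inferInstance, inferInstance, fun _ => 0, by
      rw [show diagonal (fun _ : ι => (0 : A)) = h from Subsingleton.elim _ _]; exact Cong.refl lam h⟩
  | succ n ih =>
    intro ι _ _ h hc hu hh hg
    haveI : Nonempty ι := Fintype.card_pos_iff.1 (by omega)
    obtain ⟨i, D, E, p, hE⟩ := good_split hlam hS hε hεl hu hh (hg inferInstance)
    have hF := p.herm hlam hh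
    have hFu := p.isUnit hu
    have hEh : ε • st lam E = E := by
      have := congrArg Matrix.toBlocks₂₂ hF
      rwa [Matrix.toBlocks_fromBlocks₂₂, st, Matrix.fromBlocks_map, Matrix.fromBlocks_transpose,
        Matrix.fromBlocks_smul, Matrix.toBlocks_fromBlocks₂₂] at this
    have hEu : IsUnit E := by
      rw [Matrix.isUnit_iff_isUnit_det] at hFu ⊢
      rw [Matrix.det_fromBlocks_zero₂₁] at hFu
      exact isUnit_of_mul_isUnit_right hFu
    obtain ⟨κ, _, _, d, p'⟩ := ih E (by
      rw [Fintype.card_subtype_compl, Fintype.card_subtype_eq]; omega) hEu hEh hE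
    refine ⟨Unit ⊕ κ, inferInstance, inferInstance, Sum.elim (fun _ => D () ()) d, ?_⟩
    rw [← cong_unit_block]
    exact p.trans (cong_fromBlocks_right lam D p')

omit [Fintype κ] [DecidableEq κ] [Fintype μ] [DecidableEq μ] in
theorem diag_mem_jacobson (hlam : Function.Involutive lam) (hS : RInv.IsFixedRing S A lam)
    (hid : ∀ a : A, lam a - a ∈ Ring.jacobson A) (h2 : IsUnit (2 : A))
    {h : Matrix ι ι A} (hh : (-1 : A) • st lam h = h) (i : ι) : h i i ∈ Ring.jacobson A := by
  obtain ⟨t, ht⟩ := h2.exists_left_inv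
  have hl := herm_diag (lam := lam) (ε := -1) (by ring) hlam hh i
  have h3 := hid (h i i)
  rw [hl] at h3
  rw [show h i i = -(t * (-1 * h i i - h i i)) by linear_combination (-(h i i)) * ht]
  exact neg_mem (Ideal.mul_mem_left _ _ h3)

theorem exists_symplectic (hlam : Function.Involutive lam) (hS : RInv.IsFixedRing S A lam)
    (hid : ∀ a : A, lam a - a ∈ Ring.jacobson A) (h2 : IsUnit (2 : A)) :
    ∀ (n : ℕ) {ι : Type} [Fintype ι] [DecidableEq ι] (h : Matrix ι ι A), Fintype.card ι = n →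
      IsUnit h → (-1 : A) • st lam h = h →
      ∃ (κ : Type) (_ : Fintype κ) (_ : DecidableEq κ) (a b : κ → A),
        (∀ x, a x ∈ Ring.jacobson A ∧ b x ∈ Ring.jacobson A) ∧
        Cong lam h ((Matrix.blockDiagonal fun x => Matrix.of ![![a x, 1], ![-1, b x]]).submatrix
          Prod.swap Prod.swap : Matrix (κ × Fin 2) (κ × Fin 2) A) := by
  intro n
  induction n using Nat.strong_induction_on with
  | h n ih =>
  intro ι _ _ h hc hu hh
  haveI := nontrivial hS
  rcases isEmpty_or_nonempty ι with he | hne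
  · refine ⟨Empty, inferInstance, inferInstance, fun x => x.elim, fun x => x.elim, fun x => x.elim, ?_⟩
    refine ⟨fun i => (IsEmpty.false i).elim, fun i => i.1.elim, ?_, ?_, ?_⟩
    · ext i; exact (IsEmpty.false i).elim
    · ext i; exact i.1.elim
    · ext i; exact i.1.elim
  have hJ : ∀ i, h i i ∈ Ring.jacobson A := diag_mem_jacobson hlam hS hid h2 hh
  haveI hloc : IsLocalRing A := ((exists_unit_or_local hlam hS).resolve_left
    fun ⟨r, hr⟩ => not_unit_of_jacobson hS hid r hr).1
  let q := IsLocalRing.maximalIdeal A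
  have hJq : Ring.jacobson A = q := by
    rw [← Ideal.jacobson_bot, IsLocalRing.jacobson_eq_maximalIdeal _ bot_ne_top]
  haveI := hne
  obtain ⟨i⟩ := id hne
  obtain ⟨j, hj⟩ := exists_offdiag_notMem (q := q) hu i
  have hij : i ≠ j := fun e => hj (e ▸ hJq ▸ hJ i)
  obtain ⟨c, hc'⟩ : ∃ c, h i j * c = 1 := (IsLocalRing.notMem_maximalIdeal.1 hj).exists_right_inv
  let w : Matrix ι ι A := diagonal fun k => if k = j then c else 1
  have hw : IsUnit w := by
    rw [Matrix.isUnit_iff_isUnit_det, Matrix.det_diagonal, Finset.prod_ite_eq']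
    simpa using IsUnit.of_mul_eq_one _ ((mul_comm _ _).trans hc')
  have p1 := cong_isUnit lam (h := h) hw
  set g := st lam w * h * w with hgdef
  have hg := p1.herm hlam hh
  have hgij : g i j = 1 := by
    have hs : st lam w = diagonal fun k => lam (if k = j then c else 1) := by
      rw [st, Matrix.diagonal_map (map_zero lam), Matrix.diagonal_transpose]
    rw [hgdef, hs, Matrix.mul_diagonal, Matrix.diagonal_mul]
    simp [hij, hc']
  have hgji : g j i = -1 := by
    have := congrFun (congrFun hg j) i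
    rw [Matrix.smul_apply, st_apply, hgij, map_one, smul_eq_mul, mul_one] at this
    exact this.symm
  let e : Fin 2 ⊕ {k : ι // k ≠ i ∧ k ≠ j} ≃ ι :=
    { toFun := Sum.elim ![i, j] (fun k => k.1)
      invFun := fun k => if hki : k = i then Sum.inl 0 else if hkj : k = j then Sum.inl 1 else
        Sum.inr ⟨k, hki, hkj⟩
      left_inv := by
        rintro (x | ⟨k, hk1, hk2⟩)
        · fin_cases x <;> simp [hij.symm]
        · simp [hk1, hk2]
      right_inv := fun k => by
        by_cases hki : k = i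
        · simp [hki]
        · by_cases hkj : k = j <;> simp [hki, hkj, hij.symm] }
  have p2 := cong_submatrix lam g e
  obtain ⟨g', hg'⟩ : ∃ g', g' = g.submatrix e e := ⟨_, rfl⟩
  rw [← hg'] at p2
  have hherm := p2.herm hlam hg
  rw [← Matrix.fromBlocks_toBlocks g'] at p2 hherm
  have hD : g'.toBlocks₁₁ = Matrix.of ![![g i i, 1], ![-1, g j j]] := by
    ext x y
    fin_cases x <;> fin_cases y <;> simp [hg', Matrix.toBlocks₁₁, e, hgij, hgji]
  have hgJ : ∀ k, g k k ∈ Ring.jacobson A := diag_mem_jacobson hlam hS hid h2 hg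
  have hDu : IsUnit g'.toBlocks₁₁ := by
    rw [Matrix.isUnit_iff_isUnit_det, hD, Matrix.det_fin_two]
    simp only [Matrix.of_apply, Matrix.cons_val_zero, Matrix.cons_val_one]
    refine IsLocalRing.notMem_maximalIdeal.1 fun hm => ?_
    have hgi : g i i * g j j ∈ q := q.mul_mem_right _ (hJq ▸ hgJ i)
    have := sub_mem hm hgi
    rw [show g i i * g j j - 1 * -1 - g i i * g j j = 1 by ring] at this
    exact (IsLocalRing.maximalIdeal.isMaximal A).ne_top ((Ideal.eq_top_iff_one _).2 this)
  have p3 := cong_schur lam (ε := -1) (by ring) (by simp) hlam _ _ _ _ hDu hherm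
  set E := g'.toBlocks₂₂ - g'.toBlocks₂₁ * (g'.toBlocks₁₁)⁻¹ * g'.toBlocks₁₂
  have hF := p3.herm hlam hherm
  have hFu := p3.isUnit (p2.isUnit (p1.isUnit hu))
  have hEh : (-1 : A) • st lam E = E := by
    have := congrArg Matrix.toBlocks₂₂ hF
    rwa [Matrix.toBlocks_fromBlocks₂₂, st, Matrix.fromBlocks_map, Matrix.fromBlocks_transpose,
      Matrix.fromBlocks_smul, Matrix.toBlocks_fromBlocks₂₂] at this
  have hEu : IsUnit E := by
    rw [Matrix.isUnit_iff_isUnit_det] at hFu ⊢
    rw [Matrix.det_fromBlocks_zero₂₁] at hFu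
    exact isUnit_of_mul_isUnit_right hFu
  have hlt : Fintype.card {k : ι // k ≠ i ∧ k ≠ j} < n := by
    rw [← hc]; exact Fintype.card_subtype_lt (x := i) (fun hx => hx.1 rfl)
  obtain ⟨κ, _, _, a, b, hab, p4⟩ := ih _ hlt E rfl hEu hEh
  refine ⟨Unit ⊕ κ, inferInstance, inferInstance, Sum.elim (fun _ => g i i) a, Sum.elim (fun _ => g j j) b,
    fun x => by cases x <;> simp [hgJ, hab], ?_⟩
  refine p1.trans (p2.trans (p3.trans ((cong_fromBlocks_right lam _ p4).trans ?_)))
  let f : (Unit ⊕ κ) × Fin 2 ≃ Fin 2 ⊕ κ × Fin 2 :=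
    (Equiv.sumProdDistrib Unit κ (Fin 2)).trans (Equiv.sumCongr (Equiv.punitProd (Fin 2)) (Equiv.refl _))
  convert cong_submatrix lam _ f using 1
  ext ⟨⟨⟩ | x, y⟩ ⟨⟨⟩ | x', y'⟩ <;>
    simp [hD, f, Matrix.blockDiagonal_apply, Equiv.sumProdDistrib]

end AzInvLib
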