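import Groth.Agent.AzInvLib.Sign
import Mathlib.Data.Sym.Card
import Mathlib.LinearAlgebra.Matrix.Symmetric
import Mathlib.LinearAlgebra.FiniteDimensional.Basic

/-! The sign of an involution read off the symmetric elements at a ramified prime. -/

set_option autoImplicit false

namespace AzInvLib

universe u v w

open scoped TensorProduct
open IsLocalRing Matrix

section Dim

variable (k : Type*) [Field k] (ι : Type*) [Fintype ι] [DecidableEq ι]

/-- The symmetric matrices. -/
def symSub : Submodule k (Matrix ι ι k) where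
  carrier := {M | Mᵀ = M}
  add_mem' {a b} ha hb := by simp only [Set.mem_setOf_eq] at *; rw [transpose_add, ha, hb]
  zero_mem' := transpose_zero
  smul_mem' c a ha := by simp only [Set.mem_setOf_eq] at *; rw [transpose_smul, ha]

/-- The antisymmetric matrices. -/
def skewSub : Submodule k (Matrix ι ι k) where
  carrier := {M | Mᵀ = -M}
  add_mem' {a b} ha hb := by simp only [Set.mem_setOf_eq] at *; rw [transpose_add, ha, hb, neg_add]
  zero_mem' := by simp
  smul_mem' c a ha := by simp only [Set.mem_setOf_eq] at *; rw [transpose_smul, ha, smul_neg]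

theorem finrank_symSub : Module.finrank k (symSub k ι) = Nat.choose (Fintype.card ι + 1) 2 := by
  let e : (Sym2 ι → k) ≃ₗ[k] symSub k ι :=
    { toFun := fun f => ⟨Matrix.of fun i j => f s(i, j), by
        ext i j; exact congrArg f Sym2.eq_swap⟩
      invFun := fun M => Sym2.lift ⟨fun i j => M.1 i j, fun i j => congrFun (congrFun M.2 j) i⟩
      map_add' := fun f g => rfl
      map_smul' := fun c f => rfl
      left_inv := fun f => by
        ext z; induction z using Sym2.ind with | _ i j => rfl
      right_inv := fun M => rfl }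
  rw [← e.finrank_eq, Module.finrank_pi, Sym2.card]

theorem finrank_skewSub_ne [Nonempty ι] (h2 : (2 : k) ≠ 0) :
    Module.finrank k (skewSub k ι) ≠ Nat.choose (Fintype.card ι + 1) 2 := by
  let f : Matrix ι ι k →ₗ[k] Matrix ι ι k :=
    LinearMap.id + (Matrix.transposeLinearEquiv ι ι k k).toLinearMap
  have hker : LinearMap.ker f = skewSub k ι := by
    ext M
    show M + Mᵀ = 0 ↔ Mᵀ = -M
    exact ⟨fun h => eq_neg_of_add_eq_zero_right h, fun h => by rw [h, add_neg_cancel]⟩
  have hrange : LinearMap.range f = symSub k ι := by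
    refine le_antisymm ?_ fun M hM => ⟨(2 : k)⁻¹ • M, ?_⟩
    · rintro _ ⟨M, rfl⟩
      show (M + Mᵀ)ᵀ = M + Mᵀ
      rw [transpose_add, transpose_transpose, add_comm]
    · show (2 : k)⁻¹ • M + ((2 : k)⁻¹ • M)ᵀ = M
      rw [transpose_smul, show Mᵀ = M from hM, ← add_smul, ← two_mul, mul_inv_cancel₀ h2, one_smul]
  have h := LinearMap.finrank_range_add_finrank_ker f
  rw [hker, hrange, finrank_symSub, Module.finrank_matrix, Module.finrank_self, mul_one] at h
  intro he
  rw [he] at h
  have hc := Nat.choose_two_right (Fintype.card ι + 1)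
  have hd : 2 ∣ (Fintype.card ι + 1) * (Fintype.card ι + 1 - 1) := Nat.dvd_of_mod_eq_zero (by
    rw [Nat.add_sub_cancel, mul_comm, Nat.mul_mod]
    rcases Nat.mod_two_eq_zero_or_one (Fintype.card ι) with h' | h' <;> simp [h', Nat.add_mod])
  obtain ⟨d, hd⟩ := hd
  rw [hd, Nat.mul_div_cancel_left _ two_pos] at hc
  rw [Nat.add_sub_cancel] at hd
  have : 0 < Fintype.card ι := Fintype.card_pos
  nlinarith

end Dim

section Field

variable {K L : Type*} [Field K] [Field L] [Algebra K L] {V W : Type*} [AddCommGroup V] [Module K V]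
  [Module.Finite K V] [AddCommGroup W] [Module L W] [Module K W] [IsScalarTower K L W]

theorem finrank_span_image (f : V →ₗ[K] W) (hs : Submodule.span L (Set.range f) = ⊤)
    (hd : Module.finrank L W = Module.finrank K V) (U : Submodule K V) :
    Module.finrank L (Submodule.span L (f '' U)) = Module.finrank K U := by
  obtain ⟨U', hU'⟩ := U.exists_isCompl
  have hle : ∀ X : Submodule K V, Module.Finite L (Submodule.span L (f '' X)) ∧
      Module.finrank L (Submodule.span L (f '' X)) ≤ Module.finrank K X := fun X => by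
    let b := Module.finBasis K X
    have e : Submodule.span L (f '' X) = Submodule.span L (Set.range fun i => f (b i : V)) := by
      refine le_antisymm (Submodule.span_le.2 ?_) (Submodule.span_mono ?_)
      · rintro _ ⟨x, hx, rfl⟩
        have h := b.sum_repr ⟨x, hx⟩
        have h' : x = ∑ i, b.repr ⟨x, hx⟩ i • (b i : V) := by
          have h'' := congrArg Subtype.val h
          simp only [Submodule.coe_sum, Submodule.coe_smul] at h''
          exact h''.symm
        rw [h', map_sum]
        refine Submodule.sum_mem _ fun i _ => ?_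
        rw [map_smul, ← algebraMap_smul L]
        exact Submodule.smul_mem _ _ (Submodule.subset_span ⟨i, rfl⟩)
      · rintro _ ⟨i, rfl⟩
        exact ⟨_, (b i).2, rfl⟩
    rw [e]
    exact ⟨Module.Finite.span_of_finite L (Set.finite_range _),
      (finrank_range_le_card _).trans (by rw [Fintype.card_fin])⟩
  obtain ⟨hfU, hU⟩ := hle U
  obtain ⟨hfU', hU''⟩ := hle U'
  have htop : Submodule.span L (f '' U) ⊔ Submodule.span L (f '' U') = ⊤ := by
    rw [eq_top_iff, ← hs, Submodule.span_le]
    rintro _ ⟨x, rfl⟩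
    obtain ⟨y, hy, z, hz, rfl⟩ := Submodule.mem_sup.1 (hU'.sup_eq_top.ge (Submodule.mem_top (x := x)))
    rw [map_add]
    exact Submodule.add_mem_sup (Submodule.subset_span ⟨y, hy, rfl⟩) (Submodule.subset_span ⟨z, hz, rfl⟩)
  haveI := hfU; haveI := hfU'
  have h1 := Submodule.finrank_add_le_finrank_add_finrank (Submodule.span L (f '' U)) (Submodule.span L (f '' U'))
  rw [htop, finrank_top, hd, ← Submodule.finrank_add_eq_of_isCompl hU'] at h1
  omega

end Field

end AzInvLib

namespace AzInvLib

universe u v w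

open scoped TensorProduct
open IsLocalRing Matrix

variable {S : Type u} {R : Type v} [CommRing S] [CommRing R] [Algebra S R] {lam : R ≃ₐ[S] R}
  {A : Type w} [Ring A] [Algebra S A] [Algebra R A] [IsScalarTower S R A]

theorem finrank_sym {n : ℕ} (hA : AzInv.IsAzumayaDeg R A n) (t : AzInv.LamInv R A lam)
    (hlam : ∀ r, lam (lam r) = r) (hfix : RInv.IsFixedRing S R lam.toRingEquiv)
    (q : Ideal R) [q.IsPrime] (hq : ∀ r : R, lam r - r ∈ q)
    {T : Type u} [CommRing T] [Algebra S T] [IsLocalRing T] [Module.Flat S T]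
    (hp : (maximalIdeal T).comap (algebraMap S T) = q.comap (algebraMap S R))
    [IsLocalRing (T ⊗[S] R)] (h2 : IsUnit (2 : T)) {ι : Type} [Fintype ι] [DecidableEq ι]
    (hι : Fintype.card ι = n) (Φ : T ⊗[S] A ≃ₐ[T] Matrix ι ι (T ⊗[S] R))
    (hΦ : ∀ r : R, Φ ((1 : T) ⊗ₜ algebraMap R A r) = algebraMap _ _ ((1 : T) ⊗ₜ[S] r))
    (F : Matrix ι ι (ResidueField (T ⊗[S] R)) →ₗ[ResidueField (T ⊗[S] R)] Matrix ι ι (ResidueField (T ⊗[S] R)))
    (hF : ∀ z, (Φ ((t.linS S lam).lTensor T z)).map (residue (T ⊗[S] R)) = F ((Φ z).map (residue (T ⊗[S] R)))) :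
    Module.finrank q.ResidueField (Submodule.span q.ResidueField
      (Set.range fun a : {a : A // t a = a} => (1 : q.ResidueField) ⊗ₜ[R] (a : A))) =
    Module.finrank (ResidueField (T ⊗[S] R)) (LinearMap.ker (F - LinearMap.id)) := by
  haveI := (projective_finite hA).1
  haveI := (projective_finite hA).2
  set L := ResidueField (T ⊗[S] R)
  let ρ : R →+* L := (residue (T ⊗[S] R)).comp (Algebra.TensorProduct.includeRight : R →ₐ[S] T ⊗[S] R).toRingHom
  have hfT := isFixedRing_bc T hlam hfix (Or.inl inferInstance)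
  have hρ : RingHom.ker ρ = q := by
    haveI : (RingHom.ker ρ).IsPrime := RingHom.ker_isPrime ρ
    have hc : (RingHom.ker ρ).comap (algebraMap S R) = q.comap (algebraMap S R) := by
      rw [← hp]
      ext s
      rw [Ideal.mem_comap, Ideal.mem_comap, RingHom.mem_ker]
      show residue (T ⊗[S] R) ((1 : T) ⊗ₜ[S] algebraMap S R s) = 0 ↔ _
      rw [residue_eq_zero_iff, show (1 : T) ⊗ₜ[S] algebraMap S R s = algebraMap T (T ⊗[S] R) (algebraMap S T s) by
        rw [Algebra.TensorProduct.algebraMap_apply, Algebra.algebraMap_self_apply,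
          Algebra.algebraMap_eq_smul_one, Algebra.algebraMap_eq_smul_one, TensorProduct.smul_tmul],
        ← comap_maximal (bcLam_invol T hlam) hfT (maximalIdeal (T ⊗[S] R)), Ideal.mem_comap]
    rcases comap_eq_or (lam := lam.toRingEquiv) hlam hfix q (RingHom.ker ρ) hc with h | h
    · exact h
    · rw [h]
      ext x
      rw [Ideal.mem_comap]
      exact ⟨fun hx => by simpa using sub_mem hx (hq x), fun hx => by simpa using add_mem (hq x) hx⟩
  letI : Algebra R L := ρ.toAlgebra
  letI : Algebra q.ResidueField L := (Ideal.ResidueField.lift q ρ hρ.ge (fun x hx => by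
    show IsUnit (ρ x)
    exact isUnit_iff_ne_zero.2 fun h0 => hx (hρ.le h0))).toAlgebra
  haveI : IsScalarTower R q.ResidueField L := IsScalarTower.of_algebraMap_eq fun r =>
    (Ideal.ResidueField.lift_algebraMap q ρ hρ.ge (fun x hx => by
      show IsUnit (ρ x)
      exact isUnit_iff_ne_zero.2 fun h0 => hx (hρ.le h0)) r).symm
  let π : Matrix ι ι (T ⊗[S] R) →+* Matrix ι ι L := (residue (T ⊗[S] R)).mapMatrix
  let φ : A →ₗ[R] Matrix ι ι L :=
    { toFun := fun a => π (Φ ((1 : T) ⊗ₜ[S] a))
      map_add' := fun a b => by rw [TensorProduct.tmul_add, map_add, map_add]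
      map_smul' := fun r a => by
        rw [RingHom.id_apply, Algebra.smul_def, ← one_mul (1 : T), ← Algebra.TensorProduct.tmul_mul_tmul,
          map_mul Φ, hΦ, one_mul, ← Algebra.smul_def]
        ext i j
        simp [π, Algebra.smul_def, Matrix.algebraMap_eq_diagonal, Matrix.diagonal_mul]
        exact Or.inl rfl }
  have hπs : ∀ (s : T) (a : A), π (Φ (s ⊗ₜ[S] a)) =
      residue (T ⊗[S] R) (algebraMap T (T ⊗[S] R) s) • φ a := fun s a => by
    rw [show (s ⊗ₜ[S] a : T ⊗[S] A) = s • ((1 : T) ⊗ₜ[S] a) by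
      rw [TensorProduct.smul_tmul', smul_eq_mul, mul_one], map_smul]
    ext i j
    simp [π, φ, Algebra.smul_def, Matrix.algebraMap_eq_diagonal, Matrix.diagonal_mul]
  let ψ : q.ResidueField ⊗[R] A →ₗ[q.ResidueField] Matrix ι ι L := φ.liftBaseChange q.ResidueField
  have hψ : ∀ a : A, ψ ((1 : q.ResidueField) ⊗ₜ[R] a) = φ a := fun a => by simp [ψ]
  have hspan : Submodule.span L (Set.range ψ) = ⊤ := eq_top_iff.2 fun M _ => by
    obtain ⟨N, rfl⟩ : ∃ N, π N = M :=
      ⟨M.map (Function.surjInv residue_surjective), by ext i j; exact Function.surjInv_eq residue_surjective _⟩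
    obtain ⟨z, rfl⟩ := Φ.surjective N
    induction z with
    | zero => simp
    | add a b ha hb => rw [map_add, map_add]; exact add_mem (ha trivial) (hb trivial)
    | tmul s a =>
      rw [hπs, ← hψ a]
      exact Submodule.smul_mem _ _ (Submodule.subset_span ⟨_, rfl⟩)
  have hd : Module.finrank L (Matrix ι ι L) = Module.finrank q.ResidueField (q.ResidueField ⊗[R] A) := by
    rw [Module.finrank_matrix, Module.finrank_self, mul_one, hι,
      ← show Module.rankAtStalk (R := R) A ⟨q, inferInstance⟩ = Module.finrank q.ResidueField (q.ResidueField ⊗[R] A) from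
        Module.rankAtStalk_eq _, hA.2]
    ring
  rw [← finrank_span_image ψ hspan hd]
  have h2L : IsUnit (2 : L) := by
    have := (h2.map (algebraMap T (T ⊗[S] R))).map (residue (T ⊗[S] R))
    rwa [map_ofNat, map_ofNat] at this
  have hsum : ∀ z : T ⊗[S] A, π (Φ (z + (t.linS S lam).lTensor T z)) ∈ Submodule.span L (ψ ''
      (Submodule.span q.ResidueField (Set.range fun a : {a : A // t a = a} => (1 : q.ResidueField) ⊗ₜ[R] (a : A)) :
        Set (q.ResidueField ⊗[R] A))) := fun z => by
    induction z with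
    | zero => simp
    | add a b ha hb =>
      rw [map_add ((t.linS S lam).lTensor T), show ∀ c d : T ⊗[S] A, a + b + (c + d) = a + c + (b + d) from
        fun c d => by abel, map_add, map_add]
      exact add_mem ha hb
    | tmul s a =>
      rw [LinearMap.lTensor_tmul, ← TensorProduct.tmul_add, hπs, AzInv.LamInv.linS_apply, ← hψ]
      refine Submodule.smul_mem _ _ (Submodule.subset_span ⟨_, Submodule.subset_span ⟨⟨a + t a, ?_⟩, rfl⟩, rfl⟩)
      rw [t.map_add, t.invol, add_comm]
  have hle : Submodule.span L (ψ '' (Submodule.span q.ResidueField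
      (Set.range fun a : {a : A // t a = a} => (1 : q.ResidueField) ⊗ₜ[R] (a : A)) :
        Set (q.ResidueField ⊗[R] A))) = LinearMap.ker (F - LinearMap.id) := by
    refine le_antisymm (Submodule.span_le.2 ?_) fun M hM => ?_
    · rintro _ ⟨x, hx, rfl⟩
      induction hx using Submodule.span_induction with
      | mem x hx =>
        obtain ⟨⟨a, ha⟩, rfl⟩ := hx
        rw [SetLike.mem_coe, LinearMap.mem_ker, LinearMap.sub_apply, LinearMap.id_apply, hψ, sub_eq_zero]
        show F ((Φ ((1 : T) ⊗ₜ[S] a)).map (residue (T ⊗[S] R))) = _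
        rw [← hF, LinearMap.lTensor_tmul, AzInv.LamInv.linS_apply, ha]
        rfl
      | zero => simp
      | add x y _ _ hx hy => rw [map_add]; exact add_mem hx hy
      | smul c x _ hx =>
        rw [map_smul, ← algebraMap_smul L]
        exact Submodule.smul_mem _ _ hx
    · have hM' : F M = M := sub_eq_zero.1 hM
      obtain ⟨N, rfl⟩ : ∃ N, π N = M :=
        ⟨M.map (Function.surjInv residue_surjective), by ext i j; exact Function.surjInv_eq residue_surjective _⟩
      obtain ⟨z, rfl⟩ := Φ.surjective N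
      have h := hsum z
      rw [map_add, map_add, show π (Φ ((t.linS S lam).lTensor T z)) = F (π (Φ z)) from hF z, hM',
        ← two_smul L (π (Φ z))] at h
      obtain ⟨c, hc⟩ := h2L.exists_left_inv
      have h' := Submodule.smul_mem _ c h
      rwa [smul_smul, hc, one_smul] at h'
  rw [hle]

/-- The dimension of the symmetric elements decides the model. -/
theorem sign_at_prime {n : ℕ} (hn : 0 < n) (hA : AzInv.IsAzumayaDeg R A n) (t : AzInv.LamInv R A lam)
    (hlam : ∀ r, lam (lam r) = r) (hfix : RInv.IsFixedRing S R lam.toRingEquiv) (h2S : IsUnit (2 : S))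
    (q : PrimeSpectrum R) (hq : ∀ r : R, lam r - r ∈ q.asIdeal)
    {T : Type u} [CommRing T] [Algebra S T] (hT : IsPoint S T)
    (hp : hT.prime = PrimeSpectrum.comap (algebraMap S R) q) :
    (IsoOver R T (t.linS S lam) ((AzInv.LamInv.transpose lam (Fin n) hlam).linS S lam) →
      Module.finrank q.asIdeal.ResidueField (Submodule.span q.asIdeal.ResidueField
        (Set.range fun a : {a : A // t a = a} => (1 : q.asIdeal.ResidueField) ⊗ₜ[R] (a : A))) = Nat.choose (n + 1) 2) ∧
    (∀ m : ℕ, n = m * 2 → IsoOver R T (t.linS S lam) ((negInv lam hlam (Fin m)).linS S lam) →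
      Module.finrank q.asIdeal.ResidueField (Submodule.span q.asIdeal.ResidueField
        (Set.range fun a : {a : A // t a = a} => (1 : q.asIdeal.ResidueField) ⊗ₜ[R] (a : A))) ≠ Nat.choose (n + 1) 2) := by
  haveI := hT.hens; haveI := hT.flat
  have h2 : IsUnit (2 : T) := by simpa [map_ofNat] using h2S.map (algebraMap S T)
  have hpI : (maximalIdeal T).comap (algebraMap S T) = q.asIdeal.comap (algebraMap S R) :=
    congrArg PrimeSpectrum.asIdeal hp
  have hcr := (forall_diff_mem_iff (q.asIdeal.comap (algebraMap S R)) hlam hfix q.asIdeal rfl).1 hq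
  have hno := not_unit_diff_at hlam hfix hT (fun r c hc => hpI.ge (hcr r c hc))
  have hfT := isFixedRing_bc T hlam hfix (Or.inl inferInstance)
  obtain ⟨hloc, -⟩ := (exists_unit_or_local (lam := (bcLam lam T).toRingEquiv) (bcLam_invol T hlam) hfT).resolve_left
    fun ⟨a, ha⟩ => hno a ha
  haveI := hloc
  set L := ResidueField (T ⊗[S] R)
  have hres : ∀ {ι : Type} (X : Matrix ι ι (T ⊗[S] R)),
      (st (bcLam lam T).toRingEquiv X).map (residue (T ⊗[S] R)) = (X.map (residue (T ⊗[S] R)))ᵀ := fun X => by
    ext a b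
    simp only [Matrix.map_apply, st_apply, Matrix.transpose_apply]
    refine (sub_eq_zero.1 ?_).symm
    rw [← map_sub, residue_eq_zero_iff, mem_maximalIdeal, mem_nonunits_iff]
    exact hno _
  have hscal : ∀ {ι : Type} [Fintype ι] [DecidableEq ι] (σm : Matrix ι ι R →ₗ[S] Matrix ι ι R)
      (i : Iso T (t.linS S lam) σm R) (r : R),
      (i.toEquiv.trans (AlgEquiv.ofBijective _ (theta_bijective (S := S) T R ι))) ((1 : T) ⊗ₜ algebraMap R A r) =
        algebraMap _ _ ((1 : T) ⊗ₜ[S] r) := fun σm i r => by
    rw [AlgEquiv.trans_apply, i.toEquiv_apply, ext_one_tmul, i.scal]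
    exact theta_scalar r
  constructor
  · rintro ⟨i⟩
    rw [finrank_sym hA t hlam hfix q.asIdeal hq hpI h2 (Fintype.card_fin n) _ (hscal _ i)
      (Matrix.transposeLinearEquiv (Fin n) (Fin n) L L).toLinearMap fun z => by
        simp only [AlgEquiv.trans_apply, AlgEquiv.coe_ofBijective, i.toEquiv_apply, i.ext_inter]
        rw [theta_st (lam := lam) _ _ fun M => rfl, hres]
        rfl]
    rw [show LinearMap.ker ((Matrix.transposeLinearEquiv (Fin n) (Fin n) L L).toLinearMap - LinearMap.id) =
        symSub L (Fin n) by ext M; exact sub_eq_zero, finrank_symSub, Fintype.card_fin]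
  · rintro m rfl ⟨i⟩
    let J := Jm L (Fin m)
    rw [finrank_sym hA t hlam hfix q.asIdeal hq hpI h2 (by simp) _ (hscal _ i)
      ((LinearMap.mulRight L (-J)).comp ((LinearMap.mulLeft L J).comp
        (Matrix.transposeLinearEquiv (Fin m × Fin 2) (Fin m × Fin 2) L L).toLinearMap)) fun z => by
        simp only [AlgEquiv.trans_apply, AlgEquiv.coe_ofBijective, i.toEquiv_apply, i.ext_inter]
        rw [theta_neg hlam, Matrix.map_mul, Matrix.map_mul, hres, Jm_map, Matrix.map_neg _ (map_neg _), Jm_map]
        rfl]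
    have hJJ : J * J = -1 := Jm_mul_self
    have hJT : Jᵀ = -J := by
      have h := Jm_st (A := L) (κ := Fin m) (RingEquiv.refl L)
      exact h
    let e : Matrix (Fin m × Fin 2) (Fin m × Fin 2) L ≃ₗ[L] Matrix (Fin m × Fin 2) (Fin m × Fin 2) L :=
      LinearEquiv.ofLinear (LinearMap.mulRight L J) (LinearMap.mulRight L (-J))
        (LinearMap.ext fun x => by simp [mul_assoc, hJJ]; exact neg_neg x)
        (LinearMap.ext fun x => by simp [mul_assoc, hJJ]; exact neg_neg x)
    rw [← LinearEquiv.finrank_map_eq e]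
    have hmap : (LinearMap.ker ((LinearMap.mulRight L (-J)).comp ((LinearMap.mulLeft L J).comp
        (Matrix.transposeLinearEquiv (Fin m × Fin 2) (Fin m × Fin 2) L L).toLinearMap) - LinearMap.id)).map e.toLinearMap =
        skewSub L (Fin m × Fin 2) := by
      ext y
      rw [Submodule.mem_map]
      constructor
      · rintro ⟨x, hx, rfl⟩
        have hx' : J * xᵀ * -J = x := sub_eq_zero.1 hx
        show (x * J)ᵀ = -(x * J)
        calc (x * J)ᵀ = -(J * xᵀ) := by rw [transpose_mul, hJT, Matrix.neg_mul]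
          _ = -(J * xᵀ * -J * J) := by simp [Matrix.mul_assoc, hJJ]; exact (neg_neg (-(J * xᵀ))).symm
          _ = -(x * J) := by rw [hx']
      · intro hy
        refine ⟨y * -J, ?_, by show y * -J * J = y; simp [Matrix.mul_assoc, hJJ]; exact neg_neg y⟩
        refine sub_eq_zero.2 ?_
        show J * (y * -J)ᵀ * -J = y * -J
        have hnn : - -J = J := neg_neg J
        rw [transpose_mul, transpose_neg, hJT, hnn, show yᵀ = -y from hy, Matrix.mul_neg J y, Matrix.mul_neg J (J * y),
          ← Matrix.mul_assoc, hJJ]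
        simp
        exact congrArg Neg.neg (neg_neg (y * J))
    rw [hmap]
    haveI : Nonempty (Fin m × Fin 2) := ⟨⟨⟨0, by omega⟩, 0⟩⟩
    have h := finrank_skewSub_ne L (Fin m × Fin 2) (by
      have := ((h2.map (algebraMap T (T ⊗[S] R))).map (residue (T ⊗[S] R))).ne_zero
      rwa [map_ofNat, map_ofNat] at this)
    simpa using h

end AzInvLib
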