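import Groth.Agent.AzumayaLib.Fibres
import Groth.Agent.AzumayaLib.Etale
import Groth.Agent.AzumayaLib.Split
import Groth.Agent.HenselLib.Local
import Groth.Agent.HenselLib.Criteria
import Mathlib.FieldTheory.IsSepClosed
import Mathlib.RingTheory.Etale.Field

/-! Azumaya algebras over strictly henselian local rings; intertwiners over semilocal rings. -/

namespace AzInvLib

universe u v

open scoped TensorProduct
open IsLocalRing

variable {R : Type u} [CommRing R] {A : Type v} [Ring A] [Algebra R A]

theorem exists_point [HenselianLocalRing R] [IsSepClosed (ResidueField R)]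
    (E : Type u) [CommRing E] [Algebra R E] [Algebra.Etale R E] [Nontrivial (ResidueField R ⊗[R] E)] :
    ∃ π : E →ₐ[R] R, True := by
  haveI : Algebra.Etale (ResidueField R) (ResidueField R ⊗[R] E) := inferInstance
  obtain ⟨M, hM⟩ := Ideal.exists_maximal (ResidueField R ⊗[R] E)
  letI : Field ((ResidueField R ⊗[R] E) ⧸ M) := Ideal.Quotient.field M
  haveI : Module.Finite (ResidueField R) (ResidueField R ⊗[R] E) :=
    Algebra.FormallyUnramified.finite_of_free (ResidueField R) (ResidueField R ⊗[R] E)
  haveI : Algebra.FormallyUnramified (ResidueField R) ((ResidueField R ⊗[R] E) ⧸ M) :=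
    Algebra.FormallyUnramified.of_surjective (Ideal.Quotient.mkₐ (ResidueField R) M)
      Ideal.Quotient.mk_surjective
  haveI : Algebra.IsSeparable (ResidueField R) ((ResidueField R ⊗[R] E) ⧸ M) :=
    Algebra.FormallyUnramified.isSeparable _ _
  let e := AlgEquiv.ofBijective (Algebra.ofId (ResidueField R) ((ResidueField R ⊗[R] E) ⧸ M))
    (IsSepClosed.algebraMap_bijective (ResidueField R) _)
  let σ : E →ₐ[R] R ⧸ maximalIdeal R :=
    ((e.symm : _ →ₐ[ResidueField R] ResidueField R).restrictScalars R).comp
      (((Ideal.Quotient.mkₐ (ResidueField R) M).restrictScalars R).comp Algebra.TensorProduct.includeRight)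
  obtain ⟨τ, -⟩ := HenselLib.etaleLifts_of_henselianRing (I := maximalIdeal R) E σ
  exact ⟨τ, trivial⟩

/-- Azumaya algebras over strictly henselian local rings are split. -/
theorem exists_matrix_equiv [HenselianLocalRing R] [IsSepClosed (ResidueField R)] [IsAzumaya R A]
    {n : ℕ} (hA : Module.finrank R A = n ^ 2) :
    Nonempty (A ≃ₐ[R] Matrix (Fin n) (Fin n) R) := by
  haveI : Nontrivial A := (FaithfulSMul.algebraMap_injective R A).nontrivial
  obtain ⟨E, _, _, hEt, hEf, hEfree, hEr, u, hu⟩ := AzumayaLib.Et.exists_maximal_etale (A := A) hA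
  haveI := hEt; haveI := hEf; haveI := hEfree
  letI : Module E A :=
    { smul := fun e b => b * u e
      one_smul := fun b => by show b * u 1 = b; rw [map_one, mul_one]
      mul_smul := fun e e' b => by show b * u (e * e') = b * u e' * u e; rw [mul_comm e, map_mul, mul_assoc]
      smul_zero := fun e => zero_mul _
      smul_add := fun e b b' => add_mul _ _ _
      add_smul := fun e e' b => by show b * u (e + e') = _; rw [map_add, mul_add]; rfl
      zero_smul := fun b => by show b * u 0 = 0; rw [map_zero, mul_zero] }
  obtain ⟨hfree, hrk, ⟨Φ⟩⟩ := AzumayaLib.Spl.free_and_split hA hEr u hu (fun e b => rfl)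
  haveI := hfree
  have hn : 0 < n := by
    rcases Nat.eq_zero_or_pos n with rfl | h
    · haveI := AzumayaLib.Et.free_of_azumaya (R := R) (A := A)
      have := (Module.finrank_pos_iff_of_free R A).2 inferInstance
      omega
    · exact h
  haveI : Nontrivial (ResidueField R ⊗[R] E) := by
    refine Module.nontrivial_of_finrank_pos (R := ResidueField R) ?_
    rw [Module.finrank_baseChange, hEr]; exact hn
  obtain ⟨π, -⟩ := exists_point (R := R) E
  haveI : IsScalarTower R E A := AzumayaLib.Spl.isScalarTower_of_hmod u fun e b => rfl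
  haveI : Module.Finite E A := Module.Finite.of_restrictScalars_finite R E A
  haveI : Nontrivial E := (π : E →+* R).domain_nontrivial
  let b := Module.finBasisOfFinrankEq E A hrk
  let Ψ : E ⊗[R] A ≃ₐ[E] Matrix (Fin n) (Fin n) E := Φ.trans (algEquivMatrix b)
  let f : A →ₐ[R] Matrix (Fin n) (Fin n) R :=
    (π.mapMatrix).comp ((Ψ.toAlgHom.restrictScalars R).comp Algebra.TensorProduct.includeRight)
  have hsurj : Function.Surjective f := by
    intro M
    let P : Matrix (Fin n) (Fin n) E := M.map (algebraMap R E)
    have hP : π.mapMatrix P = M := by ext i j; simp [P]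
    have hmem : ∀ z : E ⊗[R] A, π.mapMatrix (Ψ z) ∈ LinearMap.range f.toLinearMap := by
      intro z
      induction z with
      | zero => simp
      | add a b ha hb => rw [map_add, map_add]; exact add_mem ha hb
      | tmul e a =>
        refine ⟨π e • a, ?_⟩
        show f (π e • a) = _
        have h1 : Ψ (e ⊗ₜ[R] a) = e • Ψ ((1 : E) ⊗ₜ[R] a) := by
          rw [← map_smul, TensorProduct.smul_tmul', smul_eq_mul, mul_one]
        rw [map_smul, h1]
        ext i j
        simp [f, Matrix.smul_apply]
    obtain ⟨a, ha⟩ := hmem (Ψ.symm P)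
    exact ⟨a, by rw [← hP, ← Ψ.apply_symm_apply P]; exact ha⟩
  haveI := AzumayaLib.Et.free_of_azumaya (R := R) (A := A)
  refine ⟨AlgEquiv.ofBijective f ⟨?_, hsurj⟩⟩
  have hrk' : Module.finrank R A = Module.finrank R (Matrix (Fin n) (Fin n) R) := by
    rw [hA, Module.finrank_matrix, Module.finrank_self, Fintype.card_fin]; ring
  let e := LinearEquiv.ofFinrankEq A (Matrix (Fin n) (Fin n) R) hrk'
  have : Function.Injective (e.symm.toLinearMap.comp f.toLinearMap) :=
    OrzechProperty.injective_of_surjective_endomorphism _ (e.symm.surjective.comp hsurj)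
  exact (Function.Injective.of_comp_iff e.symm.injective _).1 this

/-- Automorphisms are inner over a ring with finitely many maximal ideals. -/
theorem inner_of_finite_maximal [IsAzumaya R A] [Finite (MaximalSpectrum R)] (φ : A ≃ₐ[R] A) :
    ∃ a : Aˣ, ∀ x : A, φ x = (a : A) * x * (a⁻¹ : Aˣ) := by
  classical
  cases nonempty_fintype (MaximalSpectrum R)
  choose x hx hxu using fun M : MaximalSpectrum R =>
    AzumayaLib.exists_unit_intertwiner φ M.asIdeal
  have hcop : Pairwise fun p q : MaximalSpectrum R => IsCoprime p.asIdeal q.asIdeal := fun p q h =>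
    Ideal.isCoprime_of_isMaximal fun h' => h (MaximalSpectrum.ext h')
  choose e he using fun M : MaximalSpectrum R =>
    Ideal.quotientInfToPiQuotient_surj hcop (Pi.single M 1)
  choose e' he' using fun M => Ideal.Quotient.mk_surjective (e M)
  let y := ∑ M, e' M • x M
  have hy : ∀ c, φ c * y = y * c := fun c => by
    simp [y, Finset.mul_sum, Finset.sum_mul, hx _ c]
  have hyM : ∀ N : MaximalSpectrum R, (1 : N.asIdeal.ResidueField) ⊗ₜ[R] y =
      (1 : N.asIdeal.ResidueField) ⊗ₜ[R] x N := by
    intro N
    rw [TensorProduct.tmul_sum, Finset.sum_eq_single N]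
    · have h := congrFun (he N) N
      rw [← he' N, Ideal.quotientInfToPiQuotient_mk', Pi.single_eq_same] at h
      rw [← TensorProduct.smul_tmul, Algebra.smul_def, mul_one]
      congr 1
      rw [← sub_eq_zero, ← map_one (algebraMap R N.asIdeal.ResidueField), ← map_sub,
        Ideal.algebraMap_residueField_eq_zero, ← Ideal.Quotient.eq_zero_iff_mem, map_sub, map_one, h,
        sub_self]
    · intro M _ hMN
      have h := congrFun (he M) N
      rw [← he' M, Ideal.quotientInfToPiQuotient_mk', Pi.single_eq_of_ne (Ne.symm hMN)] at h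
      rw [← TensorProduct.smul_tmul, Algebra.smul_def, mul_one,
        Ideal.algebraMap_residueField_eq_zero.2 (Ideal.Quotient.eq_zero_iff_mem.1 h),
        TensorProduct.zero_tmul]
    · simp
  haveI : Module.Finite R A := inferInstance
  choose f hf hfu using fun M : MaximalSpectrum R =>
    AzumayaLib.exists_isUnit_away.{u, v, u} M.asIdeal
      (show IsUnit ((1 : M.asIdeal.ResidueField) ⊗ₜ[R] y) by rw [hyM]; exact hxu M)
  let Lm : A →ₗ[R] A := LinearMap.mulLeft R y
  have hspan : Ideal.span (Set.range f) = ⊤ := by
    by_contra h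
    obtain ⟨m, hm, hle⟩ := Ideal.exists_le_maximal _ h
    exact hf ⟨m, hm⟩ (hle (Ideal.subset_span ⟨⟨m, hm⟩, rfl⟩))
  have hu : IsUnit y := by
    have hb : ∀ (g : A → A) (hg : g = (fun a => y * a) ∨ g = fun a => a * y), ∃ a, g a = 1 := by
      intro g hg
      let L : A →ₗ[R] A := if g = (fun a => y * a) then LinearMap.mulLeft R y else LinearMap.mulRight R y
      have hL : ∀ a, L a = g a := fun a => by
        simp only [L]
        split_ifs with hc
        · simp [hc]
        · simp [(hg.resolve_left hc)]
      suffices h1 : (1 : A) ∈ LinearMap.range L by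
        obtain ⟨a, ha⟩ := h1; exact ⟨a, (hL a).symm.trans ha⟩
      refine Submodule.mem_of_span_eq_top_of_smul_pow_mem _ (Set.range f) hspan _ ?_
      rintro ⟨_, M, rfl⟩
      haveI : Module.Finite (Localization.Away (f M)) (Localization.Away (f M) ⊗[R] A) := inferInstance
      have hunit := hfu M (Localization.Away (f M)) (IsLocalization.Away.algebraMap_isUnit (f M))
      obtain ⟨w, hw⟩ : ∃ w : Localization.Away (f M) ⊗[R] A,
          L.lTensor (Localization.Away (f M)) w = 1 := by
        rcases hg with rfl | rfl
        · obtain ⟨w, hw⟩ := hunit.exists_right_inv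
          refine ⟨w, ?_⟩
          rw [← hw]
          clear hw
          induction w with
          | zero => simp
          | add a b ha hb => rw [map_add, mul_add, ha, hb]
          | tmul s a => simp [hL]
        · obtain ⟨w, hw⟩ := hunit.exists_left_inv
          refine ⟨w, ?_⟩
          rw [← hw]
          clear hw
          induction w with
          | zero => simp
          | add a b ha hb => rw [map_add, add_mul, ha, hb]
          | tmul s a => simp [hL]
      haveI hloc : IsLocalizedModule (Submonoid.powers (f M))
          (TensorProduct.mk R (Localization.Away (f M)) A 1) :=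
        (isLocalizedModule_iff_isBaseChange (Submonoid.powers (f M)) (Localization.Away (f M)) _).2
          (TensorProduct.isBaseChange R A _)
      obtain ⟨⟨a, s⟩, has⟩ := IsLocalizedModule.surj (Submonoid.powers (f M))
        (TensorProduct.mk R (Localization.Away (f M)) A 1) w
      have h2 : TensorProduct.mk R (Localization.Away (f M)) A 1 (L a) =
          TensorProduct.mk R (Localization.Away (f M)) A 1 ((s : R) • (1 : A)) := by
        have e1 := congrArg (L.lTensor (Localization.Away (f M))) has
        rw [Submonoid.smul_def, map_smul, hw] at e1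
        rw [map_smul]
        exact e1.symm
      obtain ⟨t, ht⟩ := IsLocalizedModule.exists_of_eq (S := Submonoid.powers (f M)) h2
      obtain ⟨⟨_, k, rfl⟩, ⟨_, l, rfl⟩⟩ := s, t
      refine ⟨l + k, (f M ^ l) • a, ?_⟩
      rw [map_smul]
      simp only [Submonoid.smul_def] at ht
      rw [ht, smul_smul, pow_add]
    obtain ⟨r, hr⟩ := hb (fun a => y * a) (Or.inl rfl)
    obtain ⟨l, hl⟩ := hb (fun a => a * y) (Or.inr rfl)
    exact isUnit_iff_exists_and_exists.2 ⟨⟨r, hr⟩, ⟨l, hl⟩⟩
  refine ⟨hu.unit, fun c => ?_⟩
  rw [Units.eq_mul_inv_iff_mul_eq, IsUnit.unit_spec]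
  exact hy c

end AzInvLib
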