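import Groth.Agent.AzInvLib.Herm
import Groth.Agent.AzInvLib.Split
import Groth.Prelude.Def_AzInv

/-! Normal forms of involutions of matrix algebras over a strictly henselian fixed ring. -/

namespace AzInvLib

universe u v

open Matrix

/-- The standard alternating block `(0,-1;1,0)`. -/
def J0 (A : Type v) [CommRing A] : Matrix (Fin 2) (Fin 2) A := Matrix.of ![![0, -1], ![1, 0]]

/-- The standard alternating matrix. -/
def Jm (A : Type v) [CommRing A] (κ : Type*) [DecidableEq κ] : Matrix (κ × Fin 2) (κ × Fin 2) A :=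
  (Matrix.blockDiagonal fun _ : κ => J0 A).submatrix Prod.swap Prod.swap

section Jm

variable {A : Type v} [CommRing A] {κ : Type*} [DecidableEq κ]

theorem Jm_map {B : Type*} [CommRing B] (f : A →+* B) : (Jm A κ).map f = Jm B κ := by
  ext ⟨x, i⟩ ⟨y, j⟩
  fin_cases i <;> fin_cases j <;> simp [Jm, J0, Matrix.blockDiagonal_apply, apply_ite f]

theorem Jm_mul_self [Fintype κ] : Jm A κ * Jm A κ = -1 := by
  have h : J0 A * J0 A = -1 := by
    ext i j; fin_cases i <;> fin_cases j <;> simp [J0, Matrix.mul_apply, Fin.sum_univ_two]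
  rw [Jm, Matrix.submatrix_mul _ _ _ Prod.swap _ Prod.swap_bijective |>.symm,
    ← Matrix.blockDiagonal_mul]
  simp only [h]
  ext ⟨x, i⟩ ⟨y, j⟩
  simp only [Matrix.submatrix_apply, Matrix.blockDiagonal_apply, Prod.swap_prod_mk, Matrix.neg_apply,
    Matrix.one_apply, Prod.mk.injEq]
  by_cases hxy : x = y <;> by_cases hij : i = j <;> simp [hxy, hij]

theorem Jm_st (lam : A ≃+* A) : st lam (Jm A κ) = -Jm A κ := by
  ext ⟨x, i⟩ ⟨y, j⟩
  by_cases hxy : x = y
  · subst hxy
    fin_cases i <;> fin_cases j <;> simp [Jm, J0, st_apply, Matrix.blockDiagonal_apply]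
  · simp [Jm, st_apply, Matrix.blockDiagonal_apply, hxy, Ne.symm hxy]

end Jm

variable {A : Type v} [CommRing A] {lam : A ≃+* A}
variable {ι κ : Type*} [Fintype ι] [DecidableEq ι] [Fintype κ] [DecidableEq κ]

/-- A congruence turns into an isomorphism of algebras with involution. -/
theorem exists_algEquiv_of_cong (hlam : Function.Involutive lam) {W : Matrix ι ι A} {K : Matrix κ κ A}
    (p : Cong lam W K) (t : Matrix ι ι A → Matrix ι ι A) (ht : ∀ x, t x * W = W * st lam x) :
    ∃ g : Matrix ι ι A ≃ₐ[A] Matrix κ κ A, ∀ x, g (t x) * K = K * st lam (g x) := by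
  obtain ⟨v, w, hvw, hwv, rfl⟩ := p
  have h1 : st lam v * st lam w = 1 := by rw [← st_mul, hwv, st_one]
  have h2 : st lam w * st lam v = 1 := by rw [← st_mul, hvw, st_one]
  let g : Matrix ι ι A ≃ₐ[A] Matrix κ κ A := AlgEquiv.ofLinearEquiv
    { toFun := fun x => st lam v * x * st lam w
      invFun := fun y => st lam w * y * st lam v
      map_add' := fun x y => by simp [Matrix.mul_add, Matrix.add_mul]
      map_smul' := fun c x => by simp
      left_inv := fun x => by
        show st lam w * (st lam v * x * st lam w) * st lam v = x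
        rw [← Matrix.mul_assoc, ← Matrix.mul_assoc, h2, Matrix.one_mul, Matrix.mul_assoc, h2,
          Matrix.mul_one]
      right_inv := fun y => by
        show st lam v * (st lam w * y * st lam v) * st lam w = y
        rw [← Matrix.mul_assoc, ← Matrix.mul_assoc, h1, Matrix.one_mul, Matrix.mul_assoc, h1,
          Matrix.mul_one] }
    (by show st lam v * (1 : Matrix ι ι A) * st lam w = 1; rw [Matrix.mul_one, h1])
    (fun x y => by
      show st lam v * (x * y) * st lam w = st lam v * x * st lam w * (st lam v * y * st lam w)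
      conv_lhs => rw [← Matrix.mul_one x, ← h2]
      simp only [Matrix.mul_assoc])
  refine ⟨g, fun x => ?_⟩
  show st lam v * t x * st lam w * (st lam v * W * v) = st lam v * W * v * st lam (st lam v * x * st lam w)
  rw [st_mul, st_mul, st_st lam hlam, st_st lam hlam]
  calc st lam v * t x * st lam w * (st lam v * W * v)
      = st lam v * (t x * ((st lam w * st lam v) * W)) * v := by simp only [Matrix.mul_assoc]
    _ = st lam v * (W * ((v * w) * st lam x)) * v := by rw [h2, Matrix.one_mul, ht, hvw, Matrix.one_mul]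
    _ = _ := by simp only [Matrix.mul_assoc]

variable {S : Type u} [CommRing S] [Algebra S A]

omit [Fintype κ] [DecidableEq κ] in
theorem cong_one_of_diagonal (hS : RInv.IsFixedRing S A lam) (hlam : Function.Involutive lam)
    (hsq : ∀ x : S, IsUnit x → ∃ y : S, y * y = x) {d : ι → A}
    (hd : IsUnit (diagonal d)) (hh : (1 : A) • st lam (diagonal d) = diagonal d) :
    Cong lam (diagonal d) (1 : Matrix ι ι A) := by
  have hdu : ∀ i, IsUnit (d i) := fun i => by
    rw [Matrix.isUnit_iff_isUnit_det, Matrix.det_diagonal, IsUnit.prod_iff] at hd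
    exact hd i (Finset.mem_univ i)
  have hfix : ∀ i, lam (d i) = d i := fun i => by
    have := herm_diag (lam := lam) (ε := 1) (one_mul _) hlam hh i
    simpa using this
  have hex : ∀ i, ∃ c : A, lam c = c ∧ c * d i * c = 1 := fun i => by
    obtain ⟨s, hs⟩ := (hS.2 _).1 (hfix i)
    obtain ⟨e, he⟩ := (hdu i).exists_left_inv
    obtain ⟨s', hs'⟩ := (hS.2 _).1 (show lam e = e by
      have h1 : lam e * d i = 1 := by rw [← hfix i, ← map_mul, he, map_one]
      exact (hdu i).mul_right_cancel (h1.trans he.symm))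
    have hss : s' * s = 1 := hS.1 (by rw [map_mul, hs, hs', he, map_one])
    obtain ⟨y, hy⟩ := hsq s' (IsUnit.of_mul_eq_one _ hss)
    refine ⟨algebraMap S A y, lam_algebraMap hS y, ?_⟩
    rw [mul_right_comm, ← map_mul, hy, hs', he]
  choose c hc hcd using hex
  refine ⟨diagonal c, diagonal fun i => c i * d i, ?_, ?_, ?_⟩
  · rw [Matrix.diagonal_mul_diagonal, ← Matrix.diagonal_one]
    congr 1; funext i; linear_combination hcd i
  · rw [Matrix.diagonal_mul_diagonal, ← Matrix.diagonal_one]
    congr 1; funext i; linear_combination hcd i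
  · rw [st, Matrix.diagonal_map (map_zero lam), Matrix.diagonal_transpose,
      Matrix.diagonal_mul_diagonal, Matrix.diagonal_mul_diagonal, ← Matrix.diagonal_one]
    congr 1; funext i
    simp only [Function.comp_apply, hc]; exact hcd i

theorem cong_block (hlam : Function.Involutive lam) (h2 : IsUnit (2 : A))
    (a b : A) (ha : lam a = -a) (hb : lam b = -b) (y : A) (hy : lam y = y) (hy2 : y * y = 1 + a * b)
    (hyu : IsUnit y) (hyu' : IsUnit (1 + y)) :
    Cong lam (Matrix.of ![![a, 1], ![-1, b]]) (J0 A) := by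
  obtain ⟨u, hu⟩ := hyu'.exists_left_inv
  obtain ⟨t, ht⟩ := h2.exists_left_inv
  obtain ⟨w, hw⟩ := hyu.exists_left_inv
  have hlu : lam u = u := hyu'.mul_right_cancel (by
    have := congrArg lam hu
    rw [map_mul, map_add, map_one, hy] at this
    rw [this, hu])
  have hlt : lam t = t := h2.mul_right_cancel (by
    have := congrArg lam ht
    rw [map_mul, map_ofNat, map_one] at this
    rw [this, ht])
  have hlw : lam w = w := hyu.mul_right_cancel (by
    have := congrArg lam hw
    rw [map_mul, map_one, hy] at this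
    rw [this, hw])
  obtain ⟨c, hc⟩ : ∃ c, c = -a * u := ⟨_, rfl⟩
  obtain ⟨s, hs⟩ : ∃ s, s = b * t * w := ⟨_, rfl⟩
  have hlc : lam c = -c := by rw [hc, map_mul, map_neg, ha, hlu]; ring
  have hls : lam s = -s := by rw [hs, map_mul, map_mul, hb, hlt, hlw]; ring
  have hz : 1 - c * b = y := by
    rw [hc]
    linear_combination (-u) * hy2 + (y - 1) * hu
  have hQ : a + 2 * c - c * c * b = 0 := by
    linear_combination c * hz + (-a * hu) + (y + 1) * hc
  have hv : IsUnit (Matrix.of ![![s, w], ![1 + s * c, w * c]] : Matrix (Fin 2) (Fin 2) A) := by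
    rw [Matrix.isUnit_iff_isUnit_det, Matrix.det_fin_two]
    simp only [Matrix.of_apply, Matrix.cons_val_zero, Matrix.cons_val_one]
    rw [show s * (w * c) - w * (1 + s * c) = -w by ring]
    exact (IsUnit.of_mul_eq_one _ hw).neg
  convert cong_isUnit lam hv using 1
  ext i j
  fin_cases i <;> fin_cases j <;>
    simp [J0, st_apply, Matrix.mul_apply, Fin.sum_univ_two, hls, hlw, hlc, hlt]
  · first
      | linear_combination (s * s) * hQ + (2 * s) * hz + (2 * t * b) * hw + b * ht + (2 * y) * hs
      | linear_combination -((s * s) * hQ + (2 * s) * hz + (2 * t * b) * hw + b * ht + (2 * y) * hs)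
  · first
      | linear_combination (s * w) * hQ + w * hz + hw
      | linear_combination -((s * w) * hQ + w * hz + hw)
  · first
      | linear_combination (s * w) * hQ + w * hz + hw
      | linear_combination -((s * w) * hQ + w * hz + hw)
  · first
      | linear_combination (w * w) * hQ
      | linear_combination -((w * w) * hQ)

theorem cong_blockDiagonal {o : Type*} [Fintype o] [DecidableEq o] {M K : o → Matrix (Fin 2) (Fin 2) A}
    (h : ∀ x, Cong lam (M x) (K x)) : Cong lam (Matrix.blockDiagonal M) (Matrix.blockDiagonal K) := by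
  choose v w hvw hwv hv using h
  refine ⟨Matrix.blockDiagonal v, Matrix.blockDiagonal w, ?_, ?_, ?_⟩
  · rw [← Matrix.blockDiagonal_mul, funext hvw]; exact Matrix.blockDiagonal_one
  · rw [← Matrix.blockDiagonal_mul, funext hwv]; exact Matrix.blockDiagonal_one
  · rw [st, Matrix.blockDiagonal_map _ lam (map_zero lam), Matrix.blockDiagonal_transpose,
      ← Matrix.blockDiagonal_mul, ← Matrix.blockDiagonal_mul]
    exact congrArg _ (funext hv)

theorem Jm_submatrix {κ' : Type*} [DecidableEq κ'] (e : κ' ≃ κ) :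
    (Jm A κ).submatrix (Equiv.prodCongr e (Equiv.refl (Fin 2))) (Equiv.prodCongr e (Equiv.refl (Fin 2))) =
      Jm A κ' := by
  ext ⟨x, i⟩ ⟨y, j⟩
  simp [Jm, Matrix.blockDiagonal_apply]

theorem isUnit_of_isUnit_algebraMap (hlam : Function.Involutive lam) (hS : RInv.IsFixedRing S A lam)
    {s : S} (h : IsUnit (algebraMap S A s)) : IsUnit s := by
  obtain ⟨e, he⟩ := h.exists_left_inv
  obtain ⟨s', hs'⟩ := (hS.2 e).1 (h.mul_right_cancel (by
    have h1 := congrArg lam he
    rw [map_mul, map_one, lam_algebraMap hS] at h1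
    exact h1.trans he.symm))
  exact IsUnit.of_mul_eq_one s' (hS.1 (by rw [map_mul, hs', map_one, mul_comm, he]))

theorem exists_involution_unit [Finite (MaximalSpectrum A)] (hlam : Function.Involutive lam)
    (t : Matrix ι ι A → Matrix ι ι A) (hta : ∀ x y, t (x + y) = t x + t y)
    (htm : ∀ x y, t (x * y) = t y * t x) (hts : ∀ (c : A) x, t (c • x) = lam c • t x)
    (htt : ∀ x, t (t x) = x) [Nonempty ι] :
    ∃ (W : Matrix ι ι A) (e : A), IsUnit W ∧ lam e * e = 1 ∧ st lam W = e • W ∧
      ∀ x, t x * W = W * st lam x := by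
  have hsa : ∀ x y : Matrix ι ι A, st lam (x + y) = st lam x + st lam y := fun x y => by
    ext i j; simp [st_apply]
  have ht1 : t 1 = 1 := by
    have h : ∀ a, t 1 * a = a := fun a => by
      conv_lhs => rw [← htt a, ← htm, Matrix.mul_one, htt a]
    simpa using h 1
  let ψl : Matrix ι ι A →ₗ[A] Matrix ι ι A :=
    { toFun := fun x => t (st lam x)
      map_add' := fun x y => by rw [hsa, hta]
      map_smul' := fun c x => by rw [st_smul, hts, hlam c]; rfl }
  let ψ : Matrix ι ι A ≃ₐ[A] Matrix ι ι A := AlgEquiv.ofBijective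
    (AlgHom.ofLinearMap ψl (by show t (st lam 1) = 1; rw [st_one, ht1])
      (fun x y => by show t (st lam (x * y)) = t (st lam x) * t (st lam y); rw [st_mul, htm]))
    ⟨fun x y h => by
      have h' : t (st lam x) = t (st lam y) := h
      have h2 := congrArg (fun z => st lam (t z)) h'
      simpa [htt, st_st lam hlam] using h2,
     fun x => ⟨st lam (t x), by show t (st lam (st lam (t x))) = x; rw [st_st lam hlam, htt]⟩⟩
  haveI : IsAzumaya A (Matrix ι ι A) := IsAzumaya.matrix A ι
  obtain ⟨W, hW⟩ := inner_of_finite_maximal ψ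
  have hmain : ∀ x, t x * (W : Matrix ι ι A) = W * st lam x := fun x => by
    have h := hW (st lam x)
    have h' : ψ (st lam x) = t x := by show t (st lam (st lam x)) = t x; rw [st_st lam hlam]
    rw [h'] at h
    rw [h, Matrix.mul_assoc _ (↑W⁻¹ : Matrix ι ι A), Units.inv_mul, Matrix.mul_one]
  obtain ⟨V, hV⟩ : ∃ V, V * st lam (W : Matrix ι ι A) = 1 :=
    ⟨st lam (↑W⁻¹ : Matrix ι ι A), by rw [← st_mul, Units.mul_inv, st_one]⟩
  have hV' : st lam (W : Matrix ι ι A) * V = 1 := mul_eq_one_comm.1 hV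
  have hcomm : ∀ x, Commute x ((W : Matrix ι ι A) * V) := fun x => by
    have h := hmain (t x)
    rw [htt] at h
    have h2 : st lam (t x) = V * (x * st lam (W : Matrix ι ι A)) := by
      have h3 := congrArg (st lam) (hmain x)
      rw [st_mul, st_mul, st_st lam hlam] at h3
      rw [← h3, ← Matrix.mul_assoc, hV, Matrix.one_mul]
    rw [h2] at h
    show x * _ = _ * x
    rw [← Matrix.mul_assoc, h, Matrix.mul_assoc, Matrix.mul_assoc, Matrix.mul_assoc x, hV',
      Matrix.mul_one, Matrix.mul_assoc]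
  obtain ⟨f, hf⟩ := Matrix.mem_range_scalar_iff_commute_single'.2
    fun i j => hcomm (Matrix.single i j 1)
  rw [Matrix.scalar_apply, ← Matrix.smul_one_eq_diagonal] at hf
  have hWf : (W : Matrix ι ι A) = f • st lam (W : Matrix ι ι A) := by
    rw [← Matrix.one_mul (st lam (W : Matrix ι ι A)), ← Matrix.smul_mul, hf, Matrix.mul_assoc, hV,
      Matrix.mul_one]
  have hfl : f * lam f = 1 := by
    have h1 : (W : Matrix ι ι A) = (f * lam f) • (W : Matrix ι ι A) := by
      conv_lhs => rw [hWf, hWf, st_smul, st_st lam hlam, smul_smul]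
    have h2 : (1 : Matrix ι ι A) = (f * lam f) • 1 := by
      have h3 := congrArg (fun z => z * (↑W⁻¹ : Matrix ι ι A)) h1
      simpa [Matrix.smul_mul] using h3
    obtain ⟨i⟩ := ‹Nonempty ι›
    simpa using (congrFun (congrFun h2 i) i).symm
  refine ⟨W, lam f, W.isUnit, by rw [hlam f, hfl], ?_, hmain⟩
  conv_rhs => rw [hWf, smul_smul, mul_comm, hfl, one_smul]

/-- Normal form of an involution over a strictly henselian fixed ring. -/
theorem normal_form [IsLocalRing S] [Finite (MaximalSpectrum A)] (hlam : Function.Involutive lam) (hS : RInv.IsFixedRing S A lam)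
    (hsq : ∀ x : S, IsUnit x → ∃ y : S, y * y = x) {n : ℕ} (hn : 0 < n)
    (hc : (∃ a : A, IsUnit (a - lam a)) ∨ Odd n ∨ IsUnit (2 : A))
    (t : Matrix (Fin n) (Fin n) A → Matrix (Fin n) (Fin n) A) (hta : ∀ x y, t (x + y) = t x + t y)
    (htm : ∀ x y, t (x * y) = t y * t x) (hts : ∀ (c : A) x, t (c • x) = lam c • t x)
    (htt : ∀ x, t (t x) = x) :
    (∃ g : Matrix (Fin n) (Fin n) A ≃ₐ[A] Matrix (Fin n) (Fin n) A, ∀ x, g (t x) = st lam (g x)) ∨
      ((∀ a : A, ¬ IsUnit (a - lam a)) ∧ IsUnit (2 : A) ∧ Even n ∧ ∃ (m : ℕ), n = m * 2 ∧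
        ∃ g : Matrix (Fin n) (Fin n) A ≃ₐ[A] Matrix (Fin m × Fin 2) (Fin m × Fin 2) A,
          ∀ x, g (t x) * Jm A (Fin m) = Jm A (Fin m) * st lam (g x)) := by
  haveI : Nonempty (Fin n) := ⟨⟨0, hn⟩⟩
  haveI := nontrivial hS
  obtain ⟨W, e, hWu, hee, hWe, hWt⟩ := exists_involution_unit hlam t hta htm hts htt
  have hscale : ∀ c : A, IsUnit c → IsUnit (c • W) ∧ ∀ x, t x * (c • W) = (c • W) * st lam x :=
    fun c hcu => ⟨by rw [← Matrix.one_mul W, ← Matrix.smul_mul]
                     exact ((Matrix.isUnit_iff_isUnit_det _).2 (by simp [hcu.pow])).mul hWu,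
      fun x => by rw [Matrix.mul_smul, Matrix.smul_mul, hWt]⟩
  have hst : ∀ c ε : A, lam c * e = ε * c → st lam (c • W) = ε • (c • W) := fun c ε h => by
    rw [st_smul, hWe, smul_smul, h, mul_smul]
  have plus : ∀ c : A, IsUnit c → lam c * e = c →
      ((∃ a : A, IsUnit (a - lam a)) ∨ (1 : A) + 1 ∉ Ring.jacobson A ∨ Odd n) →
      ∃ g : Matrix (Fin n) (Fin n) A ≃ₐ[A] Matrix (Fin n) (Fin n) A, ∀ x, g (t x) = st lam (g x) := by
    intro c hcu hce hg
    obtain ⟨hU, ht'⟩ := hscale c hcu
    have hh : (1 : A) • st lam (c • W) = c • W := by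
      rw [hst c 1 (by rw [hce, one_mul]), one_smul, one_smul]
    obtain ⟨κ, _, _, d, p⟩ := exists_diagonal hlam hS (ε := (1 : A)) (one_mul 1) (map_one lam) n _
      (Fintype.card_fin n) hU hh (fun _ => good_of_cases hlam hS (one_mul 1) (map_one lam) hU hh
        (by rwa [Fintype.card_fin]))
    have p2 := p.trans (cong_one_of_diagonal hS hlam hsq (p.isUnit hU) (p.herm hlam hh))
    let ee : Fin n ≃ κ := (Fintype.equivOfCardEq (by rw [p.card_eq])).symm
    have p3 := p2.trans (cong_submatrix lam _ ee)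
    rw [Matrix.submatrix_one_equiv] at p3
    obtain ⟨g, hg'⟩ := exists_algEquiv_of_cong hlam p3 t ht'
    exact ⟨g, fun x => by simpa using hg' x⟩
  by_cases hu : ∃ a : A, IsUnit (a - lam a)
  · obtain ⟨a, ha⟩ := hilbert90 hlam hS hu (lam e) (by rw [hlam e, mul_comm, hee])
    exact Or.inl (plus a a.isUnit (by rw [ha, mul_right_comm, hee, one_mul]) (Or.inl hu))
  by_cases hodd : Odd n
  · obtain ⟨k, hk⟩ := id hodd
    have hd : IsUnit W.det := (Matrix.isUnit_iff_isUnit_det _).1 hWu
    have hld : lam W.det = e ^ n * W.det := by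
      have h := congrArg Matrix.det hWe
      rw [Matrix.det_smul, Fintype.card_fin, st, Matrix.det_transpose] at h
      rw [← h]
      exact RingHom.map_det (lam : A →+* A) W
    refine Or.inl (plus (W.det * e ^ (k + 1)) (hd.mul ((IsUnit.of_mul_eq_one _ (mul_comm e (lam e) ▸ hee)).pow _))
      ?_ (Or.inr (Or.inr hodd)))
    rw [map_mul, map_pow, hld, show e ^ n = e ^ (2 * k + 1) from congrArg (e ^ ·) hk]
    have h1 : lam e ^ (k + 1) * e ^ (k + 1) = 1 := by rw [← mul_pow, hee, one_pow]
    linear_combination (W.det * e ^ (k + 1)) * h1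
  have h2 : IsUnit (2 : A) := hc.resolve_left hu |>.resolve_left hodd
  obtain ⟨hloc, hid⟩ := (exists_unit_or_local hlam hS).resolve_left hu
  haveI := hloc
  have hlnot : (1 : A) + 1 ∉ Ring.jacobson A := by
    rw [one_add_one_eq_two]
    exact fun h => jacobson_ne_top (Ideal.eq_top_of_isUnit_mem _ h h2)
  rcases IsLocalRing.isUnit_or_isUnit_of_isUnit_add (a := 1 + e) (b := 1 - e)
    (by rw [show 1 + e + (1 - e) = (2 : A) by ring]; exact h2) with hp | hm
  · exact Or.inl (plus _ hp (by rw [map_add, map_one, add_mul, one_mul, hee, add_comm]) (Or.inr (Or.inl hlnot)))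
  refine Or.inr ⟨fun a ha => hu ⟨a, ha⟩, h2, Nat.not_odd_iff_even.1 hodd, ?_⟩
  obtain ⟨hU, ht'⟩ := hscale _ hm
  have hh : (-1 : A) • st lam ((1 - e) • W) = (1 - e) • W := by
    rw [hst (1 - e) (-1) (by rw [map_sub, map_one, sub_mul, one_mul, hee]; ring), smul_smul]
    simp
  have hidJ : ∀ a : A, lam a - a ∈ Ring.jacobson A := hid
  obtain ⟨κ, _, _, a, b, hab, p⟩ := exists_symplectic hlam hS hidJ h2 n _ (Fintype.card_fin n) hU hh
  have hhM := p.herm hlam hh
  have hblock : ∀ x, Cong lam (Matrix.of ![![a x, 1], ![-1, b x]]) (J0 A) := fun x => by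
    have hla : lam (a x) = -a x := by
      have := herm_diag (lam := lam) (ε := -1) (by ring) hlam hhM (x, 0)
      simpa using this
    have hlb : lam (b x) = -b x := by
      have := herm_diag (lam := lam) (ε := -1) (by ring) hlam hhM (x, 1)
      simpa using this
    obtain ⟨s, hs⟩ := (hS.2 _).1 (show lam (1 + a x * b x) = 1 + a x * b x by
      rw [map_add, map_one, map_mul, hla, hlb, neg_mul_neg])
    have hm' : a x * b x ∈ IsLocalRing.maximalIdeal A := by
      have := Ideal.mul_mem_right (b x) _ (hab x).1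
      rwa [← Ideal.jacobson_bot, IsLocalRing.jacobson_eq_maximalIdeal _ bot_ne_top] at this
    have h1u : IsUnit (1 + a x * b x) := IsLocalRing.notMem_maximalIdeal.1 fun h =>
      (IsLocalRing.maximalIdeal.isMaximal A).ne_top
        ((Ideal.eq_top_iff_one _).2 (by simpa using sub_mem h hm'))
    obtain ⟨y, hy⟩ := hsq s (isUnit_of_isUnit_algebraMap hlam hS (by rw [hs]; exact h1u))
    have hy2 : algebraMap S A y * algebraMap S A y = 1 + a x * b x := by rw [← map_mul, hy, hs]
    have hyu : IsUnit (algebraMap S A y) := isUnit_of_mul_isUnit_left (hy2 ▸ h1u)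
    rcases IsLocalRing.isUnit_or_isUnit_of_isUnit_add (a := 1 + algebraMap S A y)
      (b := 1 + -algebraMap S A y) (by
        rw [show 1 + algebraMap S A y + (1 + -algebraMap S A y) = (2 : A) by ring]; exact h2) with h | h
    · exact cong_block hlam h2 _ _ hla hlb _ (lam_algebraMap hS y) hy2 hyu h
    · exact cong_block hlam h2 _ _ hla hlb _ (by rw [map_neg, lam_algebraMap hS])
        (by rw [neg_mul_neg, hy2]) hyu.neg h
  have p' : Cong lam ((Matrix.blockDiagonal fun x => Matrix.of ![![a x, 1], ![-1, b x]]).submatrix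
      Prod.swap Prod.swap : Matrix (κ × Fin 2) (κ × Fin 2) A) (Jm A κ) := by
    refine Cong.trans ?_ ((cong_blockDiagonal hblock).trans (cong_submatrix lam _ (Equiv.prodComm κ (Fin 2))))
    convert cong_submatrix lam _ (Equiv.prodComm (Fin 2) κ) using 1
    ext ⟨i, x⟩ ⟨j, y⟩
    simp
  have p'' := (p.trans p').trans (cong_submatrix lam _
    (Equiv.prodCongr (Fintype.equivFin κ).symm (Equiv.refl (Fin 2))))
  rw [Jm_submatrix] at p''
  refine ⟨Fintype.card κ, ?_, exists_algEquiv_of_cong hlam p'' t ht'⟩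
  have := p''.card_eq
  simpa using this.symm

end AzInvLib
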