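import Groth.Agent.AzInvLib.Base
import Groth.Agent.AzInvLib.Normal
import Groth.Agent.AzInvLib.Local
import Groth.Agent.AzInvLib.FixedBC
import Groth.Agent.AzInvLib.Split
import Groth.Agent.AzumayaLib.Basic

/-! Algebras with involution over a strictly henselian flat extension of the fixed ring. -/

set_option autoImplicit false

namespace AzInvLib

universe u v w

open scoped TensorProduct
open IsLocalRing Matrix

section Theta

variable {S : Type u} [CommRing S] (T : Type u) [CommRing T] [Algebra S T]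
  (B : Type w) [Ring B] [Algebra S B] (κ : Type*) [Fintype κ] [DecidableEq κ]

/-- Base change of a matrix algebra. -/
noncomputable def theta : T ⊗[S] Matrix κ κ B →ₐ[T] Matrix κ κ (T ⊗[S] B) :=
  Algebra.TensorProduct.lift (Algebra.ofId T _)
    ((Algebra.TensorProduct.includeRight : B →ₐ[S] T ⊗[S] B).mapMatrix (m := κ))
    fun t a => Algebra.commutes t _

theorem theta_tmul (t : T) (M : Matrix κ κ B) (i j : κ) :
    theta T B κ (t ⊗ₜ[S] M) i j = t ⊗ₜ[S] M i j := by
  rw [theta, Algebra.TensorProduct.lift_tmul, Algebra.ofId_apply, ← Algebra.smul_def,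
    Matrix.smul_apply, AlgHom.mapMatrix_apply, Matrix.map_apply,
    Algebra.TensorProduct.includeRight_apply, TensorProduct.smul_tmul', smul_eq_mul, mul_one]

theorem theta_bijective : Function.Bijective (theta (S := S) T B κ) := by
  let inv : Matrix κ κ (T ⊗[S] B) → T ⊗[S] Matrix κ κ B := fun M =>
    ∑ i, ∑ j, (Matrix.singleLinearMap S i j).lTensor T (M i j)
  refine Function.bijective_iff_has_inverse.2 ⟨inv, fun z => ?_, fun M => ?_⟩
  · induction z with
    | zero => simp [inv]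
    | add a b ha hb =>
      simp only [inv] at ha hb
      simp only [inv, map_add, Matrix.add_apply, Finset.sum_add_distrib, ha, hb]
    | tmul t M =>
      simp only [inv, theta_tmul, LinearMap.lTensor_tmul, ← TensorProduct.tmul_sum,
        Matrix.singleLinearMap, LinearMap.coe_mk, AddHom.coe_mk, Matrix.singleAddMonoidHom_apply,
        ZeroHom.coe_mk, AddMonoidHom.coe_mk]
      exact congrArg (t ⊗ₜ ·) (Matrix.matrix_eq_sum_single M).symm
  · ext a b
    simp only [inv, map_sum, Matrix.sum_apply]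
    have h : ∀ i j (z : T ⊗[S] B), theta T B κ ((Matrix.singleLinearMap S i j).lTensor T z) a b =
        if i = a ∧ j = b then z else 0 := fun i j z => by
      induction z with
      | zero => simp
      | add x y hx hy => rw [map_add, map_add, Matrix.add_apply, hx, hy]; split_ifs <;> simp
      | tmul t x =>
        rw [LinearMap.lTensor_tmul, theta_tmul]
        show t ⊗ₜ[S] (Matrix.single i j x a b) = _
        rw [Matrix.single_apply]
        split_ifs <;> simp
    simp only [h, ite_and, Finset.sum_ite_eq', Finset.mem_univ, if_true]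
    rw [Finset.sum_eq_single a (fun i _ hi => by simp [hi]) (by simp)]
    simp

end Theta

variable {S : Type u} {R : Type v} [CommRing S] [CommRing R] [Algebra S R] {lam : R ≃ₐ[S] R}
  {A : Type w} [Ring A] [Algebra S A] [Algebra R A] [IsScalarTower S R A]
  {T : Type u} [CommRing T] [Algebra S T]

theorem finite_maximal [IsLocalRing T] (hlam : Function.Involutive lam)
    (hS : RInv.IsFixedRing S R lam.toRingEquiv) [Module.Flat S T] :
    Finite (MaximalSpectrum (T ⊗[S] R)) := by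
  have hfix := isFixedRing_bc T hlam hS (Or.inl inferInstance)
  haveI := nontrivial hfix
  obtain ⟨q, hq⟩ := Ideal.exists_maximal (T ⊗[S] R)
  let l := (bcLam lam T).toRingEquiv
  haveI : (q.comap l).IsMaximal := Ideal.comap_isMaximal_of_surjective l l.surjective
  refine Finite.of_surjective (fun b : Bool => if b then (⟨q, hq⟩ : MaximalSpectrum (T ⊗[S] R)) else
    ⟨q.comap l, inferInstance⟩) fun M => ?_
  haveI := M.isMaximal
  rcases comap_eq_or (lam := l) (bcLam_invol T hlam) hfix q M.asIdeal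
    ((comap_maximal (bcLam_invol T hlam) hfix M.asIdeal).trans (comap_maximal (bcLam_invol T hlam) hfix q).symm) with h | h
  · exact ⟨true, MaximalSpectrum.ext h.symm⟩
  · exact ⟨false, MaximalSpectrum.ext h.symm⟩

omit [Algebra R A] [IsScalarTower S R A] in
theorem tmul_eq (t : T) (r : R) : t ⊗ₜ[S] r = algebraMap T (T ⊗[S] R) t * ((1 : T) ⊗ₜ r) := by
  rw [Algebra.TensorProduct.algebraMap_apply, Algebra.algebraMap_self_apply,
    Algebra.TensorProduct.tmul_mul_tmul, mul_one, one_mul]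

section Split

omit [Algebra S A] [IsScalarTower S R A] in
theorem split_local {n : ℕ} (hA : AzInv.IsAzumayaDeg R A n) (L : Type*) [CommRing L] [Algebra R L]
    [HenselianLocalRing L] [IsSepClosed (ResidueField L)] :
    Nonempty (L ⊗[R] A ≃ₐ[L] Matrix (Fin n) (Fin n) L) := by
  haveI := hA.1
  haveI : IsAzumaya L (L ⊗[R] A) := AzumayaLib.isAzumaya_baseChange L
  haveI := AzumayaLib.Et.free_of_azumaya (R := L) (A := L ⊗[R] A)
  refine exists_matrix_equiv ?_
  obtain ⟨M⟩ : Nonempty (PrimeSpectrum L) := inferInstance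
  have h : Module.rankAtStalk (R := L) (L ⊗[R] A) M = n ^ 2 := by
    rw [Module.rankAtStalk_baseChange]; exact hA.2 _
  rw [Module.rankAtStalk_eq_finrank_of_free] at h
  simpa using h

omit [Algebra S A] [IsScalarTower S R A] in
theorem split_prod {n : ℕ} {L L₁ L₂ : Type*} [CommRing L] [CommRing L₁] [CommRing L₂] [Algebra R L]
    [Algebra R L₁] [Algebra R L₂] (e : L ≃ₐ[R] L₁ × L₂)
    (Ψ₁ : L₁ ⊗[R] A ≃ₐ[L₁] Matrix (Fin n) (Fin n) L₁) (Ψ₂ : L₂ ⊗[R] A ≃ₐ[L₂] Matrix (Fin n) (Fin n) L₂) :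
    Nonempty (L ⊗[R] A ≃ₐ[L] Matrix (Fin n) (Fin n) L) := by
  let π₁ : L →ₐ[R] L₁ := (AlgHom.fst R L₁ L₂).comp e.toAlgHom
  let π₂ : L →ₐ[R] L₂ := (AlgHom.snd R L₁ L₂).comp e.toAlgHom
  let g₁ : A →ₐ[R] Matrix (Fin n) (Fin n) L₁ :=
    (Ψ₁.toAlgHom.restrictScalars R).comp Algebra.TensorProduct.includeRight
  let g₂ : A →ₐ[R] Matrix (Fin n) (Fin n) L₂ :=
    (Ψ₂.toAlgHom.restrictScalars R).comp Algebra.TensorProduct.includeRight
  let g : A →ₐ[R] Matrix (Fin n) (Fin n) (L₁ × L₂) :=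
    { toFun := fun a => Matrix.of fun i j => (g₁ a i j, g₂ a i j)
      map_one' := by ext i j <;> by_cases h : i = j <;> simp [h, Matrix.one_apply]
      map_mul' := fun x y => by
        ext i j <;> simp [Matrix.mul_apply, Prod.fst_sum, Prod.snd_sum]
      map_zero' := by ext i j <;> simp
      map_add' := fun x y => by ext i j <;> simp
      commutes' := fun r => by
        ext i j <;> by_cases h : i = j <;> simp [Matrix.algebraMap_matrix_apply, h] }
  let Ψ : L ⊗[R] A →ₐ[L] Matrix (Fin n) (Fin n) L :=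
    Algebra.TensorProduct.lift (Algebra.ofId L _) (e.symm.toAlgHom.mapMatrix.comp g)
      fun x a => Algebra.commutes x _
  have h₁ : ∀ z, π₁.mapMatrix (Ψ z) = Ψ₁ (π₁.toLinearMap.rTensor A z) := fun z => by
    induction z with
    | zero => simp
    | add a b ha hb => simp only [map_add, ha, hb]
    | tmul x a =>
      rw [LinearMap.rTensor_tmul, show π₁.toLinearMap x ⊗ₜ[R] a = π₁ x • ((1 : L₁) ⊗ₜ[R] a) by
        rw [TensorProduct.smul_tmul', smul_eq_mul, mul_one]; rfl, map_smul]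
      ext i j
      simp [Ψ, π₁, g, g₁, Algebra.TensorProduct.lift_tmul, ← Algebra.smul_def, Matrix.algebraMap_eq_diagonal]
  have h₂ : ∀ z, π₂.mapMatrix (Ψ z) = Ψ₂ (π₂.toLinearMap.rTensor A z) := fun z => by
    induction z with
    | zero => simp
    | add a b ha hb => simp only [map_add, ha, hb]
    | tmul x a =>
      rw [LinearMap.rTensor_tmul, show π₂.toLinearMap x ⊗ₜ[R] a = π₂ x • ((1 : L₂) ⊗ₜ[R] a) by
        rw [TensorProduct.smul_tmul', smul_eq_mul, mul_one]; rfl, map_smul]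
      ext i j
      simp [Ψ, π₂, g, g₂, Algebra.TensorProduct.lift_tmul, ← Algebra.smul_def, Matrix.algebraMap_eq_diagonal]
  let s₁ : L₁ →ₗ[R] L := e.symm.toLinearMap.comp (LinearMap.inl R L₁ L₂)
  let s₂ : L₂ →ₗ[R] L := e.symm.toLinearMap.comp (LinearMap.inr R L₁ L₂)
  have hs : s₁.comp π₁.toLinearMap + s₂.comp π₂.toLinearMap = LinearMap.id := LinearMap.ext fun x => by
    apply e.injective
    simp [s₁, s₂, π₁, π₂]
  refine ⟨AlgEquiv.ofBijective Ψ ⟨(injective_iff_map_eq_zero Ψ).2 fun z hz => ?_, fun M => ?_⟩⟩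
  · have e₁ : π₁.toLinearMap.rTensor A z = 0 := Ψ₁.injective (by rw [← h₁, hz, map_zero, map_zero])
    have e₂ : π₂.toLinearMap.rTensor A z = 0 := Ψ₂.injective (by rw [← h₂, hz, map_zero, map_zero])
    rw [← LinearMap.id_apply (R := R) z, ← LinearMap.rTensor_id, ← hs, LinearMap.rTensor_add,
      LinearMap.add_apply, LinearMap.rTensor_comp_apply A s₁, LinearMap.rTensor_comp_apply A s₂, e₁, e₂, map_zero, map_zero, add_zero]
  · obtain ⟨z₁, hz₁⟩ := LinearMap.rTensor_surjective A (g := π₁.toLinearMap)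
      (fun x => ⟨e.symm (x, 0), by simp [π₁]⟩) (Ψ₁.symm (π₁.mapMatrix M))
    obtain ⟨z₂, hz₂⟩ := LinearMap.rTensor_surjective A (g := π₂.toLinearMap)
      (fun x => ⟨e.symm (0, x), by simp [π₂]⟩) (Ψ₂.symm (π₂.mapMatrix M))
    refine ⟨algebraMap _ _ (e.symm (1, 0)) * z₁ + algebraMap _ _ (e.symm (0, 1)) * z₂, ?_⟩
    have hm₁ : π₁.mapMatrix (Ψ z₁) = π₁.mapMatrix M := by rw [h₁, hz₁, AlgEquiv.apply_symm_apply]
    have hm₂ : π₂.mapMatrix (Ψ z₂) = π₂.mapMatrix M := by rw [h₂, hz₂, AlgEquiv.apply_symm_apply]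
    ext i j
    apply e.injective
    have a₁ := congrFun (congrFun hm₁ i) j
    have a₂ := congrFun (congrFun hm₂ i) j
    simp only [π₁, π₂, AlgHom.mapMatrix_apply, Matrix.map_apply, AlgHom.comp_apply] at a₁ a₂
    rw [map_add, map_mul, map_mul, Ψ.commutes, Ψ.commutes, ← Algebra.smul_def, ← Algebra.smul_def]
    refine Prod.ext ?_ ?_
    · simpa using a₁
    · simpa using a₂

/-- `T` as an algebra along a map. -/
def Pr (_ : R →+* T) : Type u := T

instance (ρ : R →+* T) : CommRing (Pr ρ) := inferInstanceAs (CommRing T)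

instance (ρ : R →+* T) : Algebra R (Pr ρ) := RingHom.toAlgebra (S := Pr ρ) ρ

/-- Splitting of an Azumaya algebra over a strictly henselian extension of the fixed ring. -/
theorem exists_split (n : ℕ) (hA : AzInv.IsAzumayaDeg R A n) [HenselianLocalRing T]
    [IsSepClosed (ResidueField T)] [Module.Flat S T] (hlam : Function.Involutive lam)
    (hS : RInv.IsFixedRing S R lam.toRingEquiv) :
    ∃ Φ : T ⊗[S] A ≃ₐ[T] Matrix (Fin n) (Fin n) (T ⊗[S] R),
      ∀ r : R, Φ ((1 : T) ⊗ₜ algebraMap R A r) = algebraMap _ _ ((1 : T) ⊗ₜ[S] r) := by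
  letI : Algebra R (T ⊗[S] R) := (Algebra.TensorProduct.includeRight : R →ₐ[S] T ⊗[S] R).toRingHom.toAlgebra
  haveI : IsScalarTower S R (T ⊗[S] R) := IsScalarTower.of_algebraMap_eq fun s => by
    rw [RingHom.algebraMap_toAlgebra]
    exact ((Algebra.TensorProduct.includeRight : R →ₐ[S] T ⊗[S] R).commutes s).symm
  have hfix := isFixedRing_bc T hlam hS (Or.inl inferInstance)
  obtain ⟨Ψ⟩ : Nonempty ((T ⊗[S] R) ⊗[R] A ≃ₐ[T ⊗[S] R] Matrix (Fin n) (Fin n) (T ⊗[S] R)) := by
    rcases exists_unit_or_local (lam := (bcLam lam T).toRingEquiv) (bcLam_invol T hlam) hfix with hu | ⟨hl, -⟩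
    · obtain ⟨e, -⟩ := exists_prod_equiv (bcLam_invol T hlam) hfix hu
      let ρ₁ : R →+* T := (RingHom.fst T T).comp (e.toRingEquiv.toRingHom.comp (algebraMap R (T ⊗[S] R)))
      let ρ₂ : R →+* T := (RingHom.snd T T).comp (e.toRingEquiv.toRingHom.comp (algebraMap R (T ⊗[S] R)))
      haveI : HenselianLocalRing (Pr ρ₁) := inferInstanceAs (HenselianLocalRing T)
      haveI : IsSepClosed (ResidueField (Pr ρ₁)) := inferInstanceAs (IsSepClosed (ResidueField T))
      haveI : HenselianLocalRing (Pr ρ₂) := inferInstanceAs (HenselianLocalRing T)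
      haveI : IsSepClosed (ResidueField (Pr ρ₂)) := inferInstanceAs (IsSepClosed (ResidueField T))
      obtain ⟨Ψ₁⟩ := split_local hA (Pr ρ₁)
      obtain ⟨Ψ₂⟩ := split_local hA (Pr ρ₂)
      exact split_prod (AlgEquiv.ofRingEquiv (f := (show T ⊗[S] R ≃+* Pr ρ₁ × Pr ρ₂ from e.toRingEquiv))
        fun r => rfl) Ψ₁ Ψ₂
    · haveI := hl
      obtain ⟨h1, h2⟩ := henselian_of_local (bcLam_invol T hlam) hfix
      exact split_local hA (T ⊗[S] R)
  let g : A →ₐ[S] Matrix (Fin n) (Fin n) (T ⊗[S] R) :=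
    (Ψ.toAlgHom.restrictScalars S).comp
      ((Algebra.TensorProduct.includeRight : A →ₐ[R] (T ⊗[S] R) ⊗[R] A).restrictScalars S)
  let Φ : T ⊗[S] A →ₐ[T] Matrix (Fin n) (Fin n) (T ⊗[S] R) :=
    Algebra.TensorProduct.lift (Algebra.ofId T _) g fun t a => Algebra.commutes t _
  let j : T ⊗[S] R →ₐ[S] T ⊗[S] A := Algebra.TensorProduct.map (AlgHom.id S T) (IsScalarTower.toAlgHom S R A)
  let G : (T ⊗[S] R) ⊗[R] A →+ T ⊗[S] A := TensorProduct.liftAddHom
    { toFun := fun x => (AddMonoidHom.mulLeft (j x)).comp (TensorProduct.mk S T A 1).toAddMonoidHom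
      map_zero' := by ext a; simp
      map_add' := fun x y => by ext a; simp [add_mul] }
    fun r x a => by
      show j (r • x) * ((1 : T) ⊗ₜ[S] a) = j x * ((1 : T) ⊗ₜ[S] (r • a))
      rw [Algebra.smul_def, mul_comm, map_mul, mul_assoc, Algebra.smul_def r a]
      congr 1
      show ((1 : T) ⊗ₜ[S] algebraMap R A r) * _ = _
      rw [Algebra.TensorProduct.tmul_mul_tmul, one_mul]
  have hΦ : ∀ t a, Φ (t ⊗ₜ a) = Ψ ((t ⊗ₜ[S] (1 : R)) ⊗ₜ[R] a) := fun t a => by
    show algebraMap T _ t * Ψ ((1 : T ⊗[S] R) ⊗ₜ[R] a) = _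
    rw [IsScalarTower.algebraMap_apply T (T ⊗[S] R) (Matrix (Fin n) (Fin n) (T ⊗[S] R)), ← Algebra.smul_def,
      ← map_smul, TensorProduct.smul_tmul', smul_eq_mul, mul_one]
    rfl
  have hG : ∀ z, G (Ψ.symm (Φ z)) = z := fun z => by
    induction z with
    | zero => simp
    | add a b ha hb => simp only [map_add, ha, hb]
    | tmul t a =>
      rw [hΦ, AlgEquiv.symm_apply_apply]
      show j (t ⊗ₜ[S] (1 : R)) * ((1 : T) ⊗ₜ[S] a) = _
      simp [j]
  have hsurj : Function.Surjective Φ := fun M => by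
    obtain ⟨w, rfl⟩ := Ψ.surjective M
    induction w with
    | zero => exact ⟨0, by simp⟩
    | add a b ha hb =>
      obtain ⟨x, hx⟩ := ha
      obtain ⟨y, hy⟩ := hb
      exact ⟨x + y, by rw [map_add, hx, hy, map_add]⟩
    | tmul x a =>
      induction x with
      | zero => exact ⟨0, by simp⟩
      | add p q hp hq =>
        obtain ⟨x, hx⟩ := hp
        obtain ⟨y, hy⟩ := hq
        exact ⟨x + y, by rw [map_add, hx, hy, ← map_add, TensorProduct.add_tmul]⟩
      | tmul t r =>
        refine ⟨t ⊗ₜ (r • a), ?_⟩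
        rw [hΦ, ← TensorProduct.smul_tmul]
        congr 2
        rw [Algebra.smul_def]
        show ((1 : T) ⊗ₜ[S] r) * (t ⊗ₜ[S] (1 : R)) = _
        rw [Algebra.TensorProduct.tmul_mul_tmul, one_mul, mul_one]
  refine ⟨AlgEquiv.ofBijective Φ ⟨Function.LeftInverse.injective (g := fun w => G (Ψ.symm w)) hG, hsurj⟩,
    fun r => ?_⟩
  simp only [AlgEquiv.coe_ofBijective]
  rw [hΦ, ← Ψ.commutes]
  congr 1
  rw [Algebra.algebraMap_eq_smul_one (R := R) r, TensorProduct.tmul_smul, TensorProduct.smul_tmul',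
    Algebra.TensorProduct.algebraMap_apply, Algebra.algebraMap_self_apply, Algebra.smul_def]
  congr 1
  show ((1 : T) ⊗ₜ[S] r) * ((1 : T) ⊗ₜ[S] (1 : R)) = _
  rw [Algebra.TensorProduct.tmul_mul_tmul, one_mul, mul_one]

end Split

end AzInvLib
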