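import Groth.Agent.HenselLib.IndEtale
import Groth.Agent.HenselLib.Criteria
import Mathlib.RingTheory.Localization.AtPrime.Basic
import Mathlib.RingTheory.Etale.Pi

/-! Strictly henselian rings over the primes of a ring, ind-étale over it. -/

set_option autoImplicit false

namespace AzInvLib

universe u v

open IsLocalRing HenselLib

theorem exists_point_ring (S : Type u) [CommRing S] (p : Ideal S) [p.IsPrime] :
    ∃ (T : Type u) (_ : CommRing T) (_ : Algebra S T) (_ : HenselianLocalRing T),
      IsSepClosed (ResidueField T) ∧ Module.Flat S T ∧ (maximalIdeal T).comap (algebraMap S T) = p ∧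
        ∀ x : T, EtCov (R := S) x := by
  let L := Localization.AtPrime p
  let hθ := ker_scθ L
  letI algG : ∀ n, Algebra S (G hθ n) := fun n =>
    ((algebraMap L (G hθ n)).comp (algebraMap S L)).toAlgebra
  have key : ∀ n, ∀ x : G hθ n, EtCov (R := S) x := by
    intro n
    induction n with
    | zero =>
      intro x
      obtain ⟨a, s, rfl⟩ := IsLocalization.exists_mk'_eq (S := L) p.primeCompl x
      let ψ : Localization.Away (s : S) →ₐ[S] L :=
        IsLocalization.Away.liftAlgHom (s : S) (f := Algebra.ofId S L)
          (IsLocalization.map_units L s)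
      refine ⟨Localization.Away (s : S), inferInstance, inferInstance,
        Algebra.Etale.of_isLocalizationAway (s : S),
        { toRingHom := (ψ : Localization.Away (s : S) →+* L), commutes' := fun c => ψ.commutes c },
        IsLocalization.mk' _ a ⟨(s : S), Submonoid.mem_powers _⟩, ?_⟩
      show ψ _ = IsLocalization.mk' L a s
      refine IsUnit.mul_right_cancel (IsLocalization.map_units L s) ?_
      show ψ _ * algebraMap S L s = IsLocalization.mk' L a s * algebraMap S L s
      rw [IsLocalization.mk'_spec]
      have h1 : algebraMap S L s = ψ (algebraMap S (Localization.Away (s : S)) s) := (ψ.commutes _).symm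
      rw [h1, ← map_mul, IsLocalization.mk'_spec (Localization.Away (s : S)) a ⟨(s : S), Submonoid.mem_powers _⟩]
      exact ψ.commutes a
    | succ n ih =>
      intro x
      obtain ⟨U, _, _, _, ξ, hx⟩ := Step.etCov_next (R := S) (seq hθ n).θ ih x
      refine ⟨U, inferInstance, inferInstance, inferInstance, { toRingHom := ξ.toRingHom, commutes' := fun s => ?_ }, hx⟩
      refine (ξ.commutes s).trans ?_
      rw [IsScalarTower.algebraMap_apply S (G hθ n) (Step.Next (seq hθ n).θ)]
      exact ((seq hθ n).toNext.commutes (algebraMap S L s))
  haveI hs : IsSepClosed (ResidueField (SH L)) := (isSepClosure_SH L).sep_closed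
  letI : Algebra S (SH L) := ((algebraMap L (SH L)).comp (algebraMap S L)).toAlgebra
  haveI : IsScalarTower S L (SH L) := IsScalarTower.of_algebraMap_eq' rfl
  refine ⟨SH L, inferInstance, inferInstance, inferInstance, hs, ?_, ?_, fun z => ?_⟩
  · haveI : Module.Flat L (SH L) := flat_hens hθ
    haveI : Module.Flat S L := IsLocalization.flat L p.primeCompl
    exact Module.Flat.trans S L (SH L)
  · show (maximalIdeal (SH L)).comap ((algebraMap L (SH L)).comp (algebraMap S L)) = p
    haveI : IsLocalHom (algebraMap L (SH L)) := isLocalHom_hens hθ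
    rw [← Ideal.comap_comap]
    refine Eq.trans ?_ (Localization.AtPrime.comap_maximalIdeal (I := p))
    congr 1
    exact IsLocalRing.maximalIdeal_comap (algebraMap L (SH L))
  · obtain ⟨n, x, rfl⟩ := exists_of hθ z
    obtain ⟨U, _, _, _, ξ, u, rfl⟩ := key n x
    exact ⟨U, inferInstance, inferInstance, inferInstance,
      { toRingHom := (of hθ n : G hθ n →+* SH L).comp ξ.toRingHom
        commutes' := fun s => by
          show of hθ n (ξ (algebraMap S U s)) = algebraMap L (SH L) (algebraMap S L s)
          rw [ξ.commutes]
          exact (of hθ n).commutes (algebraMap S L s) }, u, rfl⟩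

theorem flat_of_etale' {R U : Type u} {S : Type u} [CommRing R] [CommRing U] [CommRing S] [Algebra R U] [Algebra R S]
    [Algebra U S] [IsScalarTower R U S] [Algebra.Etale R U] [Module.Flat R S] : Module.Flat U S := by
  let μ : TensorProduct R S U →ₐ[S] S := Algebra.TensorProduct.lift (AlgHom.id S S) (IsScalarTower.toAlgHom R U S)
    fun _ _ => Commute.all _ _
  letI : Algebra (TensorProduct R S U) S := μ.toRingHom.toAlgebra
  haveI : IsScalarTower S (TensorProduct R S U) S := IsScalarTower.of_algebraMap_eq fun s => (μ.commutes s).symm
  haveI : Algebra.Etale (TensorProduct R S U) S :=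
    Algebra.Etale.of_restrictScalars (R := S) (A := TensorProduct R S U) (B := S)
  have hμ : (μ : TensorProduct R S U →+* S).Flat :=
    RingHom.flat_algebraMap_iff.2 (inferInstance : Module.Flat (TensorProduct R S U) S)
  have h1 : ((Algebra.TensorProduct.comm R U S : TensorProduct R U S →+* TensorProduct R S U).comp
      (algebraMap U (TensorProduct R U S))).Flat :=
    (RingHom.flat_algebraMap_iff.2 inferInstance).comp
      (RingHom.Flat.of_bijective (Algebra.TensorProduct.comm R U S).bijective)
  refine RingHom.flat_algebraMap_iff.1 ?_
  convert h1.comp hμ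
  ext u
  simp [μ]

end AzInvLib
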