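import Groth.Agent.AzInvLib.Types
import Mathlib.RingTheory.Spectrum.Prime.Topology

/-! The orthogonal/symplectic sign as an idempotent of the fixed ring. -/

set_option autoImplicit false

namespace AzInvLib

universe u v w w'

open scoped TensorProduct
open IsLocalRing

variable {S : Type u} {R : Type v} [CommRing S] [CommRing R] [Algebra S R]
  {A : Type w} [Ring A] [Algebra S A] [Algebra R A] [IsScalarTower S R A]
  {A' : Type w'} [Ring A'] [Algebra S A'] [Algebra R A'] [IsScalarTower S R A']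

/-- The prime under a point. -/
def IsPoint.prime {T : Type u} [CommRing T] [Algebra S T] (hT : IsPoint S T) : PrimeSpectrum S :=
  haveI := hT.hens; ⟨(maximalIdeal T).comap (algebraMap S T), inferInstance⟩

theorem exists_point_at (p : PrimeSpectrum S) :
    ∃ (T : Type u) (_ : CommRing T) (_ : Algebra S T) (hT : IsPoint S T), hT.prime = p := by
  obtain ⟨T, _, _, hT, hp⟩ := exists_isPoint p
  exact ⟨T, inferInstance, inferInstance, hT, PrimeSpectrum.ext hp⟩

theorem exists_isOpen_iso [Module.Projective R A] [Module.Finite R A] [Module.Projective R A']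
    [Module.Finite R A'] {σ : A →ₗ[S] A} {σ' : A' →ₗ[S] A'} (μ : R → R)
    (hσ : ∀ r a, σ (r • a) = μ r • σ a) (hσ' : ∀ r a, σ' (r • a) = μ r • σ' a)
    {T : Type u} [CommRing T] [Algebra S T] (hT : IsPoint S T) (h : IsoOver R T σ σ') :
    ∃ O : Set (PrimeSpectrum S), IsOpen O ∧ hT.prime ∈ O ∧
      ∀ (T' : Type u) [CommRing T'] [Algebra S T'] (hT' : IsPoint S T'), hT'.prime ∈ O → IsoOver R T' σ σ' := by
  haveI := hT.hens; haveI := hT.flat
  obtain ⟨i⟩ := h
  obtain ⟨U, _, _, hE, ξ, ⟨j⟩⟩ := i.spread hT.cov μ hσ hσ'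
  haveI := hE
  refine ⟨Set.range (PrimeSpectrum.comap (algebraMap S U)),
    PrimeSpectrum.isOpenMap_comap_of_hasGoingDown_of_finitePresentation.isOpen_range,
    ⟨⟨(maximalIdeal T).comap (ξ : U →+* T), inferInstance⟩, PrimeSpectrum.ext ?_⟩,
    fun T' _ _ hT' hp => ?_⟩
  · rw [PrimeSpectrum.comap_asIdeal, Ideal.comap_comap, ξ.comp_algebraMap]
    rfl
  · obtain ⟨g⟩ := hT'.exists_hom (U := U) hp
    exact ⟨j.map g⟩

variable {lam : R ≃ₐ[S] R}

theorem not_unit_diff_at (hlam : ∀ r, lam (lam r) = r)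
    (hfix : RInv.IsFixedRing S R lam.toRingEquiv)
    {T : Type u} [CommRing T] [Algebra S T] (hT : IsPoint S T)
    (hcr : ∀ (r : R) (c : S), algebraMap S R c = (r - lam r) * (r - lam r) → c ∈ hT.prime.asIdeal)
    (a : T ⊗[S] R) :
    ¬ IsUnit (a - bcLam lam T a) := by
  haveI := hT.hens; haveI := hT.flat
  haveI := nontrivial (isFixedRing_bc T hlam hfix (Or.inl inferInstance))
  obtain ⟨q, hq⟩ := Ideal.exists_maximal (T ⊗[S] R)
  intro hu
  refine hq.ne_top (q.eq_top_of_isUnit_mem ?_ hu)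
  clear hu
  induction a with
  | zero => simp
  | add a b ha hb => rw [map_add, add_sub_add_comm]; exact add_mem ha hb
  | tmul s r =>
    have e : s ⊗ₜ[S] r - bcLam lam T (s ⊗ₜ[S] r) = (s ⊗ₜ[S] (1 : R)) * ((1 : T) ⊗ₜ[S] (r - lam r)) := by
      rw [bcLam_tmul, ← TensorProduct.tmul_sub, Algebra.TensorProduct.tmul_mul_tmul, mul_one, one_mul]
    rw [e]
    refine q.mul_mem_left _ ?_
    obtain ⟨c, hc⟩ : (r - lam r) * (r - lam r) ∈ Set.range (algebraMap S R) := (hfix.2 _).1 (by
      show lam _ = _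
      rw [map_mul, map_sub, hlam r]; ring)
    have h2 : algebraMap T (T ⊗[S] R) (algebraMap S T c) ∈ q := by
      rw [← Ideal.mem_comap, comap_maximal (bcLam_invol T hlam) (isFixedRing_bc T hlam hfix (Or.inl inferInstance)) q]
      exact hcr r c hc
    have e2 : algebraMap T (T ⊗[S] R) (algebraMap S T c) =
        ((1 : T) ⊗ₜ[S] (r - lam r)) * ((1 : T) ⊗ₜ[S] (r - lam r)) := by
      rw [Algebra.TensorProduct.tmul_mul_tmul, one_mul, ← hc, Algebra.TensorProduct.algebraMap_apply,
        Algebra.algebraMap_self_apply, Algebra.algebraMap_eq_smul_one, Algebra.algebraMap_eq_smul_one,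
        TensorProduct.smul_tmul]
    rw [e2] at h2
    exact (hq.isPrime.mem_or_mem h2).elim id id

theorem not_unit_diff_of_ramified (hlam : ∀ r, lam (lam r) = r)
    (hfix : RInv.IsFixedRing S R lam.toRingEquiv)
    (hram : ∀ p : PrimeSpectrum S,
      ¬ RInv.IsQuadEtale (Localization.AtPrime p.asIdeal) (Localization.AtPrime p.asIdeal ⊗[S] R))
    {T : Type u} [CommRing T] [Algebra S T] (hT : IsPoint S T) (a : T ⊗[S] R) :
    ¬ IsUnit (a - bcLam lam T a) :=
  not_unit_diff_at hlam hfix hT ((not_isQuadEtale_iff hT.prime.asIdeal hlam hfix).1 (hram hT.prime)) a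

theorem criterion_of_not_unit_diff (hlam : ∀ r, lam (lam r) = r)
    {T : Type u} [CommRing T] [Algebra S T] (hT : IsPoint S T)
    (hno : ∀ a : T ⊗[S] R, ¬ IsUnit (a - bcLam lam T a)) (r : R) (c : S)
    (hc : algebraMap S R c = (r - lam r) * (r - lam r)) : c ∈ hT.prime.asIdeal := by
  haveI := hT.hens
  by_contra hn
  refine hno ((1 : T) ⊗ₜ[S] r) (isUnit_of_mul_isUnit_left (y := (1 : T) ⊗ₜ[S] r - bcLam lam T ((1 : T) ⊗ₜ[S] r)) ?_)
  rw [bcLam_tmul, ← TensorProduct.tmul_sub, Algebra.TensorProduct.tmul_mul_tmul, one_mul, ← hc,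
    Algebra.algebraMap_eq_smul_one, TensorProduct.tmul_smul, TensorProduct.smul_tmul',
    ← Algebra.algebraMap_eq_smul_one]
  exact (notMem_maximalIdeal.1 hn).map (algebraMap T (T ⊗[S] R))

/-- The sign idempotent. -/
theorem exists_sign (hlam : ∀ r, lam (lam r) = r) (hfix : RInv.IsFixedRing S R lam.toRingEquiv)
    (h2 : IsUnit (2 : S))
    (hno : ∀ (T : Type u) [CommRing T] [Algebra S T], IsPoint S T → ∀ a : T ⊗[S] R, ¬ IsUnit (a - bcLam lam T a))
    {n : ℕ} (hn : 0 < n) (hA : AzInv.IsAzumayaDeg R A n) (t : AzInv.LamInv R A lam) :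
    ∃ ε : S, ε * ε = ε ∧ ∀ (T : Type u) [CommRing T] [Algebra S T], IsPoint S T →
      (algebraMap S T ε = 1 ∧ IsoOver R T (t.linS S lam) ((AzInv.LamInv.transpose lam (Fin n) hlam).linS S lam)) ∨
      (algebraMap S T ε = 0 ∧ ∃ m : ℕ, n = m * 2 ∧ IsoOver R T (t.linS S lam) ((negInv lam hlam (Fin m)).linS S lam)) := by
  obtain ⟨hP, hF⟩ := projective_finite hA
  haveI := hP; haveI := hF
  haveI : Nonempty (Fin n) := ⟨⟨0, hn⟩⟩
  have dich : ∀ (T : Type u) [CommRing T] [Algebra S T], IsPoint S T →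
      IsoOver R T (t.linS S lam) ((AzInv.LamInv.transpose lam (Fin n) hlam).linS S lam) ∨
        ∃ m : ℕ, n = m * 2 ∧ IsoOver R T (t.linS S lam) ((negInv lam hlam (Fin m)).linS S lam) := by
    intro T _ _ hT
    haveI := hT.hens; haveI := hT.sep; haveI := hT.flat
    have h2T : IsUnit (2 : T) := by simpa [map_ofNat] using h2.map (algebraMap S T)
    exact (exists_model_iso (T := T) hlam hfix (exists_sqrt_of_two h2T) hn hA (Or.inr (Or.inr h2T)) t).imp_right
      fun ⟨_, _, m, hm, hi⟩ => ⟨m, hm, hi⟩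
  have excl : ∀ (T : Type u) [CommRing T] [Algebra S T], IsPoint S T →
      IsoOver R T (t.linS S lam) ((AzInv.LamInv.transpose lam (Fin n) hlam).linS S lam) →
      ∀ m : ℕ, IsoOver R T (t.linS S lam) ((negInv lam hlam (Fin m)).linS S lam) → False := by
    intro T _ _ hT ⟨i⟩ m ⟨j⟩
    haveI := hT.hens; haveI := hT.sep; haveI := hT.flat
    exact not_iso_pos_neg (T := T) hlam hfix (hno T hT) (by simpa [map_ofNat] using h2.map (algebraMap S T))
      (ι := Fin n) (κ := Fin m) ⟨i.symm.trans j⟩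
  let P : Set (PrimeSpectrum S) := {p | ∀ (T : Type u) [CommRing T] [Algebra S T] (hT : IsPoint S T),
    hT.prime = p → IsoOver R T (t.linS S lam) ((AzInv.LamInv.transpose lam (Fin n) hlam).linS S lam)}
  have hsm : ∀ r a, t.linS S lam (r • a) = lam r • t.linS S lam a := fun r a => t.map_smul r a
  have mem_P : ∀ (T : Type u) [CommRing T] [Algebra S T] (hT : IsPoint S T),
      IsoOver R T (t.linS S lam) ((AzInv.LamInv.transpose lam (Fin n) hlam).linS S lam) → hT.prime ∈ P := by
    intro T _ _ hT h T' _ _ hT' hp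
    obtain ⟨O, -, hmem, hO⟩ := exists_isOpen_iso (fun r => lam r) hsm
      (fun r a => (AzInv.LamInv.transpose lam (Fin n) hlam).map_smul r a) hT h
    exact hO T' hT' (hp ▸ hmem)
  have hclo : IsClopen P := by
    refine ⟨isOpen_compl_iff.1 (isOpen_iff_forall_mem_open.2 fun p hp => ?_), isOpen_iff_forall_mem_open.2 fun p hp => ?_⟩
    · obtain ⟨T, _, _, hT, rfl⟩ := exists_point_at p
      obtain ⟨m, -, hneg⟩ := (dich T hT).resolve_left fun h => hp (mem_P T hT h)
      obtain ⟨O, hOo, hmem, hO⟩ := exists_isOpen_iso (fun r => lam r) hsm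
        (fun r a => (negInv lam hlam (Fin m)).map_smul r a) hT hneg
      refine ⟨O, fun q hq hqP => ?_, hOo, hmem⟩
      obtain ⟨T', _, _, hT', rfl⟩ := exists_point_at q
      exact excl T' hT' (hqP T' hT' rfl) m (hO T' hT' hq)
    · obtain ⟨T, _, _, hT, rfl⟩ := exists_point_at p
      obtain ⟨O, hOo, hmem, hO⟩ := exists_isOpen_iso (fun r => lam r) hsm
        (fun r a => (AzInv.LamInv.transpose lam (Fin n) hlam).map_smul r a) hT (hp T hT rfl)
      refine ⟨O, fun q hq T' _ _ hT' hq' => hO T' hT' (hq' ▸ hq), hOo, hmem⟩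
  obtain ⟨ε, hε, hPε⟩ := PrimeSpectrum.isClopen_iff.1 hclo
  refine ⟨ε, hε, fun T _ _ hT => ?_⟩
  haveI := hT.hens
  by_cases hu : ε ∈ hT.prime.asIdeal
  · right
    have h0 : algebraMap S T ε = 0 := by
      have hm : algebraMap S T ε ∈ maximalIdeal T := hu
      have h1 : IsUnit (1 - algebraMap S T ε) := notMem_maximalIdeal.1 fun h =>
        (maximalIdeal.isMaximal T).ne_top ((Ideal.eq_top_iff_one _).2 (by simpa using add_mem h hm))
      refine h1.mul_left_cancel ?_
      rw [mul_zero, sub_mul, one_mul, ← map_mul, hε, sub_self]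
    have hnP : hT.prime ∉ P := by
      rw [hPε]
      exact fun h => h hu
    exact ⟨h0, (dich T hT).resolve_left fun h => hnP (mem_P T hT h)⟩
  · left
    have h1 : algebraMap S T ε = 1 := by
      have hm : IsUnit (algebraMap S T ε) := notMem_maximalIdeal.1 hu
      refine hm.mul_left_cancel ?_
      rw [mul_one, ← map_mul, hε]
    have hmP : hT.prime ∈ P := by
      rw [hPε]
      exact hu
    exact ⟨h1, hmP T hT rfl⟩

end AzInvLib
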