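import Groth.Agent.AzInvLib.Base
import Groth.Agent.AzInvLib.Point
import Mathlib.RingTheory.Spectrum.Prime.Chevalley
import Mathlib.RingTheory.Smooth.Flat

/-! Spreading out from a point and gluing for the étale topology. -/

set_option autoImplicit false

namespace AzInvLib

universe u v w w'

open scoped TensorProduct
open IsLocalRing HenselLib

variable {S : Type u} [CommRing S] {T : Type u} [CommRing T] [Algebra S T]
  {M : Type w} [Ring M] [Algebra S M]

theorem exists_finset_range (z : T ⊗[S] M) :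
    ∃ F : Finset T, ∀ (U : Type u) [CommRing U] [Algebra S U] (ξ : U →ₐ[S] T),
      (∀ x ∈ F, x ∈ ξ.range) → ∃ z', gmap (A := M) ξ z' = z := by
  classical
  induction z with
  | zero => exact ⟨∅, fun U _ _ ξ _ => ⟨0, map_zero _⟩⟩
  | add a b ha hb =>
    obtain ⟨F, hF⟩ := ha
    obtain ⟨G, hG⟩ := hb
    refine ⟨F ∪ G, fun U _ _ ξ h => ?_⟩
    obtain ⟨a', ha'⟩ := hF U ξ fun x hx => h x (Finset.mem_union_left _ hx)
    obtain ⟨b', hb'⟩ := hG U ξ fun x hx => h x (Finset.mem_union_right _ hx)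
    exact ⟨a' + b', by rw [map_add, ha', hb']⟩
  | tmul t m =>
    refine ⟨{t}, fun U _ _ ξ h => ?_⟩
    obtain ⟨u, hu⟩ := h t (Finset.mem_singleton_self t)
    exact ⟨u ⊗ₜ m, by rw [gmap_tmul]; exact congrArg (· ⊗ₜ[S] m) hu⟩

theorem exists_finset_range_family {ι : Type*} [Finite ι] (z : ι → T ⊗[S] M) :
    ∃ F : Finset T, ∀ (U : Type u) [CommRing U] [Algebra S U] (ξ : U →ₐ[S] T),
      (∀ x ∈ F, x ∈ ξ.range) → ∀ i, ∃ z', gmap (A := M) ξ z' = z i := by
  classical
  cases nonempty_fintype ι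
  choose F hF using fun i => exists_finset_range (z i)
  exact ⟨Finset.univ.biUnion F, fun U _ _ ξ h i => hF i U ξ fun x hx =>
    h x (Finset.mem_biUnion.2 ⟨i, Finset.mem_univ i, hx⟩)⟩

theorem exists_kill [IsLocalRing T] [Module.Flat S T] {U : Type u} [CommRing U] [Algebra S U]
    [Algebra.Etale S U] (ξ : U →ₐ[S] T) (z : U ⊗[S] M) (hz : gmap ξ z = 0) :
    ∃ s : U, IsUnit (ξ s) ∧ s • z = 0 := by
  letI : Algebra U T := (ξ : U →+* T).toAlgebra
  haveI : IsScalarTower S U T := IsScalarTower.of_algebraMap_eq fun s => (ξ.commutes s).symm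
  haveI : Module.Flat U T := flat_of_etale' (R := S)
  let J : Ideal U := LinearMap.ker (LinearMap.toSpanSingleton U (U ⊗[S] M) z)
  by_contra hno
  push Not at hno
  have hJ : J ≤ (maximalIdeal T).comap (algebraMap U T) := fun s hs => by
    rw [Ideal.mem_comap, IsLocalRing.mem_maximalIdeal, mem_nonunits_iff]
    intro hu
    exact hno s hu (LinearMap.mem_ker.1 hs)
  let l : (U ⧸ J) →ₗ[U] U ⊗[S] M := Submodule.liftQ J (LinearMap.toSpanSingleton U _ z) le_rfl
  have hl : Function.Injective l := LinearMap.ker_eq_bot.1 (Submodule.ker_liftQ_eq_bot _ _ _ le_rfl)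
  have h1 := Module.Flat.lTensor_preserves_injective_linearMap (M := T) l hl
  have he : TensorProduct.AlgebraTensorModule.cancelBaseChange S U T T M ((1 : T) ⊗ₜ[U] z) = gmap ξ z := by
    clear hz hno hl h1 hJ l J
    induction z with
    | zero => simp
    | add a b ha hb => rw [TensorProduct.tmul_add, map_add, map_add, ha, hb]
    | tmul u m =>
      rw [TensorProduct.AlgebraTensorModule.cancelBaseChange_tmul, gmap_tmul, Algebra.smul_def, mul_one]
      rfl
  have h2 : (1 : T) ⊗ₜ[U] (Ideal.Quotient.mk J 1) = 0 := h1 (by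
    rw [map_zero, LinearMap.lTensor_tmul, show l (Ideal.Quotient.mk J 1) = z from
      (Submodule.liftQ_apply J _ (1 : U)).trans (one_smul U z)]
    exact (TensorProduct.AlgebraTensorModule.cancelBaseChange S U T T M).injective (by rw [map_zero, he, hz]))
  have h3 := congrArg (TensorProduct.tensorQuotEquivQuotSMul T J) h2
  rw [TensorProduct.tensorQuotEquivQuotSMul_tmul_mk, one_smul, map_zero, Submodule.Quotient.mk_eq_zero,
    Ideal.smul_top_eq_map, Submodule.restrictScalars_mem] at h3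
  exact (maximalIdeal.isMaximal T).ne_top ((Ideal.eq_top_iff_one _).2 (Ideal.map_le_iff_le_comap.2 hJ h3))

theorem exists_away_kill [IsLocalRing T] [Module.Flat S T] {U : Type u} [CommRing U] [Algebra S U]
    [Algebra.Etale S U] (ξ : U →ₐ[S] T) {ι : Type*} [Finite ι] (z : ι → U ⊗[S] M)
    (hz : ∀ i, gmap ξ (z i) = 0) :
    ∃ (V : Type u) (_ : CommRing V) (_ : Algebra S V) (_ : Algebra.Etale S V) (g : U →ₐ[S] V)
      (ξ' : V →ₐ[S] T), ξ'.comp g = ξ ∧ ∀ i, gmap g (z i) = 0 := by
  classical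
  cases nonempty_fintype ι
  choose s hs hs' using fun i => exists_kill ξ (z i) (hz i)
  let σ := ∏ i, s i
  have hσ : IsUnit (ξ σ) := by
    rw [map_prod]; exact IsUnit.prod_univ_iff.2 hs
  haveI : Algebra.Etale S (Localization.Away σ) := Algebra.Etale.comp S U (Localization.Away σ)
  refine ⟨Localization.Away σ, inferInstance, inferInstance, inferInstance, IsScalarTower.toAlgHom S U _,
    IsLocalization.Away.liftAlgHom σ (f := ξ) hσ, AlgHom.ext fun u => by simp, fun i => ?_⟩
  obtain ⟨c, hc⟩ := Finset.dvd_prod_of_mem s (Finset.mem_univ i)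
  have h := gmap_smul (A := M) (IsScalarTower.toAlgHom S U (Localization.Away σ)) σ (z i)
  rw [show σ • z i = 0 by rw [show σ = s i * c from hc, mul_comm, mul_smul, hs', smul_zero], map_zero] at h
  exact (IsLocalization.Away.algebraMap_isUnit (S := Localization.Away σ) σ).smul_eq_zero.1 h.symm

theorem gmap_gmap {U V W : Type u} [CommRing U] [Algebra S U] [CommRing V] [Algebra S V] [CommRing W]
    [Algebra S W] (g : U →ₐ[S] V) (g' : V →ₐ[S] W) (z : U ⊗[S] M) :
    gmap g' (gmap g z) = gmap (g'.comp g) z := by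
  induction z with
  | zero => simp
  | add a b ha hb => simp only [map_add, ha, hb]
  | tmul u m => rfl

section Iso

variable {R : Type v} [CommRing R] [Algebra S R]
  {A : Type w} [Ring A] [Algebra S A] [Algebra R A] [IsScalarTower S R A]
  {A' : Type w'} [Ring A'] [Algebra S A'] [Algebra R A'] [IsScalarTower S R A']

omit [IsScalarTower S R A] [IsScalarTower S R A'] in
theorem scalar_mul_comm (r : R) {U : Type u} [CommRing U] [Algebra S U] (z : U ⊗[S] A') :
    ((1 : U) ⊗ₜ[S] algebraMap R A' r) * z = z * ((1 : U) ⊗ₜ[S] algebraMap R A' r) := by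
  induction z with
  | zero => simp
  | add a b ha hb => rw [mul_add, add_mul, ha, hb]
  | tmul u m => simp [Algebra.commutes]

/-- An isomorphism at a point spreads out. -/
theorem Iso.spread [Module.Projective R A] [Module.Finite R A] [Module.Projective R A'] [Module.Finite R A']
    [IsLocalRing T] [Module.Flat S T] (hcov : ∀ x : T, EtCov (R := S) x)
    {σ : A →ₗ[S] A} {σ' : A' →ₗ[S] A'} (μ : R → R) (hσ : ∀ r a, σ (r • a) = μ r • σ a)
    (hσ' : ∀ r a, σ' (r • a) = μ r • σ' a) (i : Iso T σ σ' R) :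
    ∃ (U : Type u) (_ : CommRing U) (_ : Algebra S U) (_ : Algebra.Etale S U) (_ : U →ₐ[S] T),
      IsoOver R U σ σ' := by
  classical
  obtain ⟨n, p, g, -, -, hpg⟩ := Module.Finite.exists_comp_eq_id_of_projective R A
  obtain ⟨n', p', g', -, -, hpg'⟩ := Module.Finite.exists_comp_eq_id_of_projective R A'
  let a : Fin n → A := fun k => p (Pi.single k 1)
  let a' : Fin n' → A' := fun k => p' (Pi.single k 1)
  have ha : ∀ x, ∑ k, g x k • a k = x := fun x => by
    conv_rhs => rw [← LinearMap.id_apply (R := R) x, ← hpg, LinearMap.comp_apply, pi_eq_sum_univ' (g x), map_sum]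
    exact Finset.sum_congr rfl fun k _ => (map_smul p _ _).symm
  have ha' : ∀ x, ∑ k, g' x k • a' k = x := fun x => by
    conv_rhs => rw [← LinearMap.id_apply (R := R) x, ← hpg', LinearMap.comp_apply, pi_eq_sum_univ' (g' x), map_sum]
    exact Finset.sum_congr rfl fun k _ => (map_smul p' _ _).symm
  obtain ⟨F, hF⟩ := exists_finset_range_family (fun k => i.hom (a k))
  obtain ⟨F', hF'⟩ := exists_finset_range_family (fun k => i.inv (a' k))
  obtain ⟨U, _, _, _, ξ, hξ⟩ := exists_etale_cover (F ∪ F') fun x _ => hcov x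
  choose b hb using hF U ξ fun x hx => hξ x (Finset.mem_union_left _ hx)
  choose b' hb' using hF' U ξ fun x hx => hξ x (Finset.mem_union_right _ hx)
  let h0 : A → U ⊗[S] A' := fun x => ∑ k, ((1 : U) ⊗ₜ[S] algebraMap R A' (g x k)) * b k
  let k0 : A' → U ⊗[S] A := fun x => ∑ k, ((1 : U) ⊗ₜ[S] algebraMap R A (g' x k)) * b' k
  have hg0 : ∀ x, gmap ξ (h0 x) = i.hom x := fun x => by
    conv_rhs => rw [← ha x, map_sum]
    rw [map_sum]
    refine Finset.sum_congr rfl fun k _ => ?_
    rw [map_mul, hb, gmap_tmul, map_one, Algebra.smul_def, map_mul, i.scal]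
  have hk0 : ∀ x, gmap ξ (k0 x) = i.inv x := fun x => by
    conv_rhs => rw [← ha' x, map_sum]
    rw [map_sum]
    refine Finset.sum_congr rfl fun k _ => ?_
    rw [map_mul, hb', gmap_tmul, map_one, Algebra.smul_def, map_mul,
      show i.inv (algebraMap R A' (g' x k)) = _ from i.symm.scal (g' x k)]
  obtain ⟨V, _, _, _, gV, ξ', hξ', hkill⟩ := exists_away_kill ξ
    (M := A') (Sum.elim (fun _ : Unit => h0 1 - 1) (Sum.elim
      (fun kl : Fin n × Fin n => h0 (a kl.1 * a kl.2) - h0 (a kl.1) * h0 (a kl.2))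
      (fun k => h0 (σ (a k)) - σ'.lTensor U (h0 (a k))))) (by
      rintro (⟨⟩ | ⟨k, l⟩ | k)
      · simp [hg0]
      · simp [hg0]
      · simp [hg0, gmap_lTensor, i.inter])
  obtain ⟨W, _, _, _, gW, ξ'', hξ'', hkill'⟩ := exists_away_kill ξ'
    (M := A) (Sum.elim (fun _ : Unit => gmap gV (k0 1) - 1)
      (fun kl : Fin n' × Fin n' => gmap gV (k0 (a' kl.1 * a' kl.2)) - gmap gV (k0 (a' kl.1)) * gmap gV (k0 (a' kl.2)))) (by
      rintro (⟨⟩ | ⟨k, l⟩) <;> simp [gmap_gmap, hξ', hk0])
  let G := gW.comp gV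
  have hG : ξ''.comp G = ξ := by rw [← hξ', ← hξ'']; rfl
  have h0s : ∀ r x, gmap G (h0 (r • x)) = ((1 : W) ⊗ₜ[S] algebraMap R A' r) * gmap G (h0 x) := fun r x => by
    simp only [h0, map_sum, Finset.mul_sum, map_smul, Pi.smul_apply, smul_eq_mul]
    refine Finset.sum_congr rfl fun k _ => ?_
    rw [map_mul (gmap G), map_mul (gmap G), gmap_tmul, gmap_tmul, map_one, ← mul_assoc,
      Algebra.TensorProduct.tmul_mul_tmul, one_mul, map_mul]
  have k0s : ∀ r x, gmap G (k0 (r • x)) = ((1 : W) ⊗ₜ[S] algebraMap R A r) * gmap G (k0 x) := fun r x => by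
    simp only [k0, map_sum, Finset.mul_sum, map_smul, Pi.smul_apply, smul_eq_mul]
    refine Finset.sum_congr rfl fun k _ => ?_
    rw [map_mul (gmap G), map_mul (gmap G), gmap_tmul, gmap_tmul, map_one, ← mul_assoc,
      Algebra.TensorProduct.tmul_mul_tmul, one_mul, map_mul]
  have hadd : ∀ x y, gmap G (h0 (x + y)) = gmap G (h0 x) + gmap G (h0 y) := fun x y => by
    rw [← map_add]; congr 1
    simp [h0, map_add, add_mul, TensorProduct.tmul_add, Finset.sum_add_distrib]
  have kadd : ∀ x y, gmap G (k0 (x + y)) = gmap G (k0 x) + gmap G (k0 y) := fun x y => by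
    rw [← map_add]; congr 1
    simp [k0, map_add, add_mul, TensorProduct.tmul_add, Finset.sum_add_distrib]
  have hV : ∀ {z : U ⊗[S] A'}, gmap gV z = 0 → gmap G z = 0 := fun {z} hz => by
    rw [← gmap_gmap, hz, map_zero]
  have h1 : gmap G (h0 1) = 1 := by
    have := hV (hkill (Sum.inl ()))
    rwa [Sum.elim_inl, map_sub, map_one, sub_eq_zero] at this
  have k1 : gmap G (k0 1) = 1 := by
    have := hkill' (Sum.inl ())
    rwa [Sum.elim_inl, map_sub, map_one, sub_eq_zero, gmap_gmap] at this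
  let hL : A →+ W ⊗[S] A' := AddMonoidHom.mk' (fun x => gmap G (h0 x)) hadd
  let kL : A' →+ W ⊗[S] A := AddMonoidHom.mk' (fun x => gmap G (k0 x)) kadd
  have hmul : ∀ x y, hL (x * y) = hL x * hL y := by
    have h2 : ∀ k l, hL (a k * a l) = hL (a k) * hL (a l) := fun k l => by
      have := hV (hkill (Sum.inr (Sum.inl (k, l))))
      rwa [Sum.elim_inr, Sum.elim_inl, map_sub, sub_eq_zero, map_mul (gmap G)] at this
    intro x y
    conv_lhs => rw [← ha x, ← ha y, Finset.sum_mul_sum]
    conv_rhs => rw [← ha x, ← ha y]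
    simp only [map_sum, Finset.sum_mul_sum, smul_mul_smul_comm]
    refine Finset.sum_congr rfl fun k _ => Finset.sum_congr rfl fun l _ => ?_
    have e : ∀ r x, hL (r • x) = ((1 : W) ⊗ₜ[S] algebraMap R A' r) * hL x := h0s
    rw [e, e, e, h2, map_mul (algebraMap R A'), ← one_mul (1 : W), ← Algebra.TensorProduct.tmul_mul_tmul,
      one_mul, mul_assoc, mul_assoc, ← mul_assoc (hL (a k)), ← scalar_mul_comm (g y l) (hL (a k)), mul_assoc]
  have kmul : ∀ x y, kL (x * y) = kL x * kL y := by
    have h2 : ∀ k l, kL (a' k * a' l) = kL (a' k) * kL (a' l) := fun k l => by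
      have := hkill' (Sum.inr (k, l))
      rwa [Sum.elim_inr, map_sub, sub_eq_zero, map_mul (gmap gW), gmap_gmap, gmap_gmap, gmap_gmap] at this
    intro x y
    conv_lhs => rw [← ha' x, ← ha' y, Finset.sum_mul_sum]
    conv_rhs => rw [← ha' x, ← ha' y]
    simp only [map_sum, Finset.sum_mul_sum, smul_mul_smul_comm]
    refine Finset.sum_congr rfl fun k _ => Finset.sum_congr rfl fun l _ => ?_
    have e : ∀ r x, kL (r • x) = ((1 : W) ⊗ₜ[S] algebraMap R A r) * kL x := k0s
    rw [e, e, e, h2, map_mul (algebraMap R A), ← one_mul (1 : W), ← Algebra.TensorProduct.tmul_mul_tmul,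
      one_mul, mul_assoc, mul_assoc, ← mul_assoc (kL (a' k)), ← scalar_mul_comm (g' y l) (kL (a' k)), mul_assoc]
  have hsc : ∀ r, hL (algebraMap R A r) = (1 : W) ⊗ₜ[S] algebraMap R A' r := fun r => by
    rw [Algebra.algebraMap_eq_smul_one]
    show gmap G (h0 (r • 1)) = _
    rw [h0s, h1, mul_one, Algebra.algebraMap_eq_smul_one]
  have ksc : ∀ r, kL (algebraMap R A' r) = (1 : W) ⊗ₜ[S] algebraMap R A r := fun r => by
    rw [Algebra.algebraMap_eq_smul_one]
    show gmap G (k0 (r • 1)) = _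
    rw [k0s, k1, mul_one, Algebra.algebraMap_eq_smul_one]
  let hH : A →ₐ[S] W ⊗[S] A' :=
    { toFun := hL, map_one' := h1, map_mul' := hmul, map_zero' := map_zero hL, map_add' := map_add hL
      commutes' := fun s => by
        rw [IsScalarTower.algebraMap_apply S R A, hsc, ← IsScalarTower.algebraMap_apply,
          Algebra.TensorProduct.algebraMap_apply', ] }
  let kH : A' →ₐ[S] W ⊗[S] A :=
    { toFun := kL, map_one' := k1, map_mul' := kmul, map_zero' := map_zero kL, map_add' := map_add kL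
      commutes' := fun s => by
        rw [IsScalarTower.algebraMap_apply S R A', ksc, ← IsScalarTower.algebraMap_apply,
          Algebra.TensorProduct.algebraMap_apply', ] }
  have hH' : (gmap ξ'').comp hH = i.hom := AlgHom.ext fun x => by
    show gmap ξ'' (gmap G (h0 x)) = _
    rw [gmap_gmap, hG, hg0]
  have kH' : (gmap ξ'').comp kH = i.inv := AlgHom.ext fun x => by
    show gmap ξ'' (gmap G (k0 x)) = _
    rw [gmap_gmap, hG, hk0]
  have hE : ∀ r z, ext hH (((1 : W) ⊗ₜ[S] algebraMap R A r) * z) = ((1 : W) ⊗ₜ[S] algebraMap R A' r) * ext hH z :=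
    fun r z => by rw [map_mul, ext_one_tmul]; exact congrArg (· * _) (hsc r)
  have kE : ∀ r z, ext kH (((1 : W) ⊗ₜ[S] algebraMap R A' r) * z) = ((1 : W) ⊗ₜ[S] algebraMap R A r) * ext kH z :=
    fun r z => by rw [map_mul, ext_one_tmul]; exact congrArg (· * _) (ksc r)
  obtain ⟨X, _, _, _, gX, ξX, hξX, hk⟩ := exists_away_kill ξ''
    (M := A') (fun k => ext hH (kH (a' k)) - (1 : W) ⊗ₜ[S] a' k) (fun k => by
      rw [map_sub, gmap_ext, gmap_tmul, map_one, hH', sub_eq_zero,
        show gmap ξ'' (kH (a' k)) = i.inv (a' k) from congrArg (fun f : A' →ₐ[S] T ⊗[S] A => f (a' k)) kH', i.hom_inv])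
  obtain ⟨Y, _, _, _, gY, ξY, hξY, hk'⟩ := exists_away_kill ξX
    (M := A) (fun k => gmap gX (ext kH (hH (a k)) - (1 : W) ⊗ₜ[S] a k)) (fun k => by
      rw [gmap_gmap, hξX, map_sub, gmap_ext, gmap_tmul, map_one, kH', sub_eq_zero,
        show gmap ξ'' (hH (a k)) = i.hom (a k) from congrArg (fun f : A →ₐ[S] T ⊗[S] A' => f (a k)) hH', i.inv_hom])
  refine ⟨Y, inferInstance, inferInstance, inferInstance, ξY,
    ⟨{ hom := (gmap (gY.comp gX)).comp hH, inv := (gmap (gY.comp gX)).comp kH, hom_inv := fun x => ?_,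
       inv_hom := fun x => ?_, scal := fun r => ?_, inter := fun x => ?_ }⟩⟩
  · have hlin : ext hH (kH x) = ∑ k, ((1 : W) ⊗ₜ[S] algebraMap R A' (g' x k)) * ext hH (kH (a' k)) := by
      conv_lhs => rw [← ha' x]
      simp only [map_sum]
      refine Finset.sum_congr rfl fun k _ => ?_
      rw [Algebra.smul_def, map_mul, map_mul (ext hH), ← hE, map_mul (ext hH)]
      exact congrArg (fun z => ext hH z * _) (ksc _)
    show ext ((gmap (gY.comp gX)).comp hH) (gmap (gY.comp gX) (kH x)) = _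
    rw [← gmap_ext, hlin, map_sum]
    conv_rhs => rw [← ha' x, TensorProduct.tmul_sum]
    refine Finset.sum_congr rfl fun k _ => ?_
    have h := hk k
    rw [map_sub, sub_eq_zero] at h
    rw [map_mul, ← gmap_gmap gX gY (ext hH _), h, gmap_gmap, gmap_tmul, gmap_tmul, map_one,
      Algebra.TensorProduct.tmul_mul_tmul, one_mul, Algebra.smul_def]
  · have hlin : ext kH (hH x) = ∑ k, ((1 : W) ⊗ₜ[S] algebraMap R A (g x k)) * ext kH (hH (a k)) := by
      conv_lhs => rw [← ha x]
      simp only [map_sum]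
      refine Finset.sum_congr rfl fun k _ => ?_
      rw [Algebra.smul_def, map_mul, map_mul (ext kH), ← kE, map_mul (ext kH)]
      exact congrArg (fun z => ext kH z * _) (hsc _)
    show ext ((gmap (gY.comp gX)).comp kH) (gmap (gY.comp gX) (hH x)) = _
    rw [← gmap_ext, hlin, map_sum]
    conv_rhs => rw [← ha x, TensorProduct.tmul_sum]
    refine Finset.sum_congr rfl fun k _ => ?_
    have h := hk' k
    rw [gmap_gmap, map_sub, sub_eq_zero] at h
    rw [map_mul, h, gmap_tmul, gmap_tmul, map_one,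
      Algebra.TensorProduct.tmul_mul_tmul, one_mul, Algebra.smul_def]
  · show gmap (gY.comp gX) (hL (algebraMap R A r)) = _
    rw [hsc, gmap_tmul, map_one]
  · show gmap (gY.comp gX) (hL (σ x)) = _
    rw [show (((gmap (gY.comp gX)).comp hH) x) = gmap (gY.comp gX) (hL x) from rfl, ← gmap_lTensor]
    congr 1
    have h2 : ∀ k, hL (σ (a k)) = σ'.lTensor W (hL (a k)) := fun k => by
      have := hV (hkill (Sum.inr (Sum.inr k)))
      rwa [Sum.elim_inr, Sum.elim_inr, map_sub, gmap_lTensor, sub_eq_zero] at this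
    have h3 : ∀ r (z : W ⊗[S] A'), σ'.lTensor W (((1 : W) ⊗ₜ[S] algebraMap R A' r) * z) =
        ((1 : W) ⊗ₜ[S] algebraMap R A' (μ r)) * σ'.lTensor W z := fun r z => by
      induction z with
      | zero => simp
      | add p q hp hq => simp only [mul_add, map_add, hp, hq]
      | tmul w m => simp [← Algebra.smul_def, hσ']
    conv_lhs => rw [← ha x]
    conv_rhs => rw [← ha x]
    simp only [map_sum]
    refine Finset.sum_congr rfl fun k _ => ?_
    rw [hσ]
    show gmap G (h0 _) = σ'.lTensor W (gmap G (h0 _))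
    rw [h0s, h0s, h3]
    exact congrArg (_ * ·) (h2 k)

theorem exists_cover_of_forall (P : ∀ (U : Type u) [CommRing U] [Algebra S U], Prop)
    (h : ∀ p : PrimeSpectrum S, ∃ (U : Type u) (_ : CommRing U) (_ : Algebra S U) (_ : Algebra.Etale S U),
      p ∈ Set.range (PrimeSpectrum.comap (algebraMap S U)) ∧ P U) :
    ∃ (m : ℕ) (U : Fin m → Type u) (_ : ∀ i, CommRing (U i)) (_ : ∀ i, Algebra S (U i))
      (_ : ∀ i, Algebra.Etale S (U i)), Module.FaithfullyFlat S (∀ i, U i) ∧ ∀ i, P (U i) := by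
  choose U instR instA hE hp hP using h
  have hopen : ∀ p, IsOpen (Set.range (PrimeSpectrum.comap (algebraMap S (U p)))) := fun p => by
    haveI := hE p
    exact PrimeSpectrum.isOpenMap_comap_of_hasGoingDown_of_finitePresentation.isOpen_range
  obtain ⟨s, hs⟩ := isCompact_univ.elim_finite_subcover _ hopen
    (fun p _ => Set.mem_iUnion.2 ⟨p, hp p⟩)
  let e := s.equivFin.symm
  haveI : ∀ k, Algebra.Etale S (U (e k).1) := fun k => hE _
  refine ⟨s.card, fun k => U (e k).1, inferInstance, inferInstance, inferInstance,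
    Module.FaithfullyFlat.of_comap_surjective fun p => ?_, fun k => hP _⟩
  obtain ⟨q, hq, Q, hQ⟩ := Set.mem_iUnion₂.1 (hs (Set.mem_univ p))
  obtain ⟨k, hk⟩ := e.surjective ⟨q, hq⟩
  have hk' : q = (e k).1 := by rw [hk]
  subst hk'
  refine ⟨PrimeSpectrum.comap (Pi.evalRingHom (fun k => U (e k).1) k) Q, ?_⟩
  rw [← hQ]
  rfl

end Iso

end AzInvLib
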