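import Mathlib.RingTheory.Localization.Away.Basic
import Mathlib.RingTheory.Localization.AtPrime.Basic
import Mathlib.RingTheory.Localization.BaseChange
import Mathlib.Algebra.Module.LocalizedModule.Int
import Mathlib.RingTheory.TensorProduct.Maps
import Mathlib.RingTheory.MvPolynomial.Basic
import Mathlib.LinearAlgebra.Matrix.NonsingularInverse
import Mathlib.Data.Fintype.BigOperators

/-! Spreading congruences of matrices from a local ring of the base to a basic open set. -/

set_option autoImplicit false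

namespace AzInvLib.SpreadAway

universe u v

open scoped TensorProduct

variable {B : Type u} [CommRing B] {A : Type v} [CommRing A] [Algebra B A] (lam : A ≃ₐ[B] A)

/-- Invertible matrices over `C ⊗ A` congruating `h` to `h'`. -/
def Congr {n : ℕ} (h h' : Matrix (Fin n) (Fin n) A) (C : Type u) [CommRing C] [Algebra B C] : Prop :=
  ∃ v : Matrix (Fin n) (Fin n) (C ⊗[B] A), IsUnit v ∧
    (v.map (Algebra.TensorProduct.congr (AlgEquiv.refl : C ≃ₐ[C] C) lam)).transpose *
      h.map (Algebra.TensorProduct.includeRight : A →ₐ[B] C ⊗[B] A) * v =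
      h'.map (Algebra.TensorProduct.includeRight : A →ₐ[B] C ⊗[B] A)

/-- The map on tensor products induced by an algebra map. -/
noncomputable def tmap {U V : Type u} [CommRing U] [Algebra B U] [CommRing V] [Algebra B V]
    (φ : U →ₐ[B] V) : U ⊗[B] A →ₐ[B] V ⊗[B] A :=
  Algebra.TensorProduct.map φ (AlgHom.id B A)

theorem tmap_lam {U V : Type u} [CommRing U] [Algebra B U] [CommRing V] [Algebra B V]
    (φ : U →ₐ[B] V) (z : U ⊗[B] A) :
    tmap φ (Algebra.TensorProduct.congr (AlgEquiv.refl : U ≃ₐ[U] U) lam z) =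
      Algebra.TensorProduct.congr (AlgEquiv.refl : V ≃ₐ[V] V) lam (tmap φ z) := by
  induction z with
  | zero => simp
  | add a b ha hb => simp only [map_add, ha, hb]
  | tmul s r => simp [tmap]

theorem tmap_includeRight {U V : Type u} [CommRing U] [Algebra B U] [CommRing V] [Algebra B V]
    (φ : U →ₐ[B] V) (a : A) :
    tmap φ ((Algebra.TensorProduct.includeRight : A →ₐ[B] U ⊗[B] A) a) =
      (Algebra.TensorProduct.includeRight : A →ₐ[B] V ⊗[B] A) a := by
  simp [tmap]

theorem congr_smul {U : Type u} [CommRing U] [Algebra B U] (c : B) (z : U ⊗[B] A) :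
    Algebra.TensorProduct.congr (AlgEquiv.refl : U ≃ₐ[U] U) lam (c • z) =
      c • Algebra.TensorProduct.congr (AlgEquiv.refl : U ≃ₐ[U] U) lam z := by
  induction z with
  | zero => simp
  | add a b ha hb => simp only [smul_add, map_add, ha, hb]
  | tmul s r => simp [TensorProduct.smul_tmul']

section Clear

variable {S : Submonoid B} {U V : Type u} [CommRing U] [Algebra B U] [CommRing V] [Algebra B V]
  {φ : U →ₐ[B] V} [IsLocalizedModule S φ.toLinearMap]

omit lam in
theorem localized_tmap : IsLocalizedModule S (tmap (A := A) φ).toLinearMap := by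
  have h := IsLocalizedModule.rTensor (R := B) B (N := A) S φ.toLinearMap
  have he : (tmap (A := A) φ).toLinearMap =
      TensorProduct.AlgebraTensorModule.rTensor B A φ.toLinearMap := by
    ext s r
    simp [tmap]
  rw [he]
  exact h

omit lam in
theorem matrix_lift {n : ℕ} (v : Matrix (Fin n) (Fin n) (V ⊗[B] A)) :
    ∃ m ∈ S, ∃ y : Matrix (Fin n) (Fin n) (U ⊗[B] A), y.map (tmap φ) = m • v := by
  classical
  haveI := localized_tmap (A := A) (S := S) (φ := φ)
  obtain ⟨m, hm⟩ := IsLocalizedModule.exist_integer_multiples S (tmap (A := A) φ).toLinearMap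
    (Finset.univ : Finset (Fin n × Fin n)) (fun ij => v ij.1 ij.2)
  choose y hy using fun ij : Fin n × Fin n => hm ij (Finset.mem_univ ij)
  refine ⟨m, m.2, Matrix.of fun i j => y (i, j), ?_⟩
  ext i j
  exact hy (i, j)

omit lam in
theorem matrix_eq {n : ℕ} {X Y : Matrix (Fin n) (Fin n) (U ⊗[B] A)}
    (h : X.map (tmap φ) = Y.map (tmap φ)) : ∃ c ∈ S, c • X = c • Y := by
  classical
  haveI := localized_tmap (A := A) (S := S) (φ := φ)
  choose c hc using fun ij : Fin n × Fin n => IsLocalizedModule.exists_of_eq (S := S)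
    (f := (tmap (A := A) φ).toLinearMap) (x₁ := X ij.1 ij.2) (x₂ := Y ij.1 ij.2)
    (congrFun (congrFun h ij.1) ij.2)
  refine ⟨∏ ij, (c ij : B), Submonoid.prod_mem _ fun ij _ => (c ij).2, ?_⟩
  ext i j
  obtain ⟨d, hd⟩ := Finset.dvd_prod_of_mem (fun ij => (c ij : B)) (Finset.mem_univ (i, j))
  rw [Matrix.smul_apply, Matrix.smul_apply, hd, mul_comm, mul_smul, mul_smul]
  exact congrArg (d • ·) (hc (i, j))

/-- A congruence over a localised algebra is defined away from one denominator. -/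
theorem exists_congr_of_localized (φ : U →ₐ[B] V) [IsLocalizedModule S φ.toLinearMap] {n : ℕ}
    {h h' : Matrix (Fin n) (Fin n) A}
    (hV : Congr lam h h' V) :
    ∃ b ∈ S, ∀ (C : Type u) [CommRing C] [Algebra B C] (_ : U →ₐ[B] C),
      IsUnit (algebraMap B C b) → Congr lam h h' C := by
  classical
  obtain ⟨v, hv, heq⟩ := hV
  obtain ⟨vu, rfl⟩ := hv
  obtain ⟨m, hm, y, hy⟩ := matrix_lift (S := S) (φ := φ) (vu : Matrix (Fin n) (Fin n) (V ⊗[B] A))
  obtain ⟨m', hm', y', hy'⟩ :=
    matrix_lift (S := S) (φ := φ) (↑(vu⁻¹) : Matrix (Fin n) (Fin n) (V ⊗[B] A))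
  let T : Matrix (Fin n) (Fin n) (U ⊗[B] A) →+* Matrix (Fin n) (Fin n) (V ⊗[B] A) :=
    (tmap φ : U ⊗[B] A →ₐ[B] V ⊗[B] A).toRingHom.mapMatrix
  have hT1 : ((y * y')).map (tmap φ) = ((m * m') • (1 : Matrix (Fin n) (Fin n) (U ⊗[B] A))).map (tmap φ) := by
    rw [Matrix.map_mul, hy, hy', Matrix.smul_mul, Matrix.mul_smul, Units.mul_inv, smul_smul]
    ext i j
    simp [Matrix.map_apply, Matrix.one_apply, apply_ite (tmap (A := A) φ)]
  obtain ⟨c, hc, hc1⟩ := matrix_eq (S := S) (φ := φ) hT1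
  let L : U ⊗[B] A → U ⊗[B] A := Algebra.TensorProduct.congr (AlgEquiv.refl : U ≃ₐ[U] U) lam
  let hU := h.map (Algebra.TensorProduct.includeRight : A →ₐ[B] U ⊗[B] A)
  let hU' := h'.map (Algebra.TensorProduct.includeRight : A →ₐ[B] U ⊗[B] A)
  have hT2 : ((y.map L).transpose * hU * y).map (tmap φ) = ((m * m) • hU').map (tmap φ) := by
    have h1 : (y.map L).map (tmap φ) =
        m • (vu : Matrix (Fin n) (Fin n) (V ⊗[B] A)).map
          (Algebra.TensorProduct.congr (AlgEquiv.refl : V ≃ₐ[V] V) lam) := by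
      ext i j
      have := congrFun (congrFun hy i) j
      simp only [Matrix.map_apply, Matrix.smul_apply] at this ⊢
      rw [tmap_lam, this, congr_smul]
    have h2 : hU.map (tmap φ) = h.map (Algebra.TensorProduct.includeRight : A →ₐ[B] V ⊗[B] A) := by
      ext i j
      exact tmap_includeRight φ (h i j)
    have h3 : ((m * m) • hU').map (tmap φ) =
        (m * m) • h'.map (Algebra.TensorProduct.includeRight : A →ₐ[B] V ⊗[B] A) := by
      ext i j
      simp only [Matrix.map_apply, Matrix.smul_apply, map_smul, hU', tmap_includeRight]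
    rw [Matrix.map_mul, Matrix.map_mul, Matrix.transpose_map, h1, h2, hy, h3, Matrix.transpose_smul,
      Matrix.smul_mul, Matrix.smul_mul, Matrix.mul_smul, heq, smul_smul]
  obtain ⟨c', hc', hc2⟩ := matrix_eq (S := S) (φ := φ) hT2
  refine ⟨m * m' * c * c', mul_mem (mul_mem (mul_mem hm hm') hc) hc', fun C _ _ ψ hb => ?_⟩
  rw [map_mul, map_mul, map_mul, IsUnit.mul_iff, IsUnit.mul_iff, IsUnit.mul_iff] at hb
  obtain ⟨⟨⟨hbm, hbm'⟩, hbc⟩, hbc'⟩ := hb
  have cancel : ∀ (d : B), IsUnit (algebraMap B C d) → ∀ X Y : Matrix (Fin n) (Fin n) (C ⊗[B] A),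
      d • X = d • Y → X = Y := by
    intro d hd X Y hXY
    ext i j
    have := congrFun (congrFun hXY i) j
    simp only [Matrix.smul_apply] at this
    rw [← algebraMap_smul C d (X i j), ← algebraMap_smul C d (Y i j)] at this
    exact hd.smul_left_cancel.1 this
  have push : ∀ (d : B) (X : Matrix (Fin n) (Fin n) (U ⊗[B] A)),
      (d • X).map (tmap ψ) = d • X.map (tmap ψ) := by
    intro d X
    ext i j
    simp [Matrix.map_apply]
  obtain ⟨w, hw⟩ := hbm
  let vC : Matrix (Fin n) (Fin n) (C ⊗[B] A) := (↑w⁻¹ : C) • y.map (tmap ψ)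
  have hyv : y.map (tmap ψ) = m • vC := by
    ext i j
    show y.map (tmap ψ) i j = m • ((↑w⁻¹ : C) • y.map (tmap ψ) i j)
    rw [← algebraMap_smul C m ((↑w⁻¹ : C) • y.map (tmap ψ) i j), ← hw, smul_smul, Units.mul_inv,
      one_smul]
  refine ⟨vC, ?_, ?_⟩
  · have h1 : c • ((m * m') • (1 : Matrix (Fin n) (Fin n) (C ⊗[B] A))) =
        c • (m • (vC * y'.map (tmap ψ))) := by
      have := congrArg (fun X : Matrix (Fin n) (Fin n) (U ⊗[B] A) => X.map (tmap ψ)) hc1
      simp only [push, Matrix.map_mul] at this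
      rw [Matrix.map_one _ (map_zero _) (map_one _), hyv, Matrix.smul_mul] at this
      exact this.symm
    have h2 := cancel c hbc _ _ h1
    rw [mul_smul] at h2
    have h3 := cancel m ⟨w, hw⟩ _ _ h2
    obtain ⟨w', hw'⟩ := hbm'
    refine IsUnit.of_mul_eq_one ((↑w'⁻¹ : C) • y'.map (tmap ψ)) ?_
    rw [Matrix.mul_smul, ← h3]
    ext i j
    rw [Matrix.smul_apply, Matrix.smul_apply, ← algebraMap_smul C m', ← hw', smul_smul, Units.inv_mul,
      one_smul]
  · have h1 := congrArg (fun X : Matrix (Fin n) (Fin n) (U ⊗[B] A) => X.map (tmap ψ)) hc2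
    simp only [push, Matrix.map_mul, Matrix.transpose_map] at h1
    have h2 := cancel c' hbc' _ _ h1
    have hL : (y.map L).map (tmap ψ) =
        m • vC.map (Algebra.TensorProduct.congr (AlgEquiv.refl : C ≃ₐ[C] C) lam) := by
      ext i j
      have := congrFun (congrFun hyv i) j
      simp only [Matrix.map_apply, Matrix.smul_apply] at this ⊢
      rw [tmap_lam, this, congr_smul]
    have hh : hU.map (tmap ψ) = h.map (Algebra.TensorProduct.includeRight : A →ₐ[B] C ⊗[B] A) := by
      ext i j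
      exact tmap_includeRight ψ (h i j)
    have hh' : hU'.map (tmap ψ) = h'.map (Algebra.TensorProduct.includeRight : A →ₐ[B] C ⊗[B] A) := by
      ext i j
      exact tmap_includeRight ψ (h' i j)
    rw [hL, hh, hh', hyv, Matrix.transpose_smul, Matrix.smul_mul, Matrix.smul_mul, Matrix.mul_smul,
      mul_smul] at h2
    exact cancel m ⟨w, hw⟩ _ _ (cancel m ⟨w, hw⟩ _ _ h2)

end Clear

section Loc

variable {S : Submonoid B} {R R' : Type u} [CommRing R] [Algebra B R] [CommRing R'] [Algebra B R']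
  {π : R →ₐ[B] R'}

omit lam in
/-- Localisations away from corresponding elements. -/
theorem localized_away [hπ : IsLocalizedModule S π.toLinearMap] (a : R) (f : R') {m : B} (hm : m ∈ S)
    (hf : π a = m • f) (U V : Type u) [CommRing U] [Algebra B U] [Algebra R U] [IsScalarTower B R U]
    [IsLocalization.Away a U] [CommRing V] [Algebra B V] [Algebra R' V] [IsScalarTower B R' V]
    [IsLocalization.Away f V] :
    ∃ φ : U →ₐ[B] V, IsLocalizedModule S φ.toLinearMap := by
  have hS : ∀ c ∈ S, IsUnit (algebraMap B V c) := by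
    intro c hc
    have h := IsLocalizedModule.map_units π.toLinearMap ⟨c, hc⟩
    obtain ⟨x, hx⟩ := ((Module.End.isUnit_iff _).1 h).2 1
    rw [IsScalarTower.algebraMap_apply B R' V]
    refine IsUnit.map _ (IsUnit.of_mul_eq_one x ?_)
    rw [← Algebra.smul_def]
    exact hx
  have hva : IsUnit (((IsScalarTower.toAlgHom B R' V).comp π) a) := by
    change IsUnit (algebraMap R' V (π a))
    rw [hf, Algebra.smul_def, map_mul, ← IsScalarTower.algebraMap_apply]
    exact (hS m hm).mul (IsLocalization.Away.algebraMap_isUnit f)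
  let φ : U →ₐ[B] V := IsLocalization.Away.liftAlgHom a (f := (IsScalarTower.toAlgHom B R' V).comp π) hva
  have hφ : ∀ r, φ (algebraMap R U r) = algebraMap R' V (π r) := fun r =>
    IsLocalization.Away.lift_eq a hva r
  refine ⟨φ, ⟨fun c => ?_, fun z => ?_, fun {x y} hxy => ?_⟩⟩
  · rw [Module.End.isUnit_iff]
    obtain ⟨w, hw⟩ := hS c c.2
    refine Function.bijective_iff_has_inverse.2 ⟨fun x => (↑w⁻¹ : V) * x, fun x => ?_, fun x => ?_⟩
    · change (↑w⁻¹ : V) * ((c : B) • x) = x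
      rw [Algebra.smul_def, ← hw, ← mul_assoc, Units.inv_mul, one_mul]
    · change (c : B) • ((↑w⁻¹ : V) * x) = x
      rw [Algebra.smul_def, ← hw, ← mul_assoc, Units.mul_inv, one_mul]
  · obtain ⟨k, r, hr⟩ := IsLocalization.Away.surj f z
    obtain ⟨⟨r₀, c⟩, hc⟩ := IsLocalizedModule.surj S π.toLinearMap r
    change (c : B) • r = π r₀ at hc
    obtain ⟨w, hw⟩ := IsLocalization.Away.algebraMap_pow_isUnit (S := U) a k
    refine ⟨(algebraMap R U (m ^ k • r₀) * (↑w⁻¹ : U), c), ?_⟩
    change (c : B) • z = φ (algebraMap R U (m ^ k • r₀) * (↑w⁻¹ : U))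
    have hk : IsUnit (φ (algebraMap R U a ^ k)) := (hw ▸ w.isUnit).map φ
    refine hk.mul_right_cancel ?_
    rw [← map_mul φ, mul_assoc, ← hw, Units.inv_mul, mul_one, hw, map_pow, hφ, hφ, hf]
    rw [map_smul π, ← hc]
    simp only [Algebra.smul_def, map_mul, map_pow, mul_pow, ← IsScalarTower.algebraMap_apply]
    rw [← hr]
    ring
  · change φ x = φ y at hxy
    obtain ⟨k, r, hr⟩ := IsLocalization.Away.surj a (x - y)
    have h0 : algebraMap R' V (π r) = 0 := by
      rw [← hφ, ← hr, map_mul, map_sub, hxy, sub_self, zero_mul]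
    obtain ⟨j, hj⟩ := IsLocalization.Away.exists_of_eq f (h0.trans (map_zero (algebraMap R' V)).symm)
    rw [mul_zero] at hj
    have h1 : π (a ^ j * r) = 0 := by
      rw [map_mul, map_pow, hf, smul_pow, smul_mul_assoc, hj, smul_zero]
    obtain ⟨c, hc⟩ := IsLocalizedModule.exists_of_eq (S := S) (f := π.toLinearMap)
      (x₁ := a ^ j * r) (x₂ := 0) (by simpa using h1)
    rw [smul_zero] at hc
    refine ⟨c, ?_⟩
    have hu : IsUnit (algebraMap R U a ^ (j + k)) := IsLocalization.Away.algebraMap_pow_isUnit a _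
    rw [← sub_eq_zero, ← smul_sub, ← hu.mul_left_eq_zero]
    have : (c : B) • ((x - y) * algebraMap R U a ^ (j + k)) = 0 := by
      rw [pow_add, mul_left_comm, hr, ← map_pow, ← map_mul,
        ← IsScalarTower.algebraMap_smul R (c : B), Algebra.smul_def, ← map_mul,
        ← Algebra.smul_def]
      change algebraMap R U ((c : B) • (a ^ j * r)) = 0
      rw [show ((c : B) • (a ^ j * r)) = 0 from hc, map_zero]
    rw [← smul_mul_assoc] at this
    exact this

omit lam in
/-- The unit ideal is reached away from one denominator. -/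
theorem exists_smul_one_mem [IsLocalizedModule S π.toLinearMap] (I : Ideal R)
    (hI : I.map π = ⊤) : ∃ m ∈ S, m • (1 : R) ∈ I := by
  have key : ∀ x ∈ I.map π, ∃ m : S, ∃ r ∈ I, (m : B) • x = π r := by
    intro x hx
    induction hx using Submodule.span_induction with
    | mem y hy => obtain ⟨r, hr, rfl⟩ := hy; exact ⟨1, r, hr, by simp⟩
    | zero => exact ⟨1, 0, I.zero_mem, by simp⟩
    | add x y _ _ hx hy =>
      obtain ⟨m, r, hr, hmx⟩ := hx
      obtain ⟨m', r', hr', hmy⟩ := hy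
      refine ⟨m * m', (m' : B) • r + (m : B) • r',
        I.add_mem (I.smul_of_tower_mem _ hr) (I.smul_of_tower_mem _ hr'), ?_⟩
      rw [map_add, map_smul, map_smul, ← hmx, ← hmy, smul_add, Submonoid.coe_mul, mul_smul, mul_smul,
        smul_comm (m : B) (m' : B) x]
    | smul a x _ hx =>
      obtain ⟨m, r, hr, hmx⟩ := hx
      obtain ⟨⟨a₀, m'⟩, hma⟩ := IsLocalizedModule.surj S π.toLinearMap a
      change (m' : B) • a = π a₀ at hma
      refine ⟨m' * m, a₀ * r, I.mul_mem_left _ hr, ?_⟩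
      rw [map_mul, ← hma, ← hmx, Submonoid.coe_mul, smul_eq_mul, smul_mul_smul_comm]
  obtain ⟨m, r, hr, hmr⟩ := key 1 (by rw [hI]; trivial)
  obtain ⟨c, hc⟩ := IsLocalizedModule.exists_of_eq (S := S) (f := π.toLinearMap)
    (x₁ := (m : B) • (1 : R)) (x₂ := r) (by simpa using hmr)
  refine ⟨c * m, mul_mem c.2 m.2, ?_⟩
  rw [mul_smul]
  have : (c : B) • ((m : B) • (1 : R)) = (c : B) • r := hc
  rw [this]
  exact I.smul_of_tower_mem _ hr

end Loc

section Sqrt

/-- Adjoining square roots. -/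
abbrev Q {l : ℕ} {B' : Type u} [CommRing B'] (s : Fin l → B') : Type u :=
  MvPolynomial (Fin l) B' ⧸ Ideal.span (Set.range fun k : Fin l => MvPolynomial.X k ^ 2 - MvPolynomial.C (s k))

variable {l : ℕ} {B₁ B₂ : Type u} [CommRing B₁] [Algebra B B₁] [CommRing B₂] [Algebra B B₂]
  (χ : B₁ →ₐ[B] B₂) {s₁ : Fin l → B₁} {s₂ : Fin l → B₂} (hs : ∀ k, χ (s₁ k) = s₂ k)

/-- The map of coefficient rings on square root algebras. -/
noncomputable def qmap : Q s₁ →ₐ[B] Q s₂ :=
  Ideal.quotientMapₐ _ (MvPolynomial.mapAlgHom χ) <| by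
    rw [Ideal.span_le]
    rintro _ ⟨k, rfl⟩
    refine Ideal.subset_span ⟨k, ?_⟩
    simp [hs k]

omit lam in
theorem qmap_mk (P : MvPolynomial (Fin l) B₁) :
    qmap χ hs (Ideal.Quotient.mk _ P) = Ideal.Quotient.mk _ (MvPolynomial.map (χ : B₁ →+* B₂) P) := rfl

variable {S : Submonoid B}

omit lam in
theorem poly_surj (hsurj : ∀ x, ∃ m ∈ S, ∃ x₀, m • x = χ x₀) (P : MvPolynomial (Fin l) B₂) :
    ∃ m ∈ S, ∃ P₀, m • P = MvPolynomial.map (χ : B₁ →+* B₂) P₀ := by
  induction P using MvPolynomial.induction_on with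
  | C x =>
    obtain ⟨m, hm, x₀, hx⟩ := hsurj x
    exact ⟨m, hm, MvPolynomial.C x₀, by rw [MvPolynomial.map_C, ← AlgHom.toRingHom_eq_coe, AlgHom.toRingHom_eq_coe, RingHom.coe_coe, ← hx]; ext d; simp [MvPolynomial.coeff_C, smul_ite]⟩
  | add P P' hP hP' =>
    obtain ⟨m, hm, P₀, hP⟩ := hP
    obtain ⟨m', hm', P₀', hP'⟩ := hP'
    refine ⟨m * m', mul_mem hm hm', m' • P₀ + m • P₀', ?_⟩
    change _ = MvPolynomial.mapAlgHom χ _
    rw [map_add, map_smul, map_smul, MvPolynomial.mapAlgHom_apply, MvPolynomial.mapAlgHom_apply,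
      ← hP, ← hP', smul_add, mul_smul, mul_smul, smul_comm m m' P]
  | mul_X P i hP =>
    obtain ⟨m, hm, P₀, hP⟩ := hP
    exact ⟨m, hm, P₀ * MvPolynomial.X i, by rw [map_mul, MvPolynomial.map_X, ← hP, smul_mul_assoc]⟩

omit lam in
theorem poly_eq (heq : ∀ x, χ x = 0 → ∃ m ∈ S, m • x = 0) (P : MvPolynomial (Fin l) B₁)
    (hP : MvPolynomial.map (χ : B₁ →+* B₂) P = 0) : ∃ m ∈ S, m • P = 0 := by
  classical
  choose c hcS hc using fun d => heq (P.coeff d) (by
    have := congrArg (MvPolynomial.coeff d) hP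
    simpa [MvPolynomial.coeff_map] using this)
  refine ⟨∏ d ∈ P.support, c d, Submonoid.prod_mem _ fun d _ => hcS d, MvPolynomial.ext _ _ fun d => ?_⟩
  rw [MvPolynomial.coeff_smul, MvPolynomial.coeff_zero]
  by_cases hd : d ∈ P.support
  · obtain ⟨e, he⟩ := Finset.dvd_prod_of_mem c hd
    rw [he, mul_comm, mul_smul, hc d, smul_zero]
  · rw [MvPolynomial.notMem_support_iff.1 hd, smul_zero]

omit lam in
/-- Adjoining square roots commutes with localisation. -/
theorem localized_qmap (hunit : ∀ m ∈ S, IsUnit (algebraMap B B₂ m))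
    (hsurj : ∀ x, ∃ m ∈ S, ∃ x₀, m • x = χ x₀) (heq : ∀ x, χ x = 0 → ∃ m ∈ S, m • x = 0) :
    IsLocalizedModule S (qmap χ hs).toLinearMap := by
  refine ⟨fun c => ?_, fun z => ?_, fun {x y} hxy => ?_⟩
  · rw [Module.End.isUnit_iff]
    obtain ⟨w, hw⟩ := (hunit c c.2).map (algebraMap B₂ (Q s₂))
    rw [← IsScalarTower.algebraMap_apply] at hw
    have hmul : ∀ x : Q s₂, (c : B) • x = (w : Q s₂) * x := by
      intro x
      obtain ⟨P, rfl⟩ := Ideal.Quotient.mk_surjective x
      rw [hw]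
      exact congrArg (Ideal.Quotient.mk _) (Algebra.smul_def (c : B) P)
    refine Function.bijective_iff_has_inverse.2 ⟨fun x => (↑w⁻¹ : Q s₂) * x, fun x => ?_, fun x => ?_⟩
    · change (↑w⁻¹ : Q s₂) * ((c : B) • x) = x
      rw [hmul, ← mul_assoc, Units.inv_mul, one_mul]
    · change (c : B) • ((↑w⁻¹ : Q s₂) * x) = x
      rw [hmul, ← mul_assoc, Units.mul_inv, one_mul]
  · obtain ⟨P, rfl⟩ := Ideal.Quotient.mk_surjective z
    obtain ⟨m, hm, P₀, hP⟩ := poly_surj χ hsurj P
    refine ⟨(Ideal.Quotient.mk _ P₀, ⟨m, hm⟩), ?_⟩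
    change m • Ideal.Quotient.mk _ P = qmap χ hs (Ideal.Quotient.mk _ P₀)
    rw [qmap_mk, ← hP]
    exact (map_smul (Ideal.Quotient.mkₐ B _) m P).symm
  · obtain ⟨D, hD⟩ := Ideal.Quotient.mk_surjective (x - y)
    have h1 : qmap χ hs (Ideal.Quotient.mk _ D) = 0 := by
      rw [hD, map_sub, sub_eq_zero]; exact hxy
    rw [qmap_mk, Ideal.Quotient.eq_zero_iff_mem, Ideal.mem_span_range_iff_exists_fun] at h1
    obtain ⟨q, hq⟩ := h1
    choose m hm q₀ hq₀ using fun k => poly_surj χ hsurj (q k)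
    let M := ∏ k, m k
    let rel : Fin l → MvPolynomial (Fin l) B₁ := fun k => MvPolynomial.X k ^ 2 - MvPolynomial.C (s₁ k)
    let e : Fin l → B := fun k => ∏ j ∈ Finset.univ.erase k, m j
    have he : ∀ k, e k * m k = M := fun k => Finset.prod_erase_mul _ _ (Finset.mem_univ k)
    have h2 : MvPolynomial.mapAlgHom χ (M • D - ∑ k, e k • (q₀ k * rel k)) = 0 := by
      rw [map_sub, map_sum, map_smul, sub_eq_zero, MvPolynomial.mapAlgHom_apply, ← hq, Finset.smul_sum]
      refine Finset.sum_congr rfl fun k _ => ?_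
      rw [map_smul, map_mul, MvPolynomial.mapAlgHom_apply, ← hq₀ k, ← he k, mul_smul, smul_mul_assoc]
      congr 3
      simp [rel, hs k]
    obtain ⟨c, hc, hc0⟩ := poly_eq χ heq _ h2
    refine ⟨⟨c * M, mul_mem hc (Submonoid.prod_mem _ fun k _ => hm k)⟩, ?_⟩
    change (c * M) • x = (c * M) • y
    rw [← sub_eq_zero, ← smul_sub, ← hD]
    change (c * M) • Ideal.Quotient.mkₐ B _ D = 0
    rw [← map_smul, Ideal.Quotient.mkₐ_eq_mk, Ideal.Quotient.eq_zero_iff_mem]
    rw [smul_sub, sub_eq_zero, ← mul_smul] at hc0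
    rw [hc0]
    exact Submodule.smul_of_tower_mem _ c (Submodule.sum_mem _ fun k _ => Submodule.smul_of_tower_mem _ _
      (Ideal.mul_mem_left _ _ (Ideal.subset_span ⟨k, rfl⟩)))

end Sqrt

end AzInvLib.SpreadAway
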