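import Groth.Agent.AzInvLib.Global
import Groth.Agent.AzInvLib.Branch

/-! The two types at a point and their comparison. -/

set_option autoImplicit false

namespace AzInvLib

universe u v w w'

open scoped TensorProduct
open IsLocalRing Matrix

variable {S : Type u} {R : Type v} [CommRing S] [CommRing R] [Algebra S R] {lam : R ≃ₐ[S] R}
  {A : Type w} [Ring A] [Algebra S A] [Algebra R A] [IsScalarTower S R A]
  {A' : Type w'} [Ring A'] [Algebra S A'] [Algebra R A'] [IsScalarTower S R A']
  {T : Type u} [CommRing T] [Algebra S T]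

/-- Matrix algebras over isomorphic algebras with involution. -/
noncomputable def Iso.matrix {t : AzInv.LamInv R A lam} {t' : AzInv.LamInv R A' lam}
    (i : Iso T (t.linS S lam) (t'.linS S lam) R) (m : Type) [Fintype m] [DecidableEq m] :
    Iso T ((t.matrix m).linS S lam) ((t'.matrix m).linS S lam) R :=
  let θA := AlgEquiv.ofBijective _ (theta_bijective (S := S) T A m)
  let θA' := AlgEquiv.ofBijective _ (theta_bijective (S := S) T A' m)
  Iso.ofEquiv (θA.trans (i.toEquiv.mapMatrix.trans θA'.symm))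
    (fun r => by
      show θA'.symm (i.toEquiv.mapMatrix (θA ((1 : T) ⊗ₜ algebraMap R (Matrix m m A) r))) = _
      rw [AlgEquiv.symm_apply_eq]
      ext a b
      show i.toEquiv (theta T A m ((1 : T) ⊗ₜ algebraMap R (Matrix m m A) r) a b) =
        theta T A' m ((1 : T) ⊗ₜ algebraMap R (Matrix m m A') r) a b
      rw [theta_tmul, theta_tmul, Matrix.algebraMap_matrix_apply, Matrix.algebraMap_matrix_apply]
      split_ifs
      · rw [i.toEquiv_apply, ext_one_tmul, i.scal]
      · simp)
    (fun M => by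
      show θA'.symm (i.toEquiv.mapMatrix (θA ((1 : T) ⊗ₜ (t.matrix m).linS S lam M))) =
        ((t'.matrix m).linS S lam).lTensor T (θA'.symm (i.toEquiv.mapMatrix (θA ((1 : T) ⊗ₜ M))))
      rw [AlgEquiv.symm_apply_eq]
      ext a b
      have key : ∀ z : T ⊗[S] Matrix m m A', theta T A' m (((t'.matrix m).linS S lam).lTensor T z) a b =
          (t'.linS S lam).lTensor T (theta T A' m z b a) := fun z => by
        induction z with
        | zero => simp
        | add p q hp hq => simp only [map_add, Matrix.add_apply, hp, hq]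
        | tmul s N => simp [theta_tmul]
      show i.toEquiv (theta T A m ((1 : T) ⊗ₜ (t.matrix m).linS S lam M) a b) =
        theta T A' m (((t'.matrix m).linS S lam).lTensor T (θA'.symm (i.toEquiv.mapMatrix (θA ((1 : T) ⊗ₜ M))))) a b
      rw [key]
      show _ = (t'.linS S lam).lTensor T (θA' (θA'.symm (i.toEquiv.mapMatrix (θA ((1 : T) ⊗ₜ M)))) b a)
      rw [AlgEquiv.apply_symm_apply]
      show _ = (t'.linS S lam).lTensor T (i.toEquiv (theta T A m ((1 : T) ⊗ₜ M) b a))
      rw [theta_tmul, theta_tmul, i.toEquiv_apply, i.toEquiv_apply, ext_one_tmul, ext_one_tmul]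
      exact i.inter (M b a))

variable (hlam : ∀ r, lam (lam r) = r)

variable (T) in
/-- Orthogonal models: reindexing. -/
noncomputable def posReindex {ι ι' : Type} [Fintype ι] [DecidableEq ι] [Fintype ι'] [DecidableEq ι']
    (e : ι ≃ ι') : Iso T ((AzInv.LamInv.transpose lam ι hlam).linS S lam)
      ((AzInv.LamInv.transpose lam ι' hlam).linS S lam) R :=
  Iso.ofAlgEquiv T (Matrix.reindexAlgEquiv R R e) fun x => by ext i j; simp

variable (T) in
/-- Orthogonal models: matrices. -/
noncomputable def posMatrix (m ι : Type) [Fintype m] [DecidableEq m] [Fintype ι] [DecidableEq ι] :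
    Iso T (((AzInv.LamInv.transpose lam ι hlam).matrix m).linS S lam)
      ((AzInv.LamInv.transpose lam (m × ι) hlam).linS S lam) R :=
  Iso.ofAlgEquiv T (Matrix.compAlgEquiv m ι R R) fun x => by ext ⟨i, a⟩ ⟨j, b⟩; rfl

theorem negInv_entry {κ : Type} [Fintype κ] [DecidableEq κ] (x : Matrix (κ × Fin 2) (κ × Fin 2) R)
    (k l : κ) (i j : Fin 2) :
    negInv lam hlam κ x (k, i) (l, j) =
      (if i = 0 then -1 else 1) * (if j = 0 then -1 else 1) * lam (x (l, j + 1) (k, i + 1)) := by
  rw [negInv_apply, Matrix.mul_apply, Fintype.sum_prod_type]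
  simp only [Matrix.mul_apply, Fintype.sum_prod_type, Fin.sum_univ_two]
  fin_cases i <;> fin_cases j <;>
    simp [Jm, J0, Matrix.blockDiagonal_apply, st_apply]

variable (T) in
/-- Symplectic models: reindexing. -/
noncomputable def negReindex {κ κ' : Type} [Fintype κ] [DecidableEq κ] [Fintype κ'] [DecidableEq κ']
    (e : κ ≃ κ') : Iso T ((negInv lam hlam κ).linS S lam) ((negInv lam hlam κ').linS S lam) R :=
  Iso.ofAlgEquiv T (Matrix.reindexAlgEquiv R R (e.prodCongr (Equiv.refl (Fin 2)))) fun x => by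
    ext ⟨k, i⟩ ⟨l, j⟩; simp [negInv_entry]

variable (T) in
/-- Symplectic models: matrices. -/
noncomputable def negMatrix (m κ : Type) [Fintype m] [DecidableEq m] [Fintype κ] [DecidableEq κ] :
    Iso T (((negInv lam hlam κ).matrix m).linS S lam) ((negInv lam hlam (m × κ)).linS S lam) R :=
  Iso.ofAlgEquiv T ((Matrix.compAlgEquiv m (κ × Fin 2) R R).trans
    (Matrix.reindexAlgEquiv R R (Equiv.prodAssoc m κ (Fin 2)).symm)) fun x => by
    ext ⟨⟨a, k⟩, i⟩ ⟨⟨b, l⟩, j⟩; simp [negInv_entry]

theorem theta_neg {κ : Type} [Fintype κ] [DecidableEq κ] (z : T ⊗[S] Matrix (κ × Fin 2) (κ × Fin 2) R) :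
    theta T R (κ × Fin 2) (((negInv lam hlam κ).linS S lam).lTensor T z) =
      Jm (T ⊗[S] R) κ * st (bcLam lam T).toRingEquiv (theta T R (κ × Fin 2) z) * -Jm (T ⊗[S] R) κ := by
  induction z with
  | zero => simp [show st (bcLam lam T).toRingEquiv (0 : Matrix (κ × Fin 2) (κ × Fin 2) (T ⊗[S] R)) = 0 by
      ext; simp [st_apply]]
  | add p q hp hq =>
    rw [map_add, map_add, hp, hq, map_add,
      show ∀ M N : Matrix (κ × Fin 2) (κ × Fin 2) (T ⊗[S] R), st (bcLam lam T).toRingEquiv (M + N) =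
        st (bcLam lam T).toRingEquiv M + st (bcLam lam T).toRingEquiv N from fun M N => by ext; simp [st_apply],
      Matrix.mul_add, Matrix.add_mul]
  | tmul b M =>
    rw [LinearMap.lTensor_tmul, AzInv.LamInv.linS_apply, negInv_apply]
    have e : ∀ K : Matrix (κ × Fin 2) (κ × Fin 2) R, theta T R _ ((1 : T) ⊗ₜ[S] K) =
        K.map (Algebra.TensorProduct.includeRight : R →ₐ[S] T ⊗[S] R).toRingHom := fun K => by
      ext i j; exact theta_tmul T R _ 1 K i j
    have e1 : ∀ K : Matrix (κ × Fin 2) (κ × Fin 2) R, b ⊗ₜ[S] K = b • ((1 : T) ⊗ₜ[S] K) := fun K => by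
      rw [TensorProduct.smul_tmul', smul_eq_mul, mul_one]
    rw [e1 (Jm R κ * _ * _), e1 M, map_smul, map_smul, e, e, Matrix.map_mul, Matrix.map_mul,
      show ∀ (K : Matrix (κ × Fin 2) (κ × Fin 2) R) (f : R →+* T ⊗[S] R), (-K).map f = -(K.map f) from
        fun K f => by ext; simp, Jm_map]
    have e2 : st (bcLam lam T).toRingEquiv (b • M.map (Algebra.TensorProduct.includeRight : R →ₐ[S] T ⊗[S] R).toRingHom) =
        b • (st lam.toRingEquiv M).map (Algebra.TensorProduct.includeRight : R →ₐ[S] T ⊗[S] R).toRingHom := by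
      ext i j
      simp [st_apply, map_smul, bcLam_tmul]
    rw [e2, Matrix.mul_smul, Matrix.smul_mul]

section Point

variable [HenselianLocalRing T] [IsSepClosed (ResidueField T)] [Module.Flat S T]

omit [IsSepClosed (ResidueField T)] in
theorem exists_matrix_map (hS : RInv.IsFixedRing S R lam.toRingEquiv) {ι ι' : Type} [Fintype ι]
    [DecidableEq ι] [Fintype ι'] [DecidableEq ι'] {σ : Matrix ι ι R →ₗ[S] Matrix ι ι R}
    {σ' : Matrix ι' ι' R →ₗ[S] Matrix ι' ι' R} (i : Iso T σ σ' R) :
    ∃ g : Matrix ι ι (T ⊗[S] R) ≃ₐ[T ⊗[S] R] Matrix ι' ι' (T ⊗[S] R),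
      ∀ z, g (theta T R ι z) = theta T R ι' (i.toEquiv z) := by
  let θ := AlgEquiv.ofBijective _ (theta_bijective (S := S) T R ι)
  let θ' := AlgEquiv.ofBijective _ (theta_bijective (S := S) T R ι')
  let g₀ : Matrix ι ι (T ⊗[S] R) ≃ₐ[T] Matrix ι' ι' (T ⊗[S] R) := θ.symm.trans (i.toEquiv.trans θ')
  have hg : ∀ z, g₀ (θ z) = θ' (i.toEquiv z) := fun z => by simp [g₀]
  refine ⟨AlgEquiv.ofRingEquiv (f := g₀.toRingEquiv) fun c => ?_, hg⟩
  show g₀ _ = _
  induction c with
  | zero => simp
  | add a b ha hb => rw [map_add, map_add, ha, hb, map_add]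
  | tmul t r =>
    have e : ∀ (ν : Type) [Fintype ν] [DecidableEq ν],
        algebraMap (T ⊗[S] R) (Matrix ν ν (T ⊗[S] R)) (t ⊗ₜ[S] r) =
          t • theta T R ν ((1 : T) ⊗ₜ[S] algebraMap R (Matrix ν ν R) r) := fun ν _ _ => by
      rw [theta_scalar, Algebra.algebraMap_eq_smul_one, Algebra.algebraMap_eq_smul_one, ← smul_assoc,
        TensorProduct.smul_tmul', smul_eq_mul, mul_one]
    rw [e ι, e ι', map_smul]
    congr 1
    exact (hg _).trans (congrArg θ' ((i.toEquiv_apply _).trans ((ext_one_tmul _ _).trans (i.scal r))))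

include hlam in
omit [IsSepClosed (ResidueField T)] in
theorem card_eq_of_iso (hS : RInv.IsFixedRing S R lam.toRingEquiv) {ι ι' : Type} [Fintype ι] [DecidableEq ι]
    [Fintype ι'] [DecidableEq ι'] {σ : Matrix ι ι R →ₗ[S] Matrix ι ι R}
    {σ' : Matrix ι' ι' R →ₗ[S] Matrix ι' ι' R} (i : Iso T σ σ' R) :
    Fintype.card ι = Fintype.card ι' := by
  obtain ⟨g, -⟩ := exists_matrix_map hS i
  haveI := nontrivial (isFixedRing_bc T hlam hS (Or.inl inferInstance))
  have h := g.toLinearEquiv.finrank_eq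
  rw [Module.finrank_matrix, Module.finrank_matrix, Module.finrank_self, mul_one, mul_one] at h
  exact Nat.mul_self_inj.1 h

theorem not_iso_pos_neg (hS : RInv.IsFixedRing S R lam.toRingEquiv)
    (hno : ∀ a : T ⊗[S] R, ¬ IsUnit (a - bcLam lam T a)) (h2 : IsUnit (2 : T)) {ι κ : Type} [Fintype ι]
    [DecidableEq ι] [Nonempty ι] [Fintype κ] [DecidableEq κ]
    (h : IsoOver R T ((AzInv.LamInv.transpose lam ι hlam).linS S lam) ((negInv lam hlam κ).linS S lam)) :
    False := by
  obtain ⟨i₀⟩ := h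
  let e : κ × Fin 2 ≃ ι := Fintype.equivOfCardEq (card_eq_of_iso hlam hS i₀).symm
  let i := (posReindex T hlam e).trans i₀
  haveI := finite_maximal (T := T) hlam hS
  have hfix := isFixedRing_bc T hlam hS (Or.inl inferInstance)
  have hlam' := bcLam_invol T hlam (lam := lam)
  set l := (bcLam lam T).toRingEquiv with hl
  obtain ⟨g, hg⟩ := exists_matrix_map hS i
  have hgs : ∀ x, g (st l x) = Jm (T ⊗[S] R) κ * st l (g x) * -Jm (T ⊗[S] R) κ := fun x => by
    obtain ⟨z, rfl⟩ := (theta_bijective (S := S) T R (κ × Fin 2)).2 x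
    rw [← theta_st (lam := lam) z ((AzInv.LamInv.transpose lam (κ × Fin 2) hlam).linS S lam) fun M => rfl,
      hg, hg, i.toEquiv_apply, i.ext_inter, theta_neg]
    rfl
  haveI : Nonempty (κ × Fin 2) := e.nonempty
  haveI : IsAzumaya (T ⊗[S] R) (Matrix (κ × Fin 2) (κ × Fin 2) (T ⊗[S] R)) := IsAzumaya.matrix _ _
  obtain ⟨u, hu⟩ := inner_of_finite_maximal g
  set J := Jm (T ⊗[S] R) κ
  set U : Matrix (κ × Fin 2) (κ × Fin 2) (T ⊗[S] R) := (u : Matrix (κ × Fin 2) (κ × Fin 2) (T ⊗[S] R))
  set V : Matrix (κ × Fin 2) (κ × Fin 2) (T ⊗[S] R) := (↑u⁻¹ : Matrix (κ × Fin 2) (κ × Fin 2) (T ⊗[S] R))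
  have hUV : U * V = 1 := u.mul_inv
  have hVU : V * U = 1 := u.inv_mul
  have hsUV : st l V * st l U = 1 := by rw [← st_mul, hUV, st_one]
  have hsVU : st l U * st l V = 1 := by rw [← st_mul, hVU, st_one]
  have hJJ : J * J = -1 := Jm_mul_self
  set Q := st l U * (-J) * U with hQ
  set P := V * J * st l V with hP
  have hQP : Q * P = 1 := by
    calc Q * P = st l U * ((-J) * (U * V) * J) * st l V := by simp only [hQ, hP, mul_assoc]
      _ = 1 := by rw [hUV, mul_one, neg_mul, hJJ, neg_neg, mul_one, hsVU]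
  have hcomm : ∀ y, Commute Q y := fun y => by
    have h1 := hgs (st l y)
    rw [st_st l hlam', hu, hu, st_mul, st_mul, st_st l hlam'] at h1
    -- `V * (U y V) * U = y`
    have h3 : y = P * y * Q := by
      calc y = (V * U) * y * (V * U) := by rw [hVU, one_mul, mul_one]
        _ = V * (U * y * V) * U := by simp only [mul_assoc]
        _ = V * (J * (st l V * (y * st l U)) * -J) * U := by rw [h1]
        _ = P * y * Q := by simp only [hQ, hP, mul_assoc]
    show Q * y = y * Q
    calc Q * y = Q * (P * y * Q) := by rw [← h3]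
      _ = (Q * P) * (y * Q) := by simp only [mul_assoc]
      _ = y * Q := by rw [hQP, one_mul]
  obtain ⟨c, hc⟩ := Matrix.mem_range_scalar_iff_commute_single'.2 fun a b => (hcomm (Matrix.single a b 1)).symm
  have hQu : IsUnit Q := IsUnit.of_mul_eq_one P hQP
  obtain ⟨x₀⟩ := ‹Nonempty (κ × Fin 2)›
  have hcu : IsUnit c := by
    rw [← hc, Matrix.scalar_apply, Matrix.isUnit_iff_isUnit_det, Matrix.det_diagonal] at hQu
    exact IsUnit.prod_univ_iff.1 hQu x₀
  have hstQ : st l Q = -Q := by
    have hneg : ∀ M : Matrix (κ × Fin 2) (κ × Fin 2) (T ⊗[S] R), st l (-M) = -st l M := fun M => by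
      ext; simp [st_apply]
    rw [hQ, st_mul, st_mul, st_st l hlam', hneg, Jm_st, neg_neg]
    simp only [Matrix.mul_neg, Matrix.neg_mul, neg_neg, mul_assoc]
    rfl
  have hlc : l c = -c := by
    rw [← hc, Matrix.scalar_apply] at hstQ
    have := congrFun (congrFun hstQ x₀) x₀
    simpa [st_apply] using this
  refine hno c ?_
  rw [show bcLam lam T c = -c from hlc, sub_neg_eq_add, ← two_mul]
  exact (by simpa [map_ofNat] using h2.map (algebraMap T (T ⊗[S] R)) : IsUnit (2 : T ⊗[S] R)).mul hcu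

end Point

theorem IsPoint.exists_hom {T : Type u} [CommRing T] [Algebra S T] (hT : IsPoint S T) {U : Type u}
    [CommRing U] [Algebra S U] [Algebra.Etale S U]
    (hp : haveI := hT.hens; ⟨(maximalIdeal T).comap (algebraMap S T), inferInstance⟩ ∈
      Set.range (PrimeSpectrum.comap (algebraMap S U))) :
    Nonempty (U →ₐ[S] T) := by
  haveI := hT.hens; haveI := hT.sep
  obtain ⟨q, hq⟩ := hp
  set p := (maximalIdeal T).comap (algebraMap S T) with hpdef
  haveI : p.IsPrime := inferInstance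
  haveI : Nontrivial (ResidueField T ⊗[S] U) := by
    have hqp : q.asIdeal.comap (algebraMap S U) = p := congrArg PrimeSpectrum.asIdeal hq
    haveI : Nontrivial (p.ResidueField ⊗[S] U) := by
      let f : p.ResidueField →ₐ[S] q.asIdeal.ResidueField := Ideal.ResidueField.mapₐ p q.asIdeal (Algebra.ofId S U) hqp.symm
      exact (Algebra.TensorProduct.lift f (IsScalarTower.toAlgHom S U q.asIdeal.ResidueField)
        fun _ _ => Commute.all _ _).toRingHom.domain_nontrivial
    let f : p.ResidueField →ₐ[S] ResidueField T := Ideal.ResidueField.liftₐ p (Algebra.ofId S (ResidueField T))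
      (fun x hx => RingHom.mem_ker.2 <| by
        rw [show Algebra.ofId S (ResidueField T) x = residue T (algebraMap S T x) from rfl]
        exact (residue_eq_zero_iff _).2 hx)
      (fun x hx => by
        show IsUnit (residue T (algebraMap S T x))
        exact (notMem_maximalIdeal.1 hx).map _)
    letI : Algebra p.ResidueField (ResidueField T) := f.toRingHom.toAlgebra
    haveI : IsScalarTower S p.ResidueField (ResidueField T) := IsScalarTower.of_algebraMap_eq fun s => (f.commutes s).symm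
    exact (TensorProduct.AlgebraTensorModule.cancelBaseChange S p.ResidueField (ResidueField T) (ResidueField T) U).symm.toEquiv.nontrivial
  haveI : Nontrivial (ResidueField T ⊗[T] (T ⊗[S] U)) :=
    (TensorProduct.AlgebraTensorModule.cancelBaseChange S T (ResidueField T) (ResidueField T) U).toEquiv.nontrivial
  obtain ⟨π, -⟩ := exists_point (R := T) (T ⊗[S] U)
  exact ⟨(π.restrictScalars S).comp Algebra.TensorProduct.includeRight⟩

theorem IsPoint.exists_hom' {T : Type u} [CommRing T] [Algebra S T] (hT : IsPoint S T) {U : Type u}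
    [CommRing U] [Algebra S U] [Algebra.Etale S U] [Module.FaithfullyFlat S U] :
    Nonempty (U →ₐ[S] T) :=
  hT.exists_hom (PrimeSpectrum.comap_surjective_of_faithfullyFlat _)

end AzInvLib

namespace AzInvLib

universe u

open scoped TensorProduct

variable {R : Type u} [CommRing R]

theorem isFixedRing_refl : RInv.IsFixedRing R R (AlgEquiv.refl : R ≃ₐ[R] R).toRingEquiv :=
  ⟨fun _ _ h => h, fun r => ⟨fun _ => ⟨r, rfl⟩, fun _ => rfl⟩⟩

theorem bcLam_refl (T : Type u) [CommRing T] [Algebra R T] (a : T ⊗[R] R) :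
    bcLam (AlgEquiv.refl : R ≃ₐ[R] R) T a = a := by
  induction a with
  | zero => simp
  | add a b ha hb => rw [map_add, ha, hb]
  | tmul s r => simp

theorem not_unit_diff_refl (T : Type u) [CommRing T] [Algebra R T] [Nontrivial T] (a : T ⊗[R] R) :
    ¬ IsUnit (a - bcLam (AlgEquiv.refl : R ≃ₐ[R] R) T a) := by
  rw [bcLam_refl, sub_self]
  haveI : Nontrivial (T ⊗[R] R) := (Algebra.TensorProduct.rid R R T).toEquiv.nontrivial
  exact not_isUnit_zero

/-- The standard symplectic involution of `2 × 2` matrices is the symplectic model. -/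
noncomputable def stdSymplectic (T : Type u) [CommRing T] [Algebra R T]
    (hlam : ∀ r : R, (AlgEquiv.refl : R ≃ₐ[R] R) ((AlgEquiv.refl : R ≃ₐ[R] R) r) = r)
    (J : (Matrix (Fin 2) (Fin 2) R)ˣ) (hJ : (↑J : Matrix (Fin 2) (Fin 2) R) = Matrix.of ![![0, -1], ![1, 0]])
    (hJt : AzInv.LamInv.transpose (AlgEquiv.refl : R ≃ₐ[R] R) (Fin 2) hlam (↑J : Matrix (Fin 2) (Fin 2) R) = (-1 : R) • (↑J : Matrix (Fin 2) (Fin 2) R))
    (hneg : (AlgEquiv.refl : R ≃ₐ[R] R) (-1) * (-1) = 1) :
    Iso T (((AzInv.LamInv.transpose (AlgEquiv.refl : R ≃ₐ[R] R) (Fin 2) hlam).conj J (-1) hJt hneg).linS R (AlgEquiv.refl : R ≃ₐ[R] R))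
      ((negInv (AlgEquiv.refl : R ≃ₐ[R] R) hlam (Fin 1)).linS R (AlgEquiv.refl : R ≃ₐ[R] R)) R :=
  Iso.ofAlgEquiv T (Matrix.reindexAlgEquiv R R (Equiv.uniqueProd (Fin 2) (Fin 1)).symm) fun x => by
    have hJi : ((J⁻¹ : (Matrix (Fin 2) (Fin 2) R)ˣ) : Matrix (Fin 2) (Fin 2) R) = Matrix.of ![![0, 1], ![-1, 0]] := by
      refine (Units.inv_eq_of_mul_eq_one_right ?_)
      rw [hJ]
      ext i j; fin_cases i <;> fin_cases j <;> simp [Matrix.mul_apply, Fin.sum_univ_two]
    ext ⟨k, i⟩ ⟨l, j⟩
    simp only [AzInv.LamInv.linS_apply, negInv_entry, Matrix.reindexAlgEquiv_apply, Matrix.reindex_apply,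
      Matrix.submatrix_apply, Equiv.symm_symm, Equiv.uniqueProd_apply, AzInv.LamInv.conj_apply, Matrix.mul_apply, Fin.sum_univ_two,
      AzInv.LamInv.transpose_apply, hJ, hJi]
    fin_cases i <;> fin_cases j <;>
      simp

end AzInvLib
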